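/-
A symmetric and an alternating space: the setting, reflections, and linear algebra of the first factor.
-/
import Cfsg.Agent.Lib.Classical.TensorMax.Form.SpTools

set_option autoImplicit false
set_option linter.unusedSectionVars false

namespace Cfsg.Agent.Classical.TensorMax.SpO

open Matrix Module Cfsg.Geo
open Cfsg.Agent.Classical Cfsg.Agent.Classical.TensorMax Cfsg.Agent.Classical.TensorMax.Form

variable {α β : Type} [Fintype α] [DecidableEq α] [Fintype β] [DecidableEq β] {F : Type*} [Field F]
variable {fo : (α → F) → (α → F) → F} {fs : (β → F) → (β → F) → F} {X : Subgroup (GL (α × β) F)}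

local notation:max g:max " ⬝ₘ " x:max => ((g : GL (α × β) F) : Matrix (α × β) (α × β) F) *ᵥ x

/-- The central element attached to the fibre of `o` and an operator of the first factor. -/
def InC (fs : (β → F) → (β → F) → F) (X : Subgroup (GL (α × β) F)) (o : β → F) (L : (α → F) → α → F) : Prop :=
  ∃ g ∈ X, ∀ x, (g : Matrix (α × β) (α × β) F) *ᵥ x = x + tm (L (ctr fs o x)) o

/-- The symmetrised dyad. -/
def sd (fo : (α → F) → (α → F) → F) (v u : α → F) : (α → F) → α → F := fun x => fo x u • v + fo x v • u

/-- The symmetric form has no totally isotropic plane. -/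
def Aniso (fo : (α → F) → (α → F) → F) : Prop :=
  ∀ U : Submodule F (α → F), (∀ a ∈ U, ∀ b ∈ U, fo a b = 0) → Module.finrank F U ≤ 1

/-- The setting: a symmetric and an alternating factor, and a group without transvections at singular pure
tensors that contains all isometric Kronecker products. -/
structure Ctx (fo : (α → F) → (α → F) → F) (fs : (β → F) → (β → F) → F) (X : Subgroup (GL (α × β) F)) : Prop where
  o : IsReflexForm (RingEquiv.refl F) 1 fo
  s : SForm fs
  h2 : (2 : F) ≠ 0
  dim : 3 ≤ Fintype.card α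
  hex : (∃ a : F, a ≠ 0 ∧ a ^ 2 ≠ 1) ∨ 4 ≤ Fintype.card α
  iso : ∀ g ∈ X, ∀ x y, tf (RingEquiv.refl F) fo fs ((g : Matrix (α × β) (α × β) F) *ᵥ x)
    ((g : Matrix (α × β) (α × β) F) *ᵥ y) = tf (RingEquiv.refl F) fo fs x y
  small : ∀ g ∈ Kr α β F, (∀ x y, tf (RingEquiv.refl F) fo fs ((g : Matrix (α × β) (α × β) F) *ᵥ x)
    ((g : Matrix (α × β) (α × β) F) *ᵥ y) = tf (RingEquiv.refl F) fo fs x y) → g ∈ X
  noTv : ∀ (e : α → F) (o : β → F), e ≠ 0 → o ≠ 0 → fo e e = 0 →
    ¬ ∀ c : F, InC fs X o fun a => (c * fo a e) • e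

variable (C : Ctx fo fs X)

include C

theorem Ctx.data : Data (RingEquiv.refl F) 1 (-1) fo fs := ⟨C.o, C.s.refl⟩

theorem Ctx.symm (u v : α → F) : fo v u = fo u v := by
  rw [C.o.swap u v, one_mul]; rfl

theorem Ctx.add_left (u v w : α → F) : fo (u + v) w = fo u w + fo v w := C.o.semi.add_left u v w

theorem Ctx.add_right (u v w : α → F) : fo u (v + w) = fo u v + fo u w := C.o.semi.add_right u v w

theorem Ctx.smul_left (c : F) (u v : α → F) : fo (c • u) v = c * fo u v := C.o.semi.smul_left c u v

theorem Ctx.smul_right (c : F) (u v : α → F) : fo u (c • v) = c * fo u v := by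
  rw [C.o.semi.smul_right]; rfl

theorem Ctx.sub_left (u v w : α → F) : fo (u - v) w = fo u w - fo v w := by
  rw [sub_eq_add_neg, C.add_left, C.o.neg_left, sub_eq_add_neg]

theorem Ctx.sub_right (u v w : α → F) : fo u (v - w) = fo u v - fo u w := by
  rw [C.symm, C.sub_left, C.symm, C.symm w u]

theorem Ctx.ext_o {u v : α → F} (h : ∀ x, fo u x = fo v x) : u = v := by
  by_contra hne
  obtain ⟨x, hx⟩ := (C.o.nondeg _ (sub_ne_zero.mpr hne)).2
  exact hx (by rw [C.sub_left, h, sub_self])

/-- The form on pure tensors. -/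
theorem Ctx.tau (a b : α → F) (u w : β → F) : tf (RingEquiv.refl F) fo fs (tm a u) (tm b w) = fo a b * fs u w :=
  tf_tm C.data a b u w

theorem Ctx.swap_tau (x y : α × β → F) :
    tf (RingEquiv.refl F) fo fs y x = -tf (RingEquiv.refl F) fo fs x y := by
  rw [tf_swap C.data x y, one_mul, neg_one_mul]; rfl

theorem Ctx.kr_iso {r : GL α F} {t : GL β F}
    (hr : ∀ u v, fo ((r : Matrix α α F) *ᵥ u) ((r : Matrix α α F) *ᵥ v) = fo u v)
    (ht : ∀ u v, fs ((t : Matrix β β F) *ᵥ u) ((t : Matrix β β F) *ᵥ v) = fs u v) (x y : α × β → F) :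
    tf (RingEquiv.refl F) fo fs ((kr r t) ⬝ₘ x) ((kr r t) ⬝ₘ y) = tf (RingEquiv.refl F) fo fs x y := by
  have hR : ∀ (v : α × β → F) (s : α → α × β → F), tf (RingEquiv.refl F) fo fs v (∑ i, s i) =
      ∑ i, tf (RingEquiv.refl F) fo fs v (s i) := fun v s =>
    map_sum (AddMonoidHom.mk' (fun w => tf (RingEquiv.refl F) fo fs v w) ((tf_semi C.data).add_right v)) s Finset.univ
  conv_rhs => rw [sum_rows x, sum_rows y]
  conv_lhs => rw [sum_rows x, sum_rows y]
  simp only [Matrix.mulVec_sum, (reflex C.data).sum_left, hR, kr_tm, C.tau, hr, ht]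

theorem Ctx.kr_mem {r : GL α F} {t : GL β F}
    (hr : ∀ u v, fo ((r : Matrix α α F) *ᵥ u) ((r : Matrix α α F) *ᵥ v) = fo u v)
    (ht : ∀ u v, fs ((t : Matrix β β F) *ᵥ u) ((t : Matrix β β F) *ᵥ v) = fs u v) : kr r t ∈ X :=
  C.small _ ⟨r, t, rfl⟩ (C.kr_iso hr ht)

theorem Ctx.right_mem {t : GL β F}
    (ht : ∀ u v, fs ((t : Matrix β β F) *ᵥ u) ((t : Matrix β β F) *ᵥ v) = fs u v) : kr (1 : GL α F) t ∈ X :=
  C.kr_mem (fun u v => by simp) ht

theorem Ctx.left_mem {r : GL α F}
    (hr : ∀ u v, fo ((r : Matrix α α F) *ᵥ u) ((r : Matrix α α F) *ᵥ v) = fo u v) : kr r (1 : GL β F) ∈ X :=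
  C.kr_mem hr (fun u v => by simp)

/-- A reflection of the first factor. -/
theorem Ctx.exists_rf {v : α → F} (hv : fo v v ≠ 0) :
    ∃ r : GL α F, (∀ x, (r : Matrix α α F) *ᵥ x = x - (2 * fo x v / fo v v) • v) ∧
      (∀ x, ((r⁻¹ : GL α F) : Matrix α α F) *ᵥ x = x - (2 * fo x v / fo v v) • v) ∧
      ∀ x y, fo ((r : Matrix α α F) *ᵥ x) ((r : Matrix α α F) *ᵥ y) = fo x y := by
  let L : (α → F) →ₗ[F] (α → F) :=
    { toFun := fun x => x - (2 * fo x v / fo v v) • v
      map_add' := fun x y => by rw [C.add_left, mul_add, add_div, add_smul]; abel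
      map_smul' := fun c x => by
        rw [C.smul_left, RingHom.id_apply, smul_sub, smul_smul]
        congr 2
        ring }
  have hM : ∀ x, LinearMap.toMatrix' L *ᵥ x = x - (2 * fo x v / fo v v) • v := fun x => by
    rw [← Matrix.toLin'_apply, Matrix.toLin'_toMatrix']; rfl
  have hinv : LinearMap.toMatrix' L * LinearMap.toMatrix' L = 1 :=
    Matrix.toLin'.injective (LinearMap.ext fun x => by
      simp only [Matrix.toLin'_apply, ← Matrix.mulVec_mulVec, hM, Matrix.one_mulVec, C.sub_left, C.smul_left]
      match_scalars <;> field_simp <;> ring)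
  refine ⟨⟨_, _, hinv, hinv⟩, hM, hM, fun x y => ?_⟩
  simp only [hM, C.sub_left, C.sub_right, C.smul_left, C.smul_right, C.symm y v]
  field_simp
  ring

/-- Two non-singular vectors in a space of dimension at least three have a non-singular common orthogonal,
provided that they are orthogonal themselves. -/
theorem Ctx.exists_third {u v : α → F} (hu : fo u u ≠ 0) (hv : fo v v ≠ 0) (huv : fo u v = 0) :
    ∃ x, fo x x ≠ 0 ∧ fo x u = 0 ∧ fo x v = 0 := by
  classical
  by_contra hcon
  push Not at hcon
  have hd := C.o.finrank_perp (Submodule.span F {u, v})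
  have h2 : finrank F (Submodule.span F ({u, v} : Set (α → F))) ≤ 2 := by
    have := finrank_span_finset_le_card (R := F) ({u, v} : Finset (α → F))
    rw [Finset.coe_pair] at this
    exact this.trans Finset.card_le_two
  have := C.dim
  obtain ⟨d, hd1, hd0⟩ := Submodule.exists_mem_ne_zero_of_ne_bot
    (p := C.o.perp (Submodule.span F {u, v})) fun e => by rw [e, finrank_bot] at hd; omega
  have hdu : fo d u = 0 := hd1 u (Submodule.subset_span (by simp))
  have hdv : fo d v = 0 := hd1 v (Submodule.subset_span (by simp))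
  -- totally singular orthogonal of a non-degenerate plane
  have hdd : fo d d = 0 := by
    by_contra h
    exact hcon d h hdu hdv
  obtain ⟨y, hy⟩ := (C.o.nondeg d hd0).2
  obtain ⟨z, hz⟩ : ∃ z, z = y - (fo y u / fo u u) • u - (fo y v / fo v v) • v := ⟨_, rfl⟩
  have hzu : fo z u = 0 := by
    simp only [hz, C.sub_left, C.smul_left, C.symm u v, huv]; field_simp; ring
  have hzv : fo z v = 0 := by
    simp only [hz, C.sub_left, C.smul_left, huv]; field_simp; ring
  have hdz : fo d z = fo d y := by
    simp only [hz, C.sub_right, C.smul_right, hdu, hdv]; ring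
  have hzz : fo z z = 0 := by
    by_contra h
    exact hcon z h hzu hzv
  refine hcon (d + z) ?_ (by rw [C.add_left, hdu, hzu, add_zero]) (by rw [C.add_left, hdv, hzv, add_zero])
  rw [C.add_left, C.add_right, C.add_right, hdd, hzz, C.symm d z, hdz, zero_add, add_zero, ← two_mul]
  exact mul_ne_zero C.h2 hy

/-- An operator is scalar if every non-singular vector is an eigenvector and it is self-adjoint. -/
theorem Ctx.exists_not_eigen {L : (α → F) →ₗ[F] (α → F)} (hL : ∀ a b, fo (L a) b = fo a (L b))
    (hns : ∀ r : F, ∃ a, L a ≠ r • a) : ∃ v, fo v v ≠ 0 ∧ ∀ r : F, L v ≠ r • v := by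
  classical
  by_contra hcon
  push Not at hcon
  choose! l hl using hcon
  have key : ∀ {u v}, fo u u ≠ 0 → fo v v ≠ 0 → l u ≠ l v → fo u v = 0 ∧
      ∀ t : F, t ≠ 0 → fo u u + t ^ 2 * fo v v = 0 := by
    intro u v hu hv hne
    have h0 : fo u v = 0 := by
      have := hL u v
      rw [hl u hu, hl v hv, C.smul_left, C.smul_right] at this
      exact (mul_eq_zero.mp (show (l u - l v) * fo u v = 0 by linear_combination this)).resolve_left
        (sub_ne_zero.mpr hne)
    refine ⟨h0, fun t ht => ?_⟩
    by_contra hq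
    have hw : fo (u + t • v) (u + t • v) ≠ 0 := by
      rw [C.add_left, C.add_right, C.add_right, C.smul_left, C.smul_right, C.smul_right, C.smul_left,
        C.symm u v, h0]
      intro e; apply hq; linear_combination e
    have e := hl _ hw
    rw [map_add, map_smul, hl u hu, hl v hv] at e
    have e1 := congrArg (fun x => fo x u) e
    have e2 := congrArg (fun x => fo x v) e
    simp only [C.add_left, C.smul_left, C.symm u v, h0] at e1 e2
    have a1 : l u = l (u + t • v) := mul_right_cancel₀ hu (by linear_combination e1)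
    have a2 : l v = l (u + t • v) := mul_left_cancel₀ (mul_ne_zero ht hv) (by linear_combination e2)
    exact hne (a1.trans a2.symm)
  -- two eigenvalues occur
  obtain ⟨u, v, hu, hv, hne⟩ : ∃ u v, fo u u ≠ 0 ∧ fo v v ≠ 0 ∧ l u ≠ l v := by
    by_contra hall
    push Not at hall
    obtain ⟨a₀, ha₀⟩ : ∃ a, fo a a ≠ 0 := by
      by_contra hz
      push Not at hz
      obtain ⟨a, -⟩ := hns 0
      have h0 : ∀ a b, fo a b = 0 := fun a b => by
        have := hz (a + b)
        rw [C.add_left, C.add_right, C.add_right, hz, hz, C.symm a b, zero_add, add_zero, ← two_mul] at this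
        exact (mul_eq_zero.mp this).resolve_left C.h2
      haveI : Nonempty α := Fintype.card_pos_iff.mp (by have := C.dim; omega)
      obtain ⟨i⟩ := ‹Nonempty α›
      obtain ⟨x, hx⟩ := (C.o.nondeg (Pi.single i 1) (by simp)).2
      exact hx (h0 _ _)
    obtain ⟨a, ha⟩ := hns (l a₀)
    refine ha ?_
    by_cases haa : fo a a = 0
    · by_cases h1 : fo (a + a₀) (a + a₀) = 0
      · have h2 : fo (a - a₀) (a - a₀) ≠ 0 := by
          intro h2
          rw [C.sub_left, C.sub_right, C.sub_right, haa, C.symm a a₀] at h2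
          rw [C.add_left, C.add_right, C.add_right, haa, C.symm a a₀] at h1
          exact ha₀ ((mul_eq_zero.mp (show (2 : F) * fo a₀ a₀ = 0 by linear_combination h1 + h2)).resolve_left C.h2)
        have e := hl _ h2
        rw [hall _ a₀ h2 ha₀, map_sub, hl a₀ ha₀] at e
        linear_combination (norm := module) e
      · have e := hl _ h1
        rw [hall _ a₀ h1 ha₀, map_add, hl a₀ ha₀] at e
        linear_combination (norm := module) e
    · rw [hl a haa, hall a a₀ haa ha₀]
  obtain ⟨huv, hq⟩ := key hu hv hne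
  have hsum : fo u u + fo v v = 0 := by simpa using hq 1 one_ne_zero
  obtain ⟨x, hx, hxu, hxv⟩ := C.exists_third hu hv huv
  rcases eq_or_ne (l x) (l u) with hxl | hxl
  · have h1 := (key hx hv (by rwa [hxl])).2 1 one_ne_zero
    have hw : fo (u + x) (u + x) ≠ 0 := by
      rw [C.add_left, C.add_right, C.add_right, hxu, C.symm x u, hxu]
      intro e
      exact hu ((mul_eq_zero.mp (show (2 : F) * fo u u = 0 by linear_combination e - h1 + hsum)).resolve_left C.h2)
    have e := hl _ hw
    rw [map_add, hl u hu, hl x hx, hxl] at e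
    have e1 := congrArg (fun z => fo z u) e
    simp only [C.add_left, C.smul_left, hxu] at e1
    have hlw : l (u + x) = l u := mul_right_cancel₀ hu (by linear_combination -e1)
    have h3 := (key hw hv (by rwa [hlw])).2 1 one_ne_zero
    rw [C.add_left, C.add_right, C.add_right, hxu, C.symm x u, hxu] at h3
    exact hx (by linear_combination h3 - hsum)
  · have h1 := (key hx hu hxl).2 1 one_ne_zero
    by_cases hxv' : l x = l v
    · have hw : fo (v + x) (v + x) ≠ 0 := by
        rw [C.add_left, C.add_right, C.add_right, hxv, C.symm x v, hxv]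
        intro e
        exact hv ((mul_eq_zero.mp (show (2 : F) * fo v v = 0 by linear_combination e - h1 + hsum)).resolve_left C.h2)
      have e := hl _ hw
      rw [map_add, hl v hv, hl x hx, hxv'] at e
      have e1 := congrArg (fun z => fo z v) e
      simp only [C.add_left, C.smul_left, hxv] at e1
      have hlw : l (v + x) = l v := mul_right_cancel₀ hv (by linear_combination -e1)
      have h3 := (key hw hu (by rw [hlw]; exact hne.symm)).2 1 one_ne_zero
      rw [C.add_left, C.add_right, C.add_right, hxv, C.symm x v, hxv] at h3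
      exact hx (by linear_combination h3 - hsum)
    · have h2 := (key hx hv hxv').2 1 one_ne_zero
      exact hu ((mul_eq_zero.mp (show (2 : F) * fo u u = 0 by linear_combination h1 - h2 + hsum)).resolve_left C.h2)

/-- The orthogonal symmetrised dyads spread over the orthogonal of their non-singular centre. -/
theorem Ctx.spread {v u : α → F} (hv : fo v v ≠ 0) (hu : fo u u ≠ 0) (huv : fo u v = 0) {H : Submodule F (α → F)}
    (huH : u ∈ H) (hH : ∀ y, fo y y ≠ 0 → fo y v = 0 → ∀ h ∈ H, h - (2 * fo h y / fo y y) • y ∈ H)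
    (hHv : ∀ h ∈ H, fo h v = 0) {x : α → F} (hx : fo x v = 0) : x ∈ H := by
  have hperp : ∀ {y}, fo y y ≠ 0 → fo y v = 0 → y ∉ H → ∀ h ∈ H, fo h y = 0 := by
    intro y hy hyv hyH h hh
    by_contra hne
    refine hyH ?_
    have := sub_mem hh (hH y hy hyv h hh)
    rw [sub_sub_cancel] at this
    have := H.smul_mem (2 * fo h y / fo y y)⁻¹ this
    rwa [smul_smul, inv_mul_cancel₀ (div_ne_zero (mul_ne_zero C.h2 hne) hy), one_smul] at this
  -- non-singular vectors orthogonal to both
  have key : ∀ y, fo y y ≠ 0 → fo y v = 0 → fo y u = 0 → y ∉ H → ∀ t : F, t ≠ 0 → fo u u + t ^ 2 * fo y y = 0 := by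
    intro y hy hyv hyu hyH t ht
    by_contra hne
    have hw : fo (u + t • y) (u + t • y) = fo u u + t ^ 2 * fo y y := by
      simp only [C.add_left, C.add_right, C.smul_left, C.smul_right, hyu, C.symm y u]; ring
    have hwv : fo (u + t • y) v = 0 := by rw [C.add_left, C.smul_left, huv, hyv, mul_zero, add_zero]
    by_cases hwH : u + t • y ∈ H
    · have := H.smul_mem t⁻¹ (sub_mem hwH huH)
      rw [add_sub_cancel_left, smul_smul, inv_mul_cancel₀ ht, one_smul] at this
      exact hyH this
    · have := hperp (by rwa [hw]) hwv hwH u huH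
      rw [C.add_right, C.smul_right, C.symm y u, hyu, mul_zero, add_zero] at this
      exact hu this
  suffices hall : ∀ y, fo y y ≠ 0 → fo y v = 0 → fo y u = 0 → y ∈ H by
    obtain ⟨w, hw⟩ : ∃ w, w = x - (fo x u / fo u u) • u := ⟨_, rfl⟩
    have hwu : fo w u = 0 := by simp only [hw, C.sub_left, C.smul_left]; field_simp; ring
    have hwv : fo w v = 0 := by simp only [hw, C.sub_left, C.smul_left, hx, huv]; ring
    suffices hwH : w ∈ H by
      have := add_mem hwH (H.smul_mem (fo x u / fo u u) huH)
      rwa [hw, sub_add_cancel] at this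
    by_cases hww : fo w w = 0
    · by_cases hw0 : w = 0
      · rw [hw0]; exact zero_mem H
      -- a singular vector is a combination of non-singular ones
      obtain ⟨z, hz⟩ := (C.o.nondeg w hw0).2
      obtain ⟨z', hz'⟩ : ∃ z', z' = z - (fo z u / fo u u) • u - (fo z v / fo v v) • v := ⟨_, rfl⟩
      have h1 : fo z' u = 0 := by
        simp only [hz', C.sub_left, C.smul_left, C.symm u v, huv]; field_simp; ring
      have h2 : fo z' v = 0 := by simp only [hz', C.sub_left, C.smul_left, huv]; field_simp; ring
      have h3 : fo w z' = fo w z := by simp only [hz', C.sub_right, C.smul_right, hwu, hwv]; ring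
      obtain ⟨p, hp, hpu, hpv, hp'⟩ : ∃ p, fo p p ≠ 0 ∧ fo p u = 0 ∧ fo p v = 0 ∧ fo (w + p) (w + p) ≠ 0 := by
        by_cases hzz : fo z' z' = 0
        · refine ⟨w + z', ?_, by rw [C.add_left, hwu, h1, add_zero], by rw [C.add_left, hwv, h2, add_zero], ?_⟩
          · simp only [C.add_left, C.add_right, hww, hzz, C.symm w z', h3]
            intro e; exact mul_ne_zero C.h2 hz (by linear_combination e)
          · simp only [C.add_left, C.add_right, hww, hzz, C.symm w z', h3]
            intro e; exact mul_ne_zero (mul_ne_zero C.h2 C.h2) hz (by linear_combination e)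
        · by_cases hs : fo (w + z') (w + z') = 0
          · refine ⟨-z', ?_, by rw [C.o.neg_left, h1, neg_zero], by rw [C.o.neg_left, h2, neg_zero], ?_⟩
            · rw [C.o.neg_left, C.symm, C.o.neg_left, neg_neg]; exact hzz
            · rw [← sub_eq_add_neg]
              simp only [C.sub_left, C.sub_right, hww, C.symm w z']
              simp only [C.add_left, C.add_right, hww, C.symm w z'] at hs
              intro e; exact mul_ne_zero C.h2 hzz (by linear_combination e + hs)
          · exact ⟨z', hzz, h1, h2, hs⟩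
      have := sub_mem (hall _ hp' (by rw [C.add_left, hwv, hpv, add_zero]) (by rw [C.add_left, hwu, hpu, add_zero]))
        (hall p hp hpv hpu)
      rwa [add_sub_cancel_right] at this
    · exact hall w hww hwv hwu
  intro y hy hyv hyu
  by_contra hyH
  rcases C.hex with ⟨a, ha, ha2⟩ | h4
  · have h1 := key y hy hyv hyu hyH a ha
    have h2 := key y hy hyv hyu hyH 1 one_ne_zero
    exact mul_ne_zero (sub_ne_zero.mpr ha2) hy (by linear_combination h1 - h2)
  classical
  have hd := C.o.finrank_perp (Submodule.span F {u, v, y})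
  have h3 : finrank F (Submodule.span F ({u, v, y} : Set (α → F))) ≤ 3 := by
    have := finrank_span_finset_le_card (R := F) ({u, v, y} : Finset (α → F))
    rw [Finset.coe_insert, Finset.coe_pair] at this
    exact this.trans Finset.card_le_three
  obtain ⟨d, hd1, hd0⟩ := Submodule.exists_mem_ne_zero_of_ne_bot
    (p := C.o.perp (Submodule.span F {u, v, y})) fun e => by rw [e, finrank_bot] at hd; omega
  have hdu : fo d u = 0 := hd1 u (Submodule.subset_span (by simp))
  have hdv : fo d v = 0 := hd1 v (Submodule.subset_span (by simp))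
  have hdy : fo d y = 0 := hd1 y (Submodule.subset_span (by simp))
  obtain ⟨d', hd'⟩ : ∃ d', fo d' u = 0 ∧ fo d' v = 0 ∧ fo d' y = 0 ∧ fo d' d' ≠ 0 := by
    by_cases hdd : fo d d = 0
    · obtain ⟨z, hz⟩ := (C.o.nondeg d hd0).2
      obtain ⟨z', hz'⟩ : ∃ z', z' = z - (fo z u / fo u u) • u - (fo z v / fo v v) • v - (fo z y / fo y y) • y :=
        ⟨_, rfl⟩
      have h1 : fo z' u = 0 := by
        simp only [hz', C.sub_left, C.smul_left, C.symm u v, huv, hyu]; field_simp; ring
      have h2 : fo z' v = 0 := by simp only [hz', C.sub_left, C.smul_left, huv, hyv]; field_simp; ring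
      have h5 : fo z' y = 0 := by
        simp only [hz', C.sub_left, C.smul_left, C.symm y u, hyu, C.symm y v, hyv]; field_simp; ring
      have h6 : fo d z' = fo d z := by simp only [hz', C.sub_right, C.smul_right, hdu, hdv, hdy]; ring
      by_cases hzz : fo z' z' = 0
      · refine ⟨d + z', by rw [C.add_left, hdu, h1, add_zero], by rw [C.add_left, hdv, h2, add_zero],
          by rw [C.add_left, hdy, h5, add_zero], ?_⟩
        simp only [C.add_left, C.add_right, hdd, hzz, C.symm d z', h6]
        intro e; exact mul_ne_zero C.h2 hz (by linear_combination e)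
      · exact ⟨z', h1, h2, h5, hzz⟩
    · exact ⟨d, hdu, hdv, hdy, hdd⟩
  obtain ⟨hd'u, hd'v, hd'y, hd'd⟩ := hd'
  have e1 := key y hy hyv hyu hyH 1 one_ne_zero
  by_cases hd'H : d' ∈ H
  · refine mul_ne_zero hu (mul_ne_zero C.h2 hy) ?_
    have hw : fo (u + d') (u + d') = fo u u + fo d' d' := by
      simp only [C.add_left, C.add_right, hd'u, C.symm d' u]; ring
    by_cases hw0 : fo u u + fo d' d' = 0
    · -- swap the roles of the two vectors in the subspace
      have hs : y + d' ∉ H := fun e => hyH (by simpa using sub_mem e hd'H)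
      have hyd : fo (y + d') (y + d') = fo y y + fo d' d' := by
        simp only [C.add_left, C.add_right, hd'y, C.symm d' y]; ring
      have e2 := hperp (y := y + d') (by rw [hyd]; intro e; exact mul_ne_zero C.h2 hu (by linear_combination e1 + hw0 - e))
        (by rw [C.add_left, hyv, hd'v, add_zero]) hs d' hd'H
      rw [C.add_right, hd'y, zero_add] at e2
      exact absurd e2 hd'd
    · have hyz : fo (u + d') y = 0 := by rw [C.add_left, hd'y, C.symm y u, hyu, add_zero]
      have hne : fo (u + d' + y) (u + d' + y) ≠ 0 := by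
        simp only [C.add_left, C.add_right, hd'u, C.symm d' u, hd'y, C.symm d' y, hyu, C.symm y u]
        intro e; exact hd'd (by linear_combination e - e1)
      have hnv : fo (u + d' + y) v = 0 := by simp only [C.add_left, huv, hd'v, hyv]; ring
      have hnH : u + d' + y ∉ H := fun e => hyH (by simpa using sub_mem e (add_mem huH hd'H))
      have e2 := hperp hne hnv hnH u huH
      simp only [C.add_right, C.symm d' u, hd'u, C.symm y u, hyu] at e2
      exact absurd (by linear_combination e2) hu
  · have e2 := key d' hd'd hd'v hd'u hd'H 1 one_ne_zero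
    have hs : y + d' ∉ H := fun e => by
      have hne : fo (y + d') y ≠ 0 := by rw [C.add_left, hd'y, add_zero]; exact hy
      exact hne (hperp hy hyv hyH _ e)
    have e3 := key (y + d') (by
        simp only [C.add_left, C.add_right, hd'y, C.symm d' y]
        intro e; exact mul_ne_zero C.h2 hu (by linear_combination e1 + e2 - e))
      (by rw [C.add_left, hyv, hd'v, add_zero]) (by rw [C.add_left, hyu, hd'u, add_zero]) hs 1 one_ne_zero
    simp only [C.add_left, C.add_right, hd'y, C.symm d' y] at e3
    exact hu (by linear_combination e1 + e2 - e3)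

/-- A ternary diagonal quadric has a zero. -/
theorem Ctx.exists_iso3 [Finite F] {a b c : α → F} (ha : fo a a ≠ 0) (hb : fo b b ≠ 0) (hc : fo c c ≠ 0)
    (hab : fo a b = 0) (hac : fo a c = 0) (hbc : fo b c = 0) :
    ∃ e, e ≠ 0 ∧ fo e e = 0 ∧ (∀ w, fo a w = 0 → fo b w = 0 → fo c w = 0 → fo e w = 0) ∧
      ∃ x y : F, e = x • a + y • b + c := by
  classical
  haveI := Fintype.ofFinite F
  have hchar : ringChar F ≠ 2 := fun h => C.h2 (by rw [← Nat.cast_two, ← h]; exact ringChar.Nat.cast_ringChar)
  have hodd : Fintype.card F % 2 = 1 := FiniteField.odd_card_of_char_ne_two hchar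
  obtain ⟨x, y, hxy⟩ := FiniteField.exists_root_sum_quadratic
    (f := Polynomial.C (fo a a) * Polynomial.X ^ 2)
    (g := Polynomial.C (fo b b) * Polynomial.X ^ 2 + Polynomial.C (fo c c))
    (Polynomial.degree_C_mul_X_pow 2 ha)
    (by rw [Polynomial.degree_add_C (by rw [Polynomial.degree_C_mul_X_pow 2 hb]; norm_num)]
        exact Polynomial.degree_C_mul_X_pow 2 hb) hodd
  simp only [Polynomial.eval_mul, Polynomial.eval_C, Polynomial.eval_pow, Polynomial.eval_X, Polynomial.eval_add]
    at hxy
  refine ⟨x • a + y • b + c, fun e0 => hc ?_, ?_, fun w h1 h2 h3 => ?_, x, y, rfl⟩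
  · have := congrArg (fun w => fo w c) e0
    simp only [C.add_left, C.smul_left, hac, hbc, C.o.zero_left] at this
    linear_combination this
  · simp only [C.add_left, C.add_right, C.smul_left, C.smul_right, hab, hac, hbc, C.symm a b, C.symm a c, C.symm b c]
    linear_combination hxy
  · simp only [C.add_left, C.smul_left, h1, h2, h3]; ring

end Cfsg.Agent.Classical.TensorMax.SpO
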