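/-
The radical of the stabiliser of a fibre over the symplectic factor meets the group in the tensor stabiliser.
-/
import Cfsg.Agent.Lib.Classical.TensorMax.SpO.Basic

set_option autoImplicit false
set_option linter.unusedSectionVars false

namespace Cfsg.Agent.Classical.TensorMax.SpO

open Matrix Module Cfsg.Geo
open Cfsg.Agent.Classical Cfsg.Agent.Classical.TensorMax Cfsg.Agent.Classical.TensorMax.Form

variable {α β : Type} [Fintype α] [DecidableEq α] [Fintype β] [DecidableEq β] {F : Type*} [Field F]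
variable {fo : (α → F) → (α → F) → F} {fs : (β → F) → (β → F) → F} {X : Subgroup (GL (α × β) F)}

local notation:max g:max " ⬝ₘ " x:max => ((g : GL (α × β) F) : Matrix (α × β) (α × β) F) *ᵥ x
local notation "τ" => tf (RingEquiv.refl F) fo fs

theorem tm_cancel {o : β → F} (ho : o ≠ 0) {a b : α → F} (h : tm a o = tm b o) : a = b :=
  sub_eq_zero.mp ((tm_eq_zero (by rw [tm_sub_left, h, sub_self])).resolve_right ho)

variable (C : Ctx fo fs X)

include C

theorem Ctx.partner {o : β → F} (ho : o ≠ 0) : ∃ o', fs o' o = 1 := Form.partner C.data ho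

theorem Ctx.ctr_tm' (w : β → F) (a : α → F) (b : β → F) : ctr fs w (tm a b) = fs b w • a := ctr_tm C.data w a b

theorem Ctx.ctr_shift {o : β → F} (x : α × β → F) (a : α → F) : ctr fs o (x + tm a o) = ctr fs o x := by
  rw [ctr_add C.data, C.ctr_tm', C.s.alt, zero_smul, add_zero]

theorem inC_linear {o : β → F} (ho : o ≠ 0) {L : (α → F) → α → F} (h : InC fs X o L) :
    (∀ a b, L (a + b) = L a + L b) ∧ (∀ (r : F) a, L (r • a) = r • L a) ∧ ∀ a b, fo (L a) b = fo a (L b) := by
  obtain ⟨g, hg, hgx⟩ := h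
  obtain ⟨o', ho'⟩ := C.partner ho
  have hc : ∀ a, ctr fs o (tm a o') = a := fun a => by rw [C.ctr_tm', ho', one_smul]
  have hv : ∀ a, g ⬝ₘ (tm a o') = tm a o' + tm (L a) o := fun a => by rw [hgx, hc]
  refine ⟨fun a b => tm_cancel ho ?_, fun r a => tm_cancel ho ?_, fun a b => ?_⟩
  · have := hv (a + b)
    rw [tm_add_left, Matrix.mulVec_add, hv, hv] at this
    rw [tm_add_left]
    linear_combination (norm := module) -this
  · have := hv (r • a)
    rw [tm_smul_left, Matrix.mulVec_smul, hv] at this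
    rw [tm_smul_left r (L a)]
    linear_combination (norm := module) -this
  · have e := C.iso g hg (tm a o') (tm b o')
    rw [hv, hv, (tf_semi C.data).add_left, (tf_semi C.data).add_right, (tf_semi C.data).add_right, C.tau, C.tau,
      C.tau, C.tau, C.s.alt, C.s.alt, C.s.swap o' o, ho'] at e
    linear_combination -e

theorem inC_congr {o : β → F} {L L' : (α → F) → α → F} (h : InC fs X o L) (e : ∀ a, L a = L' a) :
    InC fs X o L' := (funext e : L = L') ▸ h

theorem inC_add {o : β → F} {L L' : (α → F) → α → F} (h : InC fs X o L) (h' : InC fs X o L') :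
    InC fs X o fun a => L a + L' a := by
  obtain ⟨g, hg, hgx⟩ := h
  obtain ⟨g', hg', hgx'⟩ := h'
  refine ⟨g * g', mul_mem hg hg', fun x => ?_⟩
  rw [gl_mul_mulVec, hgx', hgx, C.ctr_shift, tm_add_left]
  abel

theorem inC_neg {o : β → F} {L : (α → F) → α → F} (h : InC fs X o L) : InC fs X o fun a => -L a := by
  obtain ⟨g, hg, hgx⟩ := h
  refine ⟨g⁻¹, inv_mem hg, fun x => ?_⟩
  apply gl_mulVec_injective g
  change g ⬝ₘ _ = g ⬝ₘ _
  rw [gl_mulVec_inv_cancel, hgx, C.ctr_shift, add_assoc, ← tm_add_left, neg_add_cancel, tm_zero_left, add_zero]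

theorem inC_conj {o : β → F} {L : (α → F) → α → F} (h : InC fs X o L) {r : GL α F}
    (hr : ∀ u v, fo ((r : Matrix α α F) *ᵥ u) ((r : Matrix α α F) *ᵥ v) = fo u v) :
    InC fs X o fun a => (r : Matrix α α F) *ᵥ L (((r⁻¹ : GL α F) : Matrix α α F) *ᵥ a) := by
  obtain ⟨g, hg, hgx⟩ := h
  have hn := C.left_mem hr
  refine ⟨kr r 1 * g * (kr r 1)⁻¹, mul_mem (mul_mem hn hg) (inv_mem hn), fun x => ?_⟩
  have hc : ctr fs o ((kr r (1 : GL β F))⁻¹ ⬝ₘ x) = ((r⁻¹ : GL α F) : Matrix α α F) *ᵥ ctr fs o x := by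
    refine ctr_eq C.data fun a => ?_
    have hi : tm a o = (kr r (1 : GL β F))⁻¹ ⬝ₘ (tm ((r : Matrix α α F) *ᵥ a) o) := by
      rw [kr_inv, kr_tm, gl_inv_mulVec_cancel, inv_one, Units.val_one, Matrix.one_mulVec]
    rw [hi, C.iso _ (inv_mem hn), tf_tm_right C.data]
    conv_lhs => rw [← gl_mulVec_inv_cancel r (ctr fs o x), hr]
  rw [gl_mul_mulVec, gl_mul_mulVec, hgx, Matrix.mulVec_add, gl_mulVec_inv_cancel, hc, kr_tm, Units.val_one,
    Matrix.one_mulVec]

/-- A torus of the symplectic factor scales by squares; the squares span. -/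
theorem inC_smul {o : β → F} (ho : o ≠ 0) {L : (α → F) → α → F} (h : InC fs X o L) (c : F) :
    InC fs X o fun a => c • L a := by
  have sq : ∀ l : F, InC fs X o fun a => (l * l) • L a := by
    intro l
    by_cases hl : l = 0
    · refine ⟨1, one_mem X, fun x => ?_⟩
      simp [hl]
    obtain ⟨t, ht, hto⟩ := tmove_one C.s ho (smul_ne_zero hl ho)
    obtain ⟨g, hg, hgx⟩ := h
    have hiso := (tgen_iso C.s ht).2
    have hn := C.right_mem hiso
    have hadd := (inC_linear C ho ⟨g, hg, hgx⟩).2.1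
    refine ⟨kr 1 t * g * (kr 1 t)⁻¹, mul_mem (mul_mem hn hg) (inv_mem hn), fun x => ?_⟩
    have hc : ctr fs o ((kr (1 : GL α F) t)⁻¹ ⬝ₘ x) = l • ctr fs o x := by
      refine ctr_eq C.data fun a => ?_
      have hi : tm a o = (kr (1 : GL α F) t)⁻¹ ⬝ₘ (tm a (l • o)) := by
        rw [kr_inv, kr_tm, inv_one, Units.val_one, Matrix.one_mulVec, ← hto, gl_inv_mulVec_cancel]
      rw [hi, C.iso _ (inv_mem hn), tm_smul_right, ← tm_smul_left, tf_tm_right C.data, C.smul_left, C.smul_right]
    rw [gl_mul_mulVec, gl_mul_mulVec, hgx, Matrix.mulVec_add, gl_mulVec_inv_cancel, hc, hadd, kr_tm, hto,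
      Units.val_one, Matrix.one_mulVec, tm_smul_right, ← tm_smul_left, smul_smul]
  have h4 : (2 : F) * 2 ≠ 0 := mul_ne_zero C.h2 C.h2
  refine inC_congr C (inC_add C (sq ((c + 1) / 2)) (inC_neg C (sq ((c - 1) / 2)))) fun a => ?_
  rw [← sub_eq_add_neg, ← sub_smul]
  congr 1
  have := C.h2
  field_simp
  ring

/-- A non-scalar central element gives a symmetrised dyad. -/
theorem exists_sd {o : β → F} (ho : o ≠ 0) {L : (α → F) → α → F} (h : InC fs X o L)
    (hns : ∀ r : F, ∃ a, L a ≠ r • a) :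
    ∃ v u, fo v v ≠ 0 ∧ u ≠ 0 ∧ fo u v = 0 ∧ InC fs X o (sd fo v u) := by
  obtain ⟨hadd, hsm, hadj⟩ := inC_linear C ho h
  let Ll : (α → F) →ₗ[F] (α → F) := { toFun := L, map_add' := hadd, map_smul' := hsm }
  obtain ⟨v, hv, hve⟩ := C.exists_not_eigen (L := Ll) hadj hns
  obtain ⟨r, hr, hri, hriso⟩ := C.exists_rf hv
  obtain ⟨m, hm⟩ : ∃ m, m = fo (L v) v / fo v v := ⟨_, rfl⟩
  obtain ⟨u, hu⟩ : ∃ u, u = L v - m • v := ⟨_, rfl⟩
  refine ⟨v, u, hv, fun e => hve m (sub_eq_zero.mp (hu ▸ e)), ?_, ?_⟩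
  · rw [hu, C.sub_left, C.smul_left, hm]; field_simp; ring
  refine inC_congr C (inC_smul C ho (inC_add C h (inC_neg C (inC_conj C h hriso))) (fo v v / 2)) fun x => ?_
  have hLsub : ∀ a b, L (a - b) = L a - L b := fun a b => map_sub Ll a b
  have hLv : L v = u + m • v := by rw [hu, sub_add_cancel]
  simp only [hri, hr, hLsub, hsm, sd, hLv, C.sub_left, C.smul_left, C.add_left, hadj x v, C.add_right, C.smul_right]
  have huv : fo u v = 0 := by rw [hu, C.sub_left, C.smul_left, hm]; field_simp; ring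
  simp only [huv, smul_sub, smul_add, smul_smul]
  have := C.h2
  match_scalars <;> field_simp <;> ring

/-- The symmetrised dyads with a fixed first entry form a subspace. -/
theorem exists_sdSub {o : β → F} (ho : o ≠ 0) (v : α → F) :
    ∃ H : Submodule F (α → F), ∀ u, u ∈ H ↔ fo u v = 0 ∧ InC fs X o (sd fo v u) :=
  ⟨{ carrier := {u | fo u v = 0 ∧ InC fs X o (sd fo v u)}
     zero_mem' := ⟨C.o.zero_left v, 1, one_mem X, fun x => by simp [sd, C.o.zero_right]⟩
     add_mem' := fun {a b} ha hb => ⟨by rw [C.add_left, ha.1, hb.1, add_zero],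
       inC_congr C (inC_add C ha.2 hb.2) fun x => by simp only [sd, C.add_right]; module⟩
     smul_mem' := fun c a ha => ⟨by rw [C.smul_left, ha.1, mul_zero],
       inC_congr C (inC_smul C ho ha.2 c) fun x => by simp only [sd, C.smul_right]; module⟩ },
    fun _ => Iff.rfl⟩

theorem sd_comm (v u : α → F) : ∀ x, sd fo v u x = sd fo u v x := fun x => add_comm _ _

/-- Symmetrised dyads fill the orthogonal of their centre. -/
theorem sd_all {o : β → F} (ho : o ≠ 0) {v u : α → F} (hv : fo v v ≠ 0) (hu : fo u u ≠ 0) (huv : fo u v = 0)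
    (h : InC fs X o (sd fo v u)) {x : α → F} (hx : fo x v = 0) : InC fs X o (sd fo v x) := by
  obtain ⟨H, hH⟩ := exists_sdSub C ho v
  refine ((hH x).mp (C.spread hv hu huv ((hH u).mpr ⟨huv, h⟩) ?_ (fun a ha => ((hH a).mp ha).1) hx)).2
  intro y hy hyv a ha
  obtain ⟨ha1, ha2⟩ := (hH a).mp ha
  obtain ⟨r, hr, hri, hriso⟩ := C.exists_rf hy
  have hra : (r : Matrix α α F) *ᵥ a = a - (2 * fo a y / fo y y) • y := hr a
  have hrv : (r : Matrix α α F) *ᵥ v = v := by rw [hr, C.symm y v, hyv]; simp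
  refine (hH _).mpr ⟨by rw [C.sub_left, C.smul_left, ha1, hyv, mul_zero, sub_zero], ?_⟩
  refine inC_congr C (inC_conj C ha2 hriso) fun z => ?_
  rw [← hra]
  simp only [sd, Matrix.mulVec_add, Matrix.mulVec_smul, hrv]
  congr 2
  · conv_lhs => rw [← hriso, gl_mulVec_inv_cancel]
  · conv_lhs => rw [← hriso, gl_mulVec_inv_cancel, hrv]

/-- Central elements are scalar. -/
theorem scalar [Finite F] {o : β → F} (ho : o ≠ 0) {L : (α → F) → α → F} (h : InC fs X o L) :
    ∃ r : F, ∀ a, L a = r • a := by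
  classical
  by_contra hcon
  push Not at hcon
  obtain ⟨v, u, hv, hu0, huv, hS⟩ := exists_sd C ho h hcon
  suffices hse : ∃ g e, e ≠ 0 ∧ fo g g ≠ 0 ∧ fo e e = 0 ∧ fo e g = 0 ∧ InC fs X o (sd fo g e) by
    obtain ⟨g, e, he, hg, hee, heg, hge⟩ := hse
    obtain ⟨y, hy⟩ : ∃ y, y = g := ⟨_, rfl⟩
    haveI : Nonempty α := Fintype.card_pos_iff.mp (by have := C.dim; omega)
    obtain ⟨r, -, hrU, hrx⟩ := Radical.exists_UF C.o (v := e) (y := y) (c := -(fo g g / 2)) hee
      (by rw [hy, C.symm, heg]) (by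
        rw [hy, RingEquiv.refl_apply, one_mul]
        have := C.h2
        field_simp
        ring)
    have hriso := Radical.UF_iso C.o hee hrU
    simp only [RingEquiv.refl_apply, one_mul] at hrx
    have hre : (r : Matrix α α F) *ᵥ e = e := by rw [hrx, hee, hy, heg]; simp
    have hrg : (r : Matrix α α F) *ᵥ g = g - fo g g • e := by
      rw [hrx, hy, C.symm e g, heg]; module
    -- the difference of a dyad and its shear
    have h2 : InC fs X o fun a => ((-2 * fo g g) * fo a e) • e := by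
      refine inC_congr C (inC_add C (inC_conj C hge hriso) (inC_neg C hge)) fun a => ?_
      have e1 : fo (((r⁻¹ : GL α F) : Matrix α α F) *ᵥ a) e = fo a e := by
        conv_lhs => rw [← hriso, gl_mulVec_inv_cancel, hre]
      have e2 : fo (((r⁻¹ : GL α F) : Matrix α α F) *ᵥ a) g = fo a g - fo g g * fo a e := by
        conv_lhs => rw [← hriso, gl_mulVec_inv_cancel, hrg, C.sub_right, C.smul_right]
      simp only [sd, Matrix.mulVec_add, Matrix.mulVec_smul, hre, hrg, e1, e2]
      module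
    refine C.noTv e o he ho hee fun c => inC_congr C (inC_smul C ho h2 (c / (-2 * fo g g))) fun a => ?_
    rw [smul_smul]
    congr 1
    have := C.h2
    field_simp
  by_cases huu : fo u u = 0
  · exact ⟨v, u, hu0, hv, huu, huv, hS⟩
  by_cases hiso : ∃ e, e ≠ 0 ∧ fo e e = 0 ∧ fo e v = 0
  · obtain ⟨e, he, hee, hev⟩ := hiso
    exact ⟨v, e, he, hv, hee, hev, sd_all C ho hv huu huv hS hev⟩
  push Not at hiso
  -- a singular vector and a non-singular one orthogonal to it
  obtain ⟨x₀, hx₀, hx₀v, hx₀u⟩ := C.exists_third hv huu (by rw [C.symm]; exact huv)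
  obtain ⟨e, he, hee, -, -⟩ := C.exists_iso3 hv huu hx₀ (by rw [C.symm]; exact huv) (by rw [C.symm]; exact hx₀v)
    (by rw [C.symm]; exact hx₀u)
  obtain ⟨g, hgg, hge⟩ : ∃ g, fo g g ≠ 0 ∧ fo e g = 0 := by
    by_contra hno
    push Not at hno
    have hall : ∀ a, fo e a = 0 → fo a a = 0 := fun a ha => not_ne_iff.mp fun h => hno a h ha
    have h3 := C.dim
    have hd := C.o.finrank_perp (Submodule.span F {e})
    have h1 := finrank_span_le_card (R := F) ({e} : Set (α → F))
    simp at h1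
    have horth : ∀ a b, fo e a = 0 → fo e b = 0 → fo a b = 0 := fun a b ha hb => by
      have := hall (a + b) (by rw [C.add_right, ha, hb, add_zero])
      rw [C.add_left, C.add_right, C.add_right, hall a ha, hall b hb, C.symm a b, zero_add, add_zero, ← two_mul] at this
      exact (mul_eq_zero.mp this).resolve_left C.h2
    have hle : C.o.perp (Submodule.span F {e}) ≤ C.o.perp (C.o.perp (Submodule.span F {e})) := fun a ha b hb =>
      horth a b (by rw [C.symm]; exact ha e (Submodule.mem_span_singleton_self e))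
        (by rw [C.symm]; exact hb e (Submodule.mem_span_singleton_self e))
    rw [C.o.perp_perp] at hle
    have := Submodule.finrank_mono hle
    omega
  obtain ⟨x, hx0, hxv, hxg⟩ : ∃ x, x ≠ 0 ∧ fo x v = 0 ∧ fo x g = 0 := by
    obtain ⟨d, hd1, hd0⟩ := Submodule.exists_mem_ne_zero_of_ne_bot
      (p := C.o.perp (Submodule.span F {v, g})) fun h => by
        have hd := C.o.finrank_perp (Submodule.span F {v, g})
        have h2 : finrank F (Submodule.span F ({v, g} : Set (α → F))) ≤ 2 := by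
          have := finrank_span_finset_le_card (R := F) ({v, g} : Finset (α → F))
          rw [Finset.coe_pair] at this
          exact this.trans Finset.card_le_two
        have := C.dim
        rw [h, finrank_bot] at hd
        omega
    exact ⟨d, hd0, hd1 v (Submodule.subset_span (by simp)), hd1 g (Submodule.subset_span (by simp))⟩
  have hxx : fo x x ≠ 0 := fun h => hiso x hx0 h hxv
  have hvx : InC fs X o (sd fo v x) := sd_all C ho hv huu huv hS hxv
  have hxv' : InC fs X o (sd fo x v) := inC_congr C hvx (sd_comm C v x)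
  have hxg' : InC fs X o (sd fo x g) := sd_all C ho hxx hv (by rw [C.symm]; exact hxv) hxv' (by rw [C.symm]; exact hxg)
  have hgx : InC fs X o (sd fo g x) := inC_congr C hxg' (sd_comm C x g)
  exact ⟨g, e, he, hgg, hee, hge, sd_all C ho hgg hxx hxg hgx hge⟩

end Cfsg.Agent.Classical.TensorMax.SpO
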