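/-
Elements fixing a fibre over the symplectic factor and acting trivially on its orthogonal modulo it.
-/
import Cfsg.Agent.Lib.Classical.TensorMax.SpO.Rad

set_option autoImplicit false
set_option linter.unusedSectionVars false

namespace Cfsg.Agent.Classical.TensorMax.SpO

open Matrix Module Cfsg.Geo
open Cfsg.Agent.Classical Cfsg.Agent.Classical.TensorMax Cfsg.Agent.Classical.TensorMax.Form

variable {α β : Type} [Fintype α] [DecidableEq α] [Fintype β] [DecidableEq β] {F : Type*} [Field F]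
variable {fo : (α → F) → (α → F) → F} {fs : (β → F) → (β → F) → F} {X : Subgroup (GL (α × β) F)}

local notation:max g:max " ⬝ₘ " x:max => ((g : GL (α × β) F) : Matrix (α × β) (α × β) F) *ᵥ x
local notation "τ" => tf (RingEquiv.refl F) fo fs

/-- Fixing the fibre pointwise, trivial on its orthogonal modulo it. -/
def Mid (fs : (β → F) → (β → F) → F) (o : β → F) (g : GL (α × β) F) : Prop :=
  (∀ a, (g : Matrix (α × β) (α × β) F) *ᵥ tm a o = tm a o) ∧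
    ∀ a w, fs w o = 0 → ∃ a', (g : Matrix (α × β) (α × β) F) *ᵥ tm a w = tm a w + tm a' o

variable (C : Ctx fo fs X)

include C

theorem mem_fibre {o : β → F} {δ : α × β → F} (h : ∀ a w, fs w o = 0 → τ δ (tm a w) = 0) :
    ∃ u, δ = tm u o :=
  eq_tm_of_ctr C.data fun v hv => ctr_eq C.data fun a => by rw [h a v hv, C.o.zero_left]

theorem row_perp {o : β → F} {y : α × β → F} (hy : ctr fs o y = 0) (i : α) : fs (row y i) o = 0 :=
  congrFun hy i

theorem mid_gen {o o' : β → F} (ho' : fs o' o = 1) {g : GL (α × β) F} (hg : g ∈ X) (hM : Mid fs o g)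
    {y : α × β → F} (hy : ctr fs o y = 0) :
    ∃ c, g ⬝ₘ y = y + tm c o ∧ ∀ b, fo c b = τ y (g ⬝ₘ (tm b o') - tm b o') := by
  classical
  choose c hc using fun i => hM.2 (Pi.single i 1) (row y i) (row_perp C hy i)
  have hgy : g ⬝ₘ y = y + tm (∑ i, c i) o := by
    have hs : tm (∑ i, c i) o = ∑ i, tm (c i) o := funext fun p => by
      simp [tm_apply, Finset.sum_mul]
    conv_lhs => rw [sum_rows y, Matrix.mulVec_sum]
    conv_rhs => rw [sum_rows y, hs, ← Finset.sum_add_distrib]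
    exact Finset.sum_congr rfl fun i _ => hc i
  refine ⟨_, hgy, fun b => ?_⟩
  have e1 := C.iso g hg y (tm b o')
  have e2 : τ (tm (∑ i, c i) o) (g ⬝ₘ (tm b o') - tm b o') = 0 := by
    have h3 := C.iso g hg (tm (∑ i, c i) o) (tm b o')
    rw [hM.1] at h3
    rw [sub_eq_add_neg, (tf_semi C.data).add_right, ← neg_one_smul F (tm b o'), (tf_semi C.data).smul_right, h3]
    simp
  rw [hgy, (tf_semi C.data).add_left] at e1
  rw [sub_eq_add_neg, (tf_semi C.data).add_right, ← neg_one_smul F (tm b o'), (tf_semi C.data).smul_right,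
    C.tau, C.s.swap o' o, ho'] at e2
  rw [sub_eq_add_neg, (tf_semi C.data).add_right, ← neg_one_smul F (tm b o'), (tf_semi C.data).smul_right]
  simp only [RingEquiv.refl_apply] at e2 ⊢
  linear_combination e2 - e1

theorem ctr_mid {o : β → F} {g : GL (α × β) F} (hg : g ∈ X) (hM : Mid fs o g) (x : α × β → F) :
    ctr fs o (g ⬝ₘ x) = ctr fs o x :=
  ctr_eq C.data fun a => by rw [← tf_tm_right C.data]; conv_lhs => rw [← hM.1 a]; exact C.iso g hg x _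

theorem mid_mul {o : β → F} {g h : GL (α × β) F} (hg : Mid fs o g) (hh : Mid fs o h) : Mid fs o (g * h) := by
  refine ⟨fun a => by rw [gl_mul_mulVec, hh.1, hg.1], fun a w hw => ?_⟩
  obtain ⟨a₁, h₁⟩ := hh.2 a w hw
  obtain ⟨a₂, h₂⟩ := hg.2 a w hw
  exact ⟨a₂ + a₁, by rw [gl_mul_mulVec, h₁, Matrix.mulVec_add, h₂, hg.1, tm_add_left]; abel⟩

theorem mid_inv {o : β → F} {g : GL (α × β) F} (hg : Mid fs o g) : Mid fs o g⁻¹ := by
  have h1 : ∀ a, g⁻¹ ⬝ₘ (tm a o) = tm a o := fun a => by conv_lhs => rw [← hg.1 a, gl_inv_mulVec_cancel]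
  refine ⟨h1, fun a w hw => ?_⟩
  obtain ⟨a', ha⟩ := hg.2 a w hw
  refine ⟨-a', gl_mulVec_injective g ?_⟩
  change g ⬝ₘ _ = g ⬝ₘ _
  rw [gl_mulVec_inv_cancel, Matrix.mulVec_add, ha, hg.1, add_assoc, ← tm_add_left, add_neg_cancel, tm_zero_left,
    add_zero]

theorem mid_conj {o : β → F} {g : GL (α × β) F} (hg : Mid fs o g) {r : GL α F} {t : GL β F}
    (ht : ∀ u v, fs ((t : Matrix β β F) *ᵥ u) ((t : Matrix β β F) *ᵥ v) = fs u v)
    (hto : (t : Matrix β β F) *ᵥ o = o) : Mid fs o (kr r t * g * (kr r t)⁻¹) := by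
  have hto' : ((t⁻¹ : GL β F) : Matrix β β F) *ᵥ o = o := by conv_lhs => rw [← hto, gl_inv_mulVec_cancel]
  refine ⟨fun a => ?_, fun a w hw => ?_⟩
  · rw [gl_mul_mulVec, gl_mul_mulVec, kr_inv, kr_tm, hto', hg.1, kr_tm, gl_mulVec_inv_cancel, hto]
  · obtain ⟨a', ha⟩ := hg.2 (((r⁻¹ : GL α F) : Matrix α α F) *ᵥ a) (((t⁻¹ : GL β F) : Matrix β β F) *ᵥ w)
      (by conv_lhs => rw [← ht, gl_mulVec_inv_cancel, hto]
          exact hw)
    exact ⟨(r : Matrix α α F) *ᵥ a', by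
      rw [gl_mul_mulVec, gl_mul_mulVec, kr_inv, kr_tm, ha, Matrix.mulVec_add, kr_tm, kr_tm, gl_mulVec_inv_cancel,
        gl_mulVec_inv_cancel, hto]⟩

/-- Fixing the orthogonal of a fibre pointwise gives a central element. -/
theorem central {o : β → F} (ho : o ≠ 0) {g : GL (α × β) F} (hg : g ∈ X)
    (hfix : ∀ y, ctr fs o y = 0 → g ⬝ₘ y = y) :
    ∃ L, InC fs X o L ∧ ∀ x, g ⬝ₘ x = x + tm (L (ctr fs o x)) o := by
  obtain ⟨o', ho'⟩ := C.partner ho
  have hu : ∀ a, ∃ u, g ⬝ₘ (tm a o') - tm a o' = tm u o := fun a => mem_fibre C fun b w hw => by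
    have h0 : ctr fs o (tm b w) = 0 := by rw [C.ctr_tm', hw, zero_smul]
    have := C.iso g hg (tm a o') (tm b w)
    rw [hfix _ h0] at this
    rw [sub_eq_add_neg, (tf_semi C.data).add_left, (reflex C.data).neg_left, this, add_neg_cancel]
  choose L hL using hu
  have hx : ∀ x, g ⬝ₘ x = x + tm (L (ctr fs o x)) o := fun x => by
    have h0 : ctr fs o (x - tm (ctr fs o x) o') = 0 := by
      rw [ctr_sub C.data, C.ctr_tm', ho', one_smul, sub_self]
    have := hfix _ h0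
    rw [Matrix.mulVec_sub] at this
    rw [← hL]
    linear_combination (norm := module) this
  exact ⟨L, ⟨g, hg, hx⟩, hx⟩

theorem central_kr [Finite F] {o : β → F} (ho : o ≠ 0) {g : GL (α × β) F} (hg : g ∈ X)
    (hfix : ∀ y, ctr fs o y = 0 → g ⬝ₘ y = y) :
    g ∈ Kr α β F ∧ ∃ r : F, Rt fs o r g := by
  obtain ⟨L, hL, hx⟩ := central C ho hg hfix
  obtain ⟨r, hr⟩ := scalar C ho hL
  have hR : Rt fs o r g := fun x => by rw [hx, hr]
  obtain ⟨t, -, -, ht⟩ := exists_rt (α := α) C.data (o := o) (c := r) (C.s.alt o)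
    (by rw [RingEquiv.refl_apply]; ring)
  exact ⟨rt_unique hR ht ▸ ⟨1, t, rfl⟩, r, hR⟩

/-- The commutator of two such elements is scalar. -/
theorem comm [Finite F] {o o' : β → F} (ho : o ≠ 0) (ho' : fs o' o = 1) {g h : GL (α × β) F} (hg : g ∈ X)
    (hh : h ∈ X) (hgM : Mid fs o g) (hhM : Mid fs o h) :
    ∃ r : F, ∀ a b, r * fo a b =
      τ (h ⬝ₘ (tm a o') - tm a o') (g ⬝ₘ (tm b o') - tm b o') -
        τ (g ⬝ₘ (tm a o') - tm a o') (h ⬝ₘ (tm b o') - tm b o') := by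
  obtain ⟨K, hK⟩ : ∃ K, K = g * h * (h * g)⁻¹ := ⟨_, rfl⟩
  have hKX : K ∈ X := hK ▸ mul_mem (mul_mem hg hh) (inv_mem (mul_mem hh hg))
  have hswap : ∀ y, ctr fs o y = 0 → g ⬝ₘ (h ⬝ₘ y) = h ⬝ₘ (g ⬝ₘ y) := fun y hy => by
    obtain ⟨c, hc, -⟩ := mid_gen C ho' hg hgM hy
    obtain ⟨d, hd, -⟩ := mid_gen C ho' hh hhM hy
    rw [hd, Matrix.mulVec_add, hc, hgM.1, Matrix.mulVec_add, hd, hhM.1]
    abel
  have hfix : ∀ y, ctr fs o y = 0 → K ⬝ₘ y = y := fun y hy => by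
    obtain ⟨z, rfl⟩ : ∃ z, y = h ⬝ₘ (g ⬝ₘ z) :=
      ⟨g⁻¹ ⬝ₘ (h⁻¹ ⬝ₘ y), by rw [gl_mulVec_inv_cancel, gl_mulVec_inv_cancel]⟩
    have hz : ctr fs o z = 0 := by rwa [ctr_mid C hh hhM, ctr_mid C hg hgM] at hy
    rw [hK, gl_mul_mulVec, ← gl_mul_mulVec h g, gl_inv_mulVec_cancel, gl_mul_mulVec, hswap z hz, gl_mul_mulVec]
  obtain ⟨-, r, hR⟩ := central_kr C ho hKX hfix
  refine ⟨r, fun a b => ?_⟩
  obtain ⟨y, hy⟩ : ∃ y, y = h ⬝ₘ (tm a o') - tm a o' := ⟨_, rfl⟩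
  obtain ⟨y', hy'⟩ : ∃ y', y' = g ⬝ₘ (tm a o') - tm a o' := ⟨_, rfl⟩
  have hcy : ctr fs o y = 0 := by rw [hy, ctr_sub C.data, ctr_mid C hh hhM, sub_self]
  have hcy' : ctr fs o y' = 0 := by rw [hy', ctr_sub C.data, ctr_mid C hg hgM, sub_self]
  obtain ⟨c, hc, hcv⟩ := mid_gen C ho' hg hgM hcy
  obtain ⟨d, hd, hdv⟩ := mid_gen C ho' hh hhM hcy'
  have e1 : g ⬝ₘ (h ⬝ₘ (tm a o')) = h ⬝ₘ (g ⬝ₘ (tm a o')) + tm (c - d) o := by
    rw [show h ⬝ₘ (tm a o') = tm a o' + y from by rw [hy]; abel,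
      show g ⬝ₘ (tm a o') = tm a o' + y' from by rw [hy']; abel, Matrix.mulVec_add, Matrix.mulVec_add, hc, hd,
      show h ⬝ₘ (tm a o') = tm a o' + y from by rw [hy]; abel,
      show g ⬝ₘ (tm a o') = tm a o' + y' from by rw [hy']; abel, tm_sub_left]
    abel
  have e2 := hR (h ⬝ₘ (g ⬝ₘ (tm a o')))
  rw [hK, gl_mul_mulVec, ← gl_mul_mulVec h g, gl_inv_mulVec_cancel, gl_mul_mulVec, gl_mul_mulVec, e1,
    ctr_mid C hh hhM, ctr_mid C hg hgM, C.ctr_tm', ho', one_smul, add_right_inj] at e2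
  rw [← C.smul_left, ← tm_cancel ho e2, C.sub_left, hcv, hdv, hy, hy']

theorem shift_skew [Finite F] {o w : β → F} (ho : o ≠ 0) (hwo : fs w o = 0) {g : GL (α × β) F} (hg : g ∈ X)
    (hM : Mid fs o g) {K : (α → F) → α → F} (hK : ∀ a, g ⬝ₘ (tm a w) = tm a w + tm (K a) o) :
    ∃ r : F, ∀ a b, fo (K a) b + fo a (K b) = r * fo a b := by
  obtain ⟨o', ho'⟩ := C.partner ho
  obtain ⟨t, -, hiso, hU⟩ := exists_uel (α := α) C.data (c := (0 : F)) (C.s.alt o) hwo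
    (by rw [C.s.alt, map_zero]; ring)
  have hk : kr (1 : GL α F) t ∈ X := C.right_mem hiso
  have hkM : Mid fs o (kr (1 : GL α F) t) :=
    ⟨fun a => uel_fix C.data (C.s.alt o) hwo hU a, fun a v hv => ⟨_, uel_mid C.data hU hv a⟩⟩
  obtain ⟨r, hr⟩ := comm C ho ho' hg hk hM hkM
  refine ⟨r, fun a b => ?_⟩
  have hy : ∀ a, ∃ c, (kr (1 : GL α F) t) ⬝ₘ (tm a o') - tm a o' = tm a w + tm c o := fun a =>
    ⟨_, by rw [hU, C.ctr_tm', ho', one_smul]; abel⟩
  have hor : ∀ (c : α → F) b, τ (tm c o) (g ⬝ₘ (tm b o') - tm b o') = 0 := fun c b => by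
    have h3 := C.iso g hg (tm c o) (tm b o')
    rw [hM.1] at h3
    rw [sub_eq_add_neg, (tf_semi C.data).add_right, ← neg_one_smul F (tm b o'), (tf_semi C.data).smul_right, h3]
    simp
  have hw : ∀ a b, τ (tm a w) (g ⬝ₘ (tm b o') - tm b o') = fo (K a) b := fun a b => by
    obtain ⟨c, hc, hcv⟩ := mid_gen C ho' hg hM (y := tm a w) (by rw [C.ctr_tm', hwo, zero_smul])
    rw [← hcv, show c = K a from tm_cancel ho (add_left_cancel (hc.symm.trans (hK a)))]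
  obtain ⟨ca, hca⟩ := hy a
  obtain ⟨cb, hcb⟩ := hy b
  have e := hr a b
  rw [hca, hcb, C.swap_tau (tm b w + tm cb o), (tf_semi C.data).add_left, (tf_semi C.data).add_left, hor, hor,
    hw, hw, C.symm a (K b)] at e
  linear_combination -e

end Cfsg.Agent.Classical.TensorMax.SpO
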