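/-
The radical meets the group in the tensor stabiliser.
-/
import Cfsg.Agent.Lib.Classical.TensorMax.SpO.Mid

set_option autoImplicit false
set_option linter.unusedSectionVars false

namespace Cfsg.Agent.Classical.TensorMax.SpO

open Matrix Module Cfsg.Geo
open Cfsg.Agent.Classical Cfsg.Agent.Classical.TensorMax Cfsg.Agent.Classical.TensorMax.Form

variable {α β : Type} [Fintype α] [DecidableEq α] [Fintype β] [DecidableEq β] {F : Type*} [Field F]
variable {fo : (α → F) → (α → F) → F} {fs : (β → F) → (β → F) → F} {X : Subgroup (GL (α × β) F)}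

local notation:max g:max " ⬝ₘ " x:max => ((g : GL (α × β) F) : Matrix (α × β) (α × β) F) *ᵥ x
local notation "τ" => tf (RingEquiv.refl F) fo fs

variable (C : Ctx fo fs X)

include C

theorem Ctx.exists_nonsing : ∃ a, fo a a ≠ 0 := by
  by_contra hz
  push Not at hz
  have h0 : ∀ a b, fo a b = 0 := fun a b => by
    have := hz (a + b)
    rw [C.add_left, C.add_right, C.add_right, hz, hz, C.symm a b, zero_add, add_zero, ← two_mul] at this
    exact (mul_eq_zero.mp this).resolve_left C.h2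
  haveI : Nonempty α := Fintype.card_pos_iff.mp (by have := C.dim; omega)
  obtain ⟨i⟩ := ‹Nonempty α›
  obtain ⟨x, hx⟩ := (C.o.nondeg (Pi.single i 1) (by simp)).2
  exact hx (h0 _ _)

/-- A linear map killing all non-singular vectors is zero. -/
theorem Ctx.vanish (K : (α → F) →ₗ[F] (α → F)) (h : ∀ v, fo v v ≠ 0 → K v = 0) : K = 0 := by
  obtain ⟨a₀, ha₀⟩ := C.exists_nonsing
  refine LinearMap.ext fun a => ?_
  by_cases haa : fo a a = 0
  · by_cases h1 : fo (a + a₀) (a + a₀) = 0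
    · have h2 : fo (a - a₀) (a - a₀) ≠ 0 := by
        intro h2
        rw [C.sub_left, C.sub_right, C.sub_right, haa, C.symm a a₀] at h2
        rw [C.add_left, C.add_right, C.add_right, haa, C.symm a a₀] at h1
        exact ha₀ ((mul_eq_zero.mp (show (2 : F) * fo a₀ a₀ = 0 by linear_combination h1 + h2)).resolve_left C.h2)
      have e := h _ h2
      rw [map_sub, h a₀ ha₀, sub_zero] at e
      exact e
    · have e := h _ h1
      rw [map_add, h a₀ ha₀, add_zero] at e
      exact e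
  · exact h a haa

/-- A vector representing a functional. -/
theorem exists_srep (φ : (β → F) →ₗ[F] F) : ∃ m, ∀ w, fs w m = φ w := by
  obtain ⟨b, hb⟩ := Radical.exists_vec φ
  have hu := C.s.refl.gram_isUnit
  obtain ⟨G, hG⟩ := hu
  refine ⟨((G⁻¹ : (Matrix β β F)ˣ) : Matrix β β F) *ᵥ b, fun w => ?_⟩
  rw [C.s.refl.apply_eq, ← hb, dotProduct_comm b w,
    show ((RingEquiv.refl F : F ≃+* F) : F → F) ∘ (((G⁻¹ : (Matrix β β F)ˣ) : Matrix β β F) *ᵥ b) =
      ((G⁻¹ : (Matrix β β F)ˣ) : Matrix β β F) *ᵥ b from rfl, ← hG, Matrix.mulVec_mulVec, Units.mul_inv,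
    Matrix.one_mulVec]

/-- Elements of the radical in the group lie in the tensor stabiliser. -/
theorem rad [Finite F] {o : β → F} (ho : o ≠ 0) {g : GL (α × β) F} (hg : g ∈ X) (hM : Mid fs o g) :
    g ∈ Kr α β F := by
  classical
  obtain ⟨o', ho'⟩ := C.partner ho
  obtain ⟨L, hL⟩ : ∃ L : (β → F) → (α → F) → α → F,
      ∀ w a, fs w o = 0 → g ⬝ₘ (tm a w) = tm a w + tm (L w a) o :=
    ⟨fun w a => if hw : fs w o = 0 then (hM.2 a w hw).choose else 0, fun w a hw => by
      simp only [dif_pos hw]; exact (hM.2 a w hw).choose_spec⟩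
  have hLadd : ∀ w, fs w o = 0 → ∀ a b, L w (a + b) = L w a + L w b := fun w hw a b => tm_cancel ho (by
    have := hL w (a + b) hw
    rw [tm_add_left, Matrix.mulVec_add, hL w a hw, hL w b hw] at this
    rw [tm_add_left]
    linear_combination (norm := module) -this)
  have hLsmul : ∀ w, fs w o = 0 → ∀ (s : F) a, L w (s • a) = s • L w a := fun w hw s a => tm_cancel ho (by
    have := hL w (s • a) hw
    rw [tm_smul_left, Matrix.mulVec_smul, hL w a hw] at this
    rw [tm_smul_left s (L w a)]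
    linear_combination (norm := module) -this)
  by_cases hsc : ∀ w, fs w o = 0 → ∃ r : F, ∀ a, L w a = r • a
  · -- a Siegel element takes care of scalar shifts
    obtain ⟨a₀, ha₀⟩ := C.exists_nonsing
    obtain ⟨i₀, hi₀⟩ : ∃ i, a₀ i ≠ 0 := by
      by_contra h
      push Not at h
      exact ha₀ (by rw [show a₀ = 0 from funext h, C.o.zero_left])
    obtain ⟨k₀, hk₀⟩ := Function.ne_iff.mp ho
    obtain ⟨P, hP⟩ : ∃ P : (β → F) → (β → F), ∀ w, P w = w - fs w o • o' := ⟨_, fun _ => rfl⟩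
    have hPo : ∀ w, fs (P w) o = 0 := fun w => by
      rw [hP, C.s.sub_left, C.s.refl.semi.smul_left, ho', mul_one, sub_self]
    let φ : (β → F) →ₗ[F] F :=
      { toFun := fun w => (g ⬝ₘ (tm a₀ (P w)) - tm a₀ (P w)) (i₀, k₀) / (a₀ i₀ * o k₀)
        map_add' := fun u v => by
          simp only [hP, C.s.refl.semi.add_left, add_smul]
          rw [show u + v - (fs u o • o' + fs v o • o') = (u - fs u o • o') + (v - fs v o • o') by abel, tm_add_right,
            Matrix.mulVec_add]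
          simp only [Pi.sub_apply, Pi.add_apply]
          ring
        map_smul' := fun c u => by
          simp only [hP, C.s.refl.semi.smul_left, RingHom.id_apply, smul_eq_mul]
          rw [show c • u - (c * fs u o) • o' = c • (u - fs u o • o') by module, tm_smul_right, Matrix.mulVec_smul]
          simp only [Pi.sub_apply, Pi.smul_apply, smul_eq_mul]
          ring }
    obtain ⟨m, hm⟩ := exists_srep C φ
    have hφ : ∀ w, fs w o = 0 → ∀ a, L w a = φ w • a := fun w hw a => by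
      obtain ⟨r, hr⟩ := hsc w hw
      rw [hr, show φ w = r from by
        change (g ⬝ₘ (tm a₀ (P w)) - tm a₀ (P w)) (i₀, k₀) / (a₀ i₀ * o k₀) = r
        rw [hP, hw, zero_smul, sub_zero, hL w a₀ hw, hr, add_sub_cancel_left, tm_apply, Pi.smul_apply, smul_eq_mul,
          div_eq_iff (mul_ne_zero hi₀ hk₀)]
        ring]
    have hmo : fs m o = 0 := by
      refine C.s.refl.eq_zero_swap ?_
      rw [hm]
      change (g ⬝ₘ (tm a₀ (P o)) - tm a₀ (P o)) (i₀, k₀) / (a₀ i₀ * o k₀) = 0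
      rw [hP, C.s.alt, zero_smul, sub_zero, hM.1, sub_self, Pi.zero_apply, zero_div]
    obtain ⟨t, -, hiso, hU⟩ := exists_uel (α := α) C.data (c := (0 : F)) (C.s.alt o) hmo
      (by rw [C.s.alt, map_zero]; ring)
    have hk : kr (1 : GL α F) t ∈ X := C.right_mem hiso
    have hagree : ∀ y, ctr fs o y = 0 → g ⬝ₘ y = (kr (1 : GL α F) t) ⬝ₘ y := fun y hy => by
      rw [sum_rows y, Matrix.mulVec_sum, Matrix.mulVec_sum]
      refine Finset.sum_congr rfl fun i _ => ?_
      rw [hL _ _ (row_perp C hy i), hφ _ (row_perp C hy i), uel_mid C.data hU (row_perp C hy i), ← hm]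
      congr 2
      simp
    have h1 := (central_kr C ho (mul_mem (inv_mem hk) hg) fun y hy => by
      rw [gl_mul_mulVec, hagree y hy, gl_inv_mulVec_cancel]).1
    have h2 := mul_mem (show kr (1 : GL α F) t ∈ Kr α β F from ⟨1, t, rfl⟩) h1
    rwa [mul_inv_cancel_left] at h2
  -- otherwise a skew shift of rank two appears
  exfalso
  push Not at hsc
  obtain ⟨m, hmo, hns⟩ := hsc
  obtain ⟨r₁, hr₁⟩ := shift_skew C ho hmo hg hM fun a => hL m a hmo
  let K : (α → F) →ₗ[F] (α → F) :=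
    { toFun := fun a => L m a - (r₁ / 2) • a
      map_add' := fun a b => by rw [hLadd m hmo, smul_add]; abel
      map_smul' := fun c a => by rw [hLsmul m hmo, RingHom.id_apply, smul_sub, smul_comm] }
  have hKa : ∀ a, L m a = K a + (r₁ / 2) • a := fun a => (sub_add_cancel _ _).symm
  have hskew : ∀ a b, fo (K a) b = -fo a (K b) := fun a b => by
    change fo (L m a - _) b = -fo a (L m b - _)
    rw [C.sub_left, C.sub_right, C.smul_left, C.smul_right]
    have := hr₁ a b
    have := C.h2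
    field_simp
    linear_combination 2 * hr₁ a b
  obtain ⟨v, hv, hKv⟩ : ∃ v, fo v v ≠ 0 ∧ K v ≠ 0 := by
    by_contra hno
    push Not at hno
    obtain ⟨a, ha⟩ := hns (r₁ / 2)
    exact ha (by rw [hKa, C.vanish K hno, LinearMap.zero_apply, zero_add])
  obtain ⟨u, hu⟩ : ∃ u, u = K v := ⟨_, rfl⟩
  have huv : fo u v = 0 := by
    have := hskew v v
    rw [C.symm (K v) v, ← hu] at this
    exact (mul_eq_zero.mp (show (2 : F) * fo u v = 0 by linear_combination this)).resolve_left C.h2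
  obtain ⟨r, hr, hri, hriso⟩ := C.exists_rf hv
  obtain ⟨c, hc⟩ : ∃ c : F, c = 2 / fo v v := ⟨_, rfl⟩
  have hc0 : c ≠ 0 := hc ▸ div_ne_zero C.h2 hv
  obtain ⟨K₀, hK₀⟩ : ∃ K₀ : (α → F) → α → F, ∀ a, K₀ a = c • (fo a v • u - fo a u • v) := ⟨_, fun _ => rfl⟩
  obtain ⟨g', hg'⟩ : ∃ g', g' = kr r (1 : GL β F) * g * (kr r 1)⁻¹ := ⟨_, rfl⟩
  have hg'X : g' ∈ X := hg' ▸ mul_mem (mul_mem (C.left_mem hriso) hg) (inv_mem (C.left_mem hriso))
  have hg'M : Mid fs o g' := hg' ▸ mid_conj C hM (fun a b => by simp) (by simp)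
  obtain ⟨g₀, hg₀⟩ : ∃ g₀, g₀ = g * g'⁻¹ := ⟨_, rfl⟩
  have hg₀X : g₀ ∈ X := hg₀ ▸ mul_mem hg (inv_mem hg'X)
  have hg₀M : Mid fs o g₀ := hg₀ ▸ mid_mul C hM (mid_inv C hg'M)
  obtain ⟨L₀, hL₀⟩ : ∃ L₀ : (β → F) → (α → F) → α → F,
      ∀ w a, fs w o = 0 → g₀ ⬝ₘ (tm a w) = tm a w + tm (L₀ w a) o :=
    ⟨fun w a => if hw : fs w o = 0 then (hg₀M.2 a w hw).choose else 0, fun w a hw => by
      simp only [dif_pos hw]; exact (hg₀M.2 a w hw).choose_spec⟩
  have hK₀m : ∀ a, g₀ ⬝ₘ (tm a m) = tm a m + tm (K₀ a) o := by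
    intro a
    have hg'm : ∀ a, g' ⬝ₘ (tm a m) = tm a m +
        tm ((r : Matrix α α F) *ᵥ L m (((r⁻¹ : GL α F) : Matrix α α F) *ᵥ a)) o := fun a => by
      rw [hg', gl_mul_mulVec, gl_mul_mulVec, kr_inv, kr_tm, inv_one, Units.val_one, Matrix.one_mulVec, hL m _ hmo,
        Matrix.mulVec_add, kr_tm, kr_tm, gl_mulVec_inv_cancel]
      simp
    have hinv : g'⁻¹ ⬝ₘ (tm a m) = tm a m -
        tm ((r : Matrix α α F) *ᵥ L m (((r⁻¹ : GL α F) : Matrix α α F) *ᵥ a)) o := by
      apply gl_mulVec_injective g'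
      change g' ⬝ₘ _ = g' ⬝ₘ _
      rw [gl_mulVec_inv_cancel, Matrix.mulVec_sub, hg'm, hg'M.1, add_sub_cancel_right]
    rw [hg₀, gl_mul_mulVec, hinv, Matrix.mulVec_sub, hL m a hmo, hM.1, add_sub_assoc, ← tm_sub_left, hK₀]
    congr 2
    rw [hKa, hKa]
    simp only [hri, hr, map_sub, map_smul, ← hu, C.sub_left, C.smul_left, C.add_left, hskew a v, huv, hc]
    have := C.h2
    match_scalars <;> field_simp <;> ring
  obtain ⟨t, ⟨ht, -, htiso⟩⟩ := exists_stv C.s m (1 : F)
  have hto : (t : Matrix β β F) *ᵥ o = o := by rw [ht, C.s.refl.eq_zero_swap hmo, mul_zero, zero_smul, add_zero]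
  have htinv : ∀ w, ((t⁻¹ : GL β F) : Matrix β β F) *ᵥ w = w - fs w m • m := fun w => by
    apply gl_mulVec_injective t
    change (t : Matrix β β F) *ᵥ _ = (t : Matrix β β F) *ᵥ _
    rw [gl_mulVec_inv_cancel, Matrix.mulVec_sub, Matrix.mulVec_smul, ht, ht, C.s.alt]
    module
  have hk : kr (1 : GL α F) t ∈ X := C.right_mem htiso
  obtain ⟨h, hh⟩ : ∃ h, h = g₀ * (kr (1 : GL α F) t * g₀⁻¹ * (kr 1 t)⁻¹) := ⟨_, rfl⟩
  have hhX : h ∈ X := hh ▸ mul_mem hg₀X (mul_mem (mul_mem hk (inv_mem hg₀X)) (inv_mem hk))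
  have hhM : Mid fs o h := hh ▸ mid_mul C hg₀M (mid_conj C (mid_inv C hg₀M) htiso hto)
  have hhw : ∀ a w, fs w o = 0 → h ⬝ₘ (tm a w) = tm a w + tm (fs w m • K₀ a) o := by
    intro a w hw
    have hw' : fs (w - fs w m • m) o = 0 := by
      rw [C.s.sub_left, C.s.refl.semi.smul_left, hw, hmo, mul_zero, sub_zero]
    have hinv : g₀⁻¹ ⬝ₘ (tm a (w - fs w m • m)) = tm a (w - fs w m • m) - tm (L₀ w a - fs w m • K₀ a) o := by
      apply gl_mulVec_injective g₀
      change g₀ ⬝ₘ _ = g₀ ⬝ₘ _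
      rw [gl_mulVec_inv_cancel, Matrix.mulVec_sub, hg₀M.1, tm_sub_right, tm_smul_right, Matrix.mulVec_sub,
        Matrix.mulVec_smul, hL₀ w a hw, hK₀m, tm_sub_left, tm_smul_left]
      module
    have hk' : (kr (1 : GL α F) t) ⬝ₘ (tm a (w - fs w m • m)) = tm a w := by
      rw [← htinv, kr_tm, gl_mulVec_inv_cancel, Units.val_one, Matrix.one_mulVec]
    rw [hh, gl_mul_mulVec, gl_mul_mulVec, gl_mul_mulVec, kr_inv, kr_tm, inv_one, Units.val_one, Matrix.one_mulVec,
      htinv, hinv, Matrix.mulVec_sub, hk', kr_tm, hto, Units.val_one, Matrix.one_mulVec, Matrix.mulVec_sub,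
      hL₀ w a hw, hg₀M.1, add_sub_assoc, ← tm_sub_left, sub_sub_cancel]
  have hskew₀ : ∀ a b, fo (K₀ a) b = -fo a (K₀ b) := fun a b => by
    simp only [hK₀, C.smul_left, C.smul_right, C.sub_left, C.sub_right, C.symm b v, C.symm b u, C.symm a v, C.symm a u]
    ring
  obtain ⟨y, hy⟩ : ∃ y : (α → F) → α × β → F, ∀ a, y a = h ⬝ₘ (tm a o') - tm a o' := ⟨_, fun _ => rfl⟩
  have hyc : ∀ a, ctr fs o (y a) = 0 := fun a => by rw [hy, ctr_sub C.data, ctr_mid C hhX hhM, sub_self]
  have hyd : ∀ a, ∃ d, y a = tm d o - tm (K₀ a) m := fun a => by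
    obtain ⟨d, hd⟩ := mem_fibre C (o := o) (δ := y a + tm (K₀ a) m) fun b w hw => by
      have e1 := C.iso h hhX (tm a o') (tm b w)
      rw [show h ⬝ₘ (tm a o') = tm a o' + y a by rw [hy]; abel, hhw b w hw, (tf_semi C.data).add_left,
        (tf_semi C.data).add_right, (tf_semi C.data).add_right, C.tau, C.tau, tf_tm_right C.data (y a) _ o, hyc,
        C.o.zero_left, ho', C.smul_right] at e1
      rw [(tf_semi C.data).add_left, C.tau, hskew₀, C.s.swap w m]
      linear_combination e1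
    exact ⟨d, by rw [← hd]; abel⟩
  obtain ⟨r₂, hr₂⟩ := comm C ho ho' hg₀X hhX hg₀M hhM
  have hor : ∀ (d : α → F) b, τ (tm d o) (g₀ ⬝ₘ (tm b o') - tm b o') = 0 := fun d b => by
    have h3 := C.iso g₀ hg₀X (tm d o) (tm b o')
    rw [hg₀M.1] at h3
    rw [sub_eq_add_neg, (tf_semi C.data).add_right, ← neg_one_smul F (tm b o'), (tf_semi C.data).smul_right, h3]
    simp
  have hwv : ∀ a b, τ (tm a m) (g₀ ⬝ₘ (tm b o') - tm b o') = fo (K₀ a) b := fun a b => by
    obtain ⟨d, hd, hdv⟩ := mid_gen C ho' hg₀X hg₀M (y := tm a m) (by rw [C.ctr_tm', hmo, zero_smul])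
    rw [← hdv, show d = K₀ a from tm_cancel ho (add_left_cancel (hd.symm.trans (hK₀m a)))]
  have hyg : ∀ a b, τ (y a) (g₀ ⬝ₘ (tm b o') - tm b o') = fo (K₀ a) (K₀ b) := fun a b => by
    obtain ⟨d, hd⟩ := hyd a
    rw [hd, sub_eq_add_neg, (tf_semi C.data).add_left, (reflex C.data).neg_left, hor, hwv, zero_add, hskew₀, neg_neg]
  have hmain : ∀ a b, r₂ * fo a b = 2 * fo (K₀ a) (K₀ b) := fun a b => by
    rw [hr₂, ← hy, ← hy, hyg, C.swap_tau (y b), hyg, C.symm (K₀ a) (K₀ b)]
    ring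
  obtain ⟨d, hd1, hd0⟩ := Submodule.exists_mem_ne_zero_of_ne_bot
    (p := C.o.perp (Submodule.span F {u, v})) fun e => by
      have hd := C.o.finrank_perp (Submodule.span F {u, v})
      have h2 : finrank F (Submodule.span F ({u, v} : Set (α → F))) ≤ 2 := by
        have := finrank_span_finset_le_card (R := F) ({u, v} : Finset (α → F))
        rw [Finset.coe_pair] at this
        exact this.trans Finset.card_le_two
      have := C.dim
      rw [e, finrank_bot] at hd
      omega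
  have hKd : K₀ d = 0 := by
    rw [hK₀, hd1 u (Submodule.subset_span (by simp)), hd1 v (Submodule.subset_span (by simp))]
    simp
  obtain ⟨x, hx⟩ := (C.o.nondeg d hd0).2
  have hr0 : r₂ = 0 := by
    have := hmain d x
    rw [hKd, C.o.zero_left, mul_zero] at this
    exact (mul_eq_zero.mp this).resolve_right hx
  obtain ⟨b, hb⟩ := (C.o.nondeg u (hu ▸ hKv)).2
  obtain ⟨a, ha⟩ : ∃ a, a = b - (fo b v / fo v v) • v := ⟨_, rfl⟩
  have hav : fo a v = 0 := by rw [ha, C.sub_left, C.smul_left]; field_simp; ring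
  have hau : fo a u = fo u b := by rw [ha, C.sub_left, C.smul_left, C.symm u v, huv, mul_zero, sub_zero, C.symm]
  have := hmain a a
  rw [hr0, zero_mul, hK₀, hav, hau] at this
  simp only [zero_smul, zero_sub, C.smul_left, C.smul_right, C.o.neg_left] at this
  have e : (2 : F) * (c * c) * (fo u b * fo u b) * fo v v = 0 := by
    rw [C.symm (-(fo u b • v))] at this
    simp only [C.o.neg_left, C.smul_left, C.symm (-(fo u b • v))] at this
    linear_combination -this
  exact mul_ne_zero (mul_ne_zero (mul_ne_zero C.h2 (mul_ne_zero hc0 hc0)) (mul_ne_zero hb hb)) hv e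

end Cfsg.Agent.Classical.TensorMax.SpO
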