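/-
An element of the group stabilising a fibre over the symplectic factor lies in the tensor stabiliser.
-/
import Cfsg.Agent.Lib.Classical.TensorMax.SpO.RadFull
import Cfsg.Agent.Lib.Classical.TensorMax.Form.Fibre

set_option autoImplicit false
set_option linter.unusedSectionVars false

namespace Cfsg.Agent.Classical.TensorMax.SpO

open Matrix Module Cfsg.Geo
open Cfsg.Agent.Classical Cfsg.Agent.Classical.TensorMax Cfsg.Agent.Classical.TensorMax.Form

variable {α β : Type} [Fintype α] [DecidableEq α] [Fintype β] [DecidableEq β] {F : Type*} [Field F]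
variable {fo : (α → F) → (α → F) → F} {fs : (β → F) → (β → F) → F} {X : Subgroup (GL (α × β) F)}

local notation:max g:max " ⬝ₘ " x:max => ((g : GL (α × β) F) : Matrix (α × β) (α × β) F) *ᵥ x
local notation "τ" => tf (RingEquiv.refl F) fo fs

/-- The map induced between two fibres. -/
theorem fibre_map {h : GL (α × β) F} {w w' : β → F} (hw : w ≠ 0) (hw' : w' ≠ 0)
    (hf : ∀ a, ∃ a', h ⬝ₘ (tm a w) = tm a' w') :
    ∃ A : GL α F, ∀ a, h ⬝ₘ (tm a w) = tm ((A : Matrix α α F) *ᵥ a) w' := by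
  obtain ⟨k, hk⟩ := Function.ne_iff.mp hw'
  let L : (α → F) →ₗ[F] (α → F) :=
    { toFun := fun a i => (h ⬝ₘ (tm a w)) (i, k) / w' k
      map_add' := fun a b => funext fun i => by simp [tm_add_left, Matrix.mulVec_add, add_div]
      map_smul' := fun r a => funext fun i => by simp [tm_smul_left, Matrix.mulVec_smul, mul_div_assoc] }
  have hL : ∀ a, h ⬝ₘ (tm a w) = tm (L a) w' := fun a => by
    obtain ⟨a', ha'⟩ := hf a
    rw [ha']
    refine congrArg (fun v => tm v w') (funext fun i => ?_)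
    change _ = (h ⬝ₘ (tm a w)) (i, k) / w' k
    rw [ha', tm_apply, mul_div_cancel_right₀ _ hk]
  have hM : ∀ v, LinearMap.toMatrix' L *ᵥ v = L v := fun v => by rw [← Matrix.toLin'_apply, Matrix.toLin'_toMatrix']
  have hu : IsUnit (LinearMap.toMatrix' L) := Matrix.mulVec_injective_iff_isUnit.mp fun a b e => by
    simp only [hM] at e
    have := gl_mulVec_injective h (show h ⬝ₘ (tm a w) = h ⬝ₘ (tm b w) by rw [hL, hL, e])
    refine sub_eq_zero.mp ((tm_eq_zero (b := w) ?_).resolve_right hw)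
    rw [tm_sub_left, this, sub_self]
  exact ⟨hu.unit, fun a => by rw [hL, IsUnit.unit_spec, hM]⟩

variable (C : Ctx fo fs X)

include C

theorem Ctx.kr_sim {r : GL α F} {t : GL β F} {μ ν : F} (hμν : μ * ν = 1)
    (hr : ∀ u v, fo ((r : Matrix α α F) *ᵥ u) ((r : Matrix α α F) *ᵥ v) = μ * fo u v)
    (ht : ∀ u v, fs ((t : Matrix β β F) *ᵥ u) ((t : Matrix β β F) *ᵥ v) = ν * fs u v) : kr r t ∈ X := by
  refine C.small _ ⟨r, t, rfl⟩ fun x y => ?_
  have hR : ∀ (v : α × β → F) (s : α → α × β → F), τ v (∑ i, s i) = ∑ i, τ v (s i) := fun v s =>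
    map_sum (AddMonoidHom.mk' (fun w => τ v w) ((tf_semi C.data).add_right v)) s Finset.univ
  conv_rhs => rw [sum_rows x, sum_rows y]
  conv_lhs => rw [sum_rows x, sum_rows y]
  simp only [Matrix.mulVec_sum, (reflex C.data).sum_left, hR, kr_tm, C.tau, hr, ht]
  refine Finset.sum_congr rfl fun i _ => Finset.sum_congr rfl fun j _ => ?_
  linear_combination (fo (Pi.single i 1) (Pi.single j 1) * fs (row x i) (row y j)) * hμν

/-- An element stabilising a fibre lies in the tensor stabiliser. -/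
theorem stab [Finite F] {o : β → F} (ho : o ≠ 0) {h : GL (α × β) F} (hh : h ∈ X)
    (hf : ∀ a, ∃ a', h ⬝ₘ (tm a o) = tm a' o) : h ∈ Kr α β F := by
  classical
  obtain ⟨A, hA⟩ := fibre_map ho ho hf
  obtain ⟨o', ho'⟩ := C.partner ho
  obtain ⟨k₀, hk₀⟩ := Function.ne_iff.mp ho
  have hinvA : ∀ a, h⁻¹ ⬝ₘ (tm a o) = tm (((A⁻¹ : GL α F) : Matrix α α F) *ᵥ a) o := fun a => by
    apply gl_mulVec_injective h
    change h ⬝ₘ _ = h ⬝ₘ _
    rw [gl_mulVec_inv_cancel, hA, gl_mulVec_inv_cancel]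
  have hco : ∀ x, ctr fs o (h⁻¹ ⬝ₘ x) = formAdj (RingEquiv.refl F) fo (A : Matrix α α F) *ᵥ ctr fs o x := fun x =>
    ctr_eq C.data fun a => by
      rw [← C.iso h hh, gl_mulVec_inv_cancel, hA, tf_tm_right C.data, C.o.adj_spec']
  -- the similitude
  obtain ⟨t₁, -, hiso₁, hR⟩ := exists_rt (α := α) C.data (o := o) (c := (1 : F)) (C.s.alt o)
    (by rw [map_one]; ring)
  obtain ⟨μ, hμ⟩ := scalar C ho (L := fun c => (A : Matrix α α F) *ᵥ (formAdj (RingEquiv.refl F) fo (A : Matrix α α F) *ᵥ c))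
    ⟨h * kr 1 t₁ * h⁻¹, mul_mem (mul_mem hh (C.right_mem hiso₁)) (inv_mem hh), fun x => by
      rw [gl_mul_mulVec, gl_mul_mulVec, hR, Matrix.mulVec_add, gl_mulVec_inv_cancel, one_smul, hco, hA]⟩
  have hAA : ∀ a, formAdj (RingEquiv.refl F) fo (A : Matrix α α F) *ᵥ ((A : Matrix α α F) *ᵥ a) = μ • a := fun a => by
    apply gl_mulVec_injective A
    change (A : Matrix α α F) *ᵥ _ = (A : Matrix α α F) *ᵥ _
    rw [hμ, Matrix.mulVec_smul]
  have hsim : ∀ a b, fo ((A : Matrix α α F) *ᵥ a) ((A : Matrix α α F) *ᵥ b) = μ * fo a b := fun a b => by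
    rw [C.o.adj_spec', hAA, C.smul_left]
  obtain ⟨a₀, ha₀⟩ := C.exists_nonsing
  have hμ0 : μ ≠ 0 := fun e => ha₀ (by
    have := hsim (((A⁻¹ : GL α F) : Matrix α α F) *ᵥ a₀) (((A⁻¹ : GL α F) : Matrix α α F) *ᵥ a₀)
    rwa [gl_mulVec_inv_cancel, e, zero_mul] at this)
  obtain ⟨i₀, hi₀⟩ : ∃ i, ((A : Matrix α α F) *ᵥ a₀) i ≠ 0 := by
    by_contra hcon
    push Not at hcon
    have := hsim a₀ a₀
    rw [show (A : Matrix α α F) *ᵥ a₀ = 0 from funext hcon, C.o.zero_left] at this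
    exact mul_ne_zero hμ0 ha₀ this.symm
  -- the second factor
  let S : (β → F) →ₗ[F] (β → F) :=
    { toFun := fun w k => (h ⬝ₘ (tm a₀ w)) (i₀, k) / ((A : Matrix α α F) *ᵥ a₀) i₀
      map_add' := fun u v => funext fun k => by simp [tm_add_right, Matrix.mulVec_add, add_div]
      map_smul' := fun c u => funext fun k => by simp [tm_smul_right, Matrix.mulVec_smul, mul_div_assoc] }
  have hSo : S o = o := funext fun k => by
    change (h ⬝ₘ (tm a₀ o)) (i₀, k) / _ = o k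
    rw [hA, tm_apply, mul_div_cancel_left₀ _ hi₀]
  have hplane : ∀ w, fs w o = 0 → fs (S w) o = 0 ∧
      ∀ a, ∃ a', h ⬝ₘ (tm a w) = tm ((A : Matrix α α F) *ᵥ a) (S w) + tm a' o := by
    intro w hw
    obtain ⟨t, -, hiso, hU⟩ := exists_uel (α := α) C.data (c := (0 : F)) (C.s.alt o) hw
      (by rw [C.s.alt, map_zero]; ring)
    obtain ⟨g, hg⟩ : ∃ g, g = h * kr 1 t * h⁻¹ := ⟨_, rfl⟩
    have hgX : g ∈ X := hg ▸ mul_mem (mul_mem hh (C.right_mem hiso)) (inv_mem hh)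
    have hgo : ∀ a, g ⬝ₘ (tm a o) = tm a o := fun a => by
      rw [hg, gl_mul_mulVec, gl_mul_mulVec, hinvA, uel_fix C.data (C.s.alt o) hw hU, hA, gl_mulVec_inv_cancel]
    have hgm : ∀ b v, fs v o = 0 → g ⬝ₘ (tm b v) =
        tm b v + tm ((A : Matrix α α F) *ᵥ ctr fs w (h⁻¹ ⬝ₘ (tm b v))) o := fun b v hv => by
      have h0 : ctr fs o (h⁻¹ ⬝ₘ (tm b v)) = 0 := by rw [hco, C.ctr_tm', hv, zero_smul, Matrix.mulVec_zero]
      rw [hg, gl_mul_mulVec, gl_mul_mulVec, hU, h0]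
      simp only [smul_zero, tm_zero_left, add_zero, zero_sub, Matrix.mulVec_add, gl_mulVec_inv_cancel, hA,
        Matrix.mulVec_neg, Matrix.mulVec_smul, map_neg, map_one, neg_smul, one_smul, neg_neg]
    obtain ⟨B, hB⟩ := kr_shift (rad C ho hgX ⟨hgo, fun a v hv => ⟨_, hgm a v hv⟩⟩) ho hgo
    have hK : ∀ v, fs v o = 0 → ∀ b,
        (A : Matrix α α F) *ᵥ ctr fs w (h⁻¹ ⬝ₘ (tm b v)) = ((B *ᵥ v - v) k₀ / o k₀) • b := fun v hv b =>
      tm_shift ho (by
        have := hgm b v hv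
        rw [hB] at this
        rw [tm_sub_right, this, add_sub_cancel_left]) hk₀
    have hctr : ∀ v, fs v o = 0 → ∀ a, ctr fs v (h ⬝ₘ (tm a w)) =
        (-((B *ᵥ v - v) k₀ / o k₀) / μ) • ((A : Matrix α α F) *ᵥ a) := fun v hv a => ctr_eq C.data fun b => by
      obtain ⟨κ, hκ⟩ : ∃ κ, κ = (B *ᵥ v - v) k₀ / o k₀ := ⟨_, rfl⟩
      have h1 := hK v hv b
      rw [← hκ] at h1 ⊢
      have h2 : μ * fo (ctr fs w (h⁻¹ ⬝ₘ (tm b v))) a = κ * fo b ((A : Matrix α α F) *ᵥ a) := by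
        rw [← hsim, h1, C.smul_left]
      rw [C.smul_left, ← C.iso h⁻¹ (inv_mem hh), gl_inv_mulVec_cancel, C.swap_tau, tf_tm_right C.data,
        C.symm b ((A : Matrix α α F) *ᵥ a), div_mul_eq_mul_div, eq_div_iff hμ0]
      linear_combination -h2
    have hSv : ∀ v, fs v o = 0 → fs (S w) v = -((B *ᵥ v - v) k₀ / o k₀) / μ := fun v hv => by
      have := congrFun (hctr v hv a₀) i₀
      rw [Pi.smul_apply, smul_eq_mul] at this
      rw [show S w = (((A : Matrix α α F) *ᵥ a₀) i₀)⁻¹ • row (h ⬝ₘ (tm a₀ w)) i₀ from funext fun k => by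
        change (h ⬝ₘ (tm a₀ w)) (i₀, k) / _ = _
        rw [Pi.smul_apply, smul_eq_mul, Form.row, div_eq_inv_mul], C.s.refl.semi.smul_left,
        show fs (row (h ⬝ₘ (tm a₀ w)) i₀) v = _ from this]
      field_simp
    refine ⟨?_, fun a => ?_⟩
    · have h0 : ctr fs o (h ⬝ₘ (tm a₀ w)) = 0 := ctr_eq C.data fun b => by
        rw [show tm b o = h ⬝ₘ (tm (((A⁻¹ : GL α F) : Matrix α α F) *ᵥ b) o) by rw [hA, gl_mulVec_inv_cancel],
          C.iso h hh, C.tau, hw, mul_zero, C.o.zero_left]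
      rw [show S w = (((A : Matrix α α F) *ᵥ a₀) i₀)⁻¹ • row (h ⬝ₘ (tm a₀ w)) i₀ from funext fun k => by
        change (h ⬝ₘ (tm a₀ w)) (i₀, k) / _ = _
        rw [Pi.smul_apply, smul_eq_mul, Form.row, div_eq_inv_mul], C.s.refl.semi.smul_left]
      exact mul_eq_zero_of_right _ (congrFun h0 i₀)
    · obtain ⟨u, hu⟩ := eq_tm_of_ctr C.data (S := o) (x := h ⬝ₘ (tm a w) - tm ((A : Matrix α α F) *ᵥ a) (S w))
        fun v hv => by rw [ctr_sub C.data, hctr v hv, C.ctr_tm', hSv v hv, sub_self]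
      exact ⟨u, by rw [← hu]; abel⟩
  obtain ⟨ν, hν⟩ : ∃ ν : F, ν = μ⁻¹ := ⟨_, rfl⟩
  have hmult : ∀ w w', fs w o = 0 → fs w' o = 0 → fs (S w) (S w') = ν * fs w w' := by
    intro w w' hw hw'
    obtain ⟨hSw, hSw2⟩ := hplane w hw
    obtain ⟨hSw', hSw2'⟩ := hplane w' hw'
    obtain ⟨a', ha'⟩ := hSw2 a₀
    obtain ⟨b', hb'⟩ := hSw2' a₀
    have e := C.iso h hh (tm a₀ w) (tm a₀ w')
    rw [ha', hb', (tf_semi C.data).add_left, (tf_semi C.data).add_right, (tf_semi C.data).add_right, C.tau, C.tau,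
      C.tau, C.tau, C.tau, hsim, hSw, C.s.alt, C.s.refl.eq_zero_swap hSw'] at e
    rw [hν]
    field_simp
    refine mul_left_cancel₀ ha₀ ?_
    linear_combination e
  obtain ⟨P, hP⟩ : ∃ P : (β → F) → (β → F), ∀ x, P x = x - fs x o • o' := ⟨_, fun _ => rfl⟩
  have hPo : ∀ x, fs (P x) o = 0 := fun x => by
    rw [hP, C.s.sub_left, C.s.refl.semi.smul_left, ho', mul_one, sub_self]
  let T : (β → F) →ₗ[F] (β → F) :=
    { toFun := fun x => S (x - fs x o • o') + (fs (S (x - fs x o • o')) o' - fs x o') • o + (ν * fs x o) • o'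
      map_add' := fun x y => by
        simp only [C.s.refl.semi.add_left, add_smul]
        rw [show x + y - (fs x o • o' + fs y o • o') = (x - fs x o • o') + (y - fs y o • o') by abel, map_add,
          C.s.refl.semi.add_left]
        module
      map_smul' := fun c x => by
        simp only [C.s.refl.semi.smul_left, RingHom.id_apply]
        rw [show c • x - (c * fs x o) • o' = c • (x - fs x o • o') by module, map_smul, C.s.refl.semi.smul_left]
        module }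
  have hT : ∀ x, T x = S (P x) + (fs (S (P x)) o' - fs x o') • o + (ν * fs x o) • o' := fun x => by rw [hP]; rfl
  have hTo : T o = o := by
    rw [hT, hP, C.s.alt, zero_smul, sub_zero, hSo]
    simp
  have hTs : ∀ x y, fs (T x) (T y) = ν * fs x y := by
    intro x y
    have e1 := hmult _ _ (hPo x) (hPo y)
    have e2 : fs (S (P x)) o = 0 := (hplane _ (hPo x)).1
    have e3 : fs (S (P y)) o = 0 := (hplane _ (hPo y)).1
    have e4 : fs (P x) (P y) = fs x y - fs y o * fs x o' + fs x o * fs y o' := by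
      simp only [hP, C.s.sub_left, C.s.sub_right, C.s.refl.semi.smul_left, C.s.smul_right, C.s.alt, C.s.swap y o']
      ring
    simp only [hT, C.s.refl.semi.add_left, C.s.refl.semi.add_right, C.s.refl.semi.smul_left, C.s.smul_right, e1, e2,
      C.s.refl.eq_zero_swap e3, C.s.alt, C.s.swap (S (P y)) o', C.s.swap o' o, ho', e4]
    ring
  have hν0 : ν ≠ 0 := hν ▸ inv_ne_zero hμ0
  have hM : ∀ v, LinearMap.toMatrix' T *ᵥ v = T v := fun v => by rw [← Matrix.toLin'_apply, Matrix.toLin'_toMatrix']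
  have hu : IsUnit (LinearMap.toMatrix' T) := Matrix.mulVec_injective_iff_isUnit.mp fun x y e => by
    simp only [hM] at e
    by_contra hne
    obtain ⟨z, hz⟩ := (C.s.refl.nondeg _ (sub_ne_zero.mpr hne)).2
    exact mul_ne_zero hν0 hz (by rw [← hTs, map_sub, e, sub_self, C.s.refl.zero_left])
  have hkX : kr A hu.unit ∈ X := C.kr_sim (μ := μ) (ν := ν) (by rw [hν, mul_inv_cancel₀ hμ0]) hsim fun u v => by
    rw [IsUnit.unit_spec, hM, hM, hTs]
  have hko : ∀ a, (kr A hu.unit) ⬝ₘ (tm a o) = tm ((A : Matrix α α F) *ᵥ a) o := fun a => by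
    rw [kr_tm, IsUnit.unit_spec, hM, hTo]
  have hmid : Mid fs o ((kr A hu.unit)⁻¹ * h) := by
    refine ⟨fun a => ?_, fun a w hw => ?_⟩
    · rw [gl_mul_mulVec, hA, ← hko, gl_inv_mulVec_cancel]
    · obtain ⟨a', ha'⟩ := (hplane w hw).2 a
      obtain ⟨c, hc⟩ : ∃ c, c = fs (S w) o' - fs w o' := ⟨_, rfl⟩
      refine ⟨((A⁻¹ : GL α F) : Matrix α α F) *ᵥ a' - c • a, gl_mulVec_injective (kr A hu.unit) ?_⟩
      change (kr A hu.unit) ⬝ₘ _ = (kr A hu.unit) ⬝ₘ _
      rw [gl_mul_mulVec, gl_mulVec_inv_cancel, Matrix.mulVec_add, hko, kr_tm, IsUnit.unit_spec, hM, hT, hP, hw,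
        zero_smul, sub_zero, mul_zero, zero_smul, add_zero, ← hc, Matrix.mulVec_sub, Matrix.mulVec_smul,
        gl_mulVec_inv_cancel, ha', tm_add_right, tm_smul_right, tm_sub_left, tm_smul_left]
      abel
  have := mul_mem (show kr A hu.unit ∈ Kr α β F from ⟨A, hu.unit, rfl⟩)
    (rad C ho (mul_mem (inv_mem hkX) hh) hmid)
  rwa [mul_inv_cancel_left] at this

/-- An element carrying a fibre to a fibre lies in the tensor stabiliser. -/
theorem stab' [Finite F] {o d : β → F} (ho : o ≠ 0) (hd : d ≠ 0) {h : GL (α × β) F} (hh : h ∈ X)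
    (hf : ∀ a, ∃ a', h ⬝ₘ (tm a o) = tm a' d) : h ∈ Kr α β F := by
  obtain ⟨t, ht, htd⟩ := tmove_one C.s hd ho
  have hk := C.right_mem (tgen_iso C.s ht).2
  have := stab C ho (mul_mem hk hh) fun a => by
    obtain ⟨a', ha'⟩ := hf a
    exact ⟨a', by rw [gl_mul_mulVec, ha', kr_tm, htd, Units.val_one, Matrix.one_mulVec]⟩
  have := mul_mem (inv_mem (show kr (1 : GL α F) t ∈ Kr α β F from ⟨1, t, rfl⟩)) this
  rwa [inv_mul_cancel_left] at this

end Cfsg.Agent.Classical.TensorMax.SpO
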