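/-
Root elements of the symplectic factor are moved into the tensor stabiliser only by the stabiliser; consequences
for the subgroups of prime power order.
-/
import Cfsg.Agent.Lib.Classical.TensorMax.SpO.Stab
import Cfsg.Agent.Lib.Classical.TensorMax.Form.SpAlg
import Cfsg.Agent.Lib.Classical.TensorMax.Orbit

set_option autoImplicit false
set_option linter.unusedSectionVars false

namespace Cfsg.Agent.Classical.TensorMax.SpO

open Matrix Module Cfsg.Geo
open Cfsg.Agent.Classical Cfsg.Agent.Classical.TensorMax Cfsg.Agent.Classical.TensorMax.Form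

variable {α β : Type} [Fintype α] [DecidableEq α] [Fintype β] [DecidableEq β] {F : Type*} [Field F]
variable {fo : (α → F) → (α → F) → F} {fs : (β → F) → (β → F) → F} {X : Subgroup (GL (α × β) F)}

local notation:max g:max " ⬝ₘ " x:max => ((g : GL (α × β) F) : Matrix (α × β) (α × β) F) *ᵥ x
local notation "τ" => tf (RingEquiv.refl F) fo fs

/-- Root elements of the symplectic factor. -/
def IsRt (fs : (β → F) → (β → F) → F) (z : GL (α × β) F) : Prop :=
  ∃ (o : β → F) (c : F), o ≠ 0 ∧ c ≠ 0 ∧ Rt fs o c z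

/-- The column with a given second index. -/
def col (x : α × β → F) (k : β) : α → F := fun i => x (i, k)

theorem col_tm (a : α → F) (b : β → F) (k : β) : col (tm a b) k = b k • a :=
  funext fun i => by rw [col, tm_apply, Pi.smul_apply, smul_eq_mul, mul_comm]

theorem sum_cols (x : α × β → F) : x = ∑ k, tm (col x k) (Pi.single k 1) := by
  funext p
  rw [Finset.sum_apply, Finset.sum_eq_single p.2 (fun j _ hj => by simp [tm_apply, Ne.symm hj]) (by simp)]
  simp [tm_apply, col]

theorem kr_one_col (a : GL α F) (x : α × β → F) (k : β) :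
    col ((kr a (1 : GL β F)) ⬝ₘ x) k = (a : Matrix α α F) *ᵥ col x k := by
  funext i
  rw [col, Matrix.mulVec, dotProduct, Fintype.sum_prod_type_right,
    Finset.sum_eq_single k (fun j _ hj => by simp [kr_val, Matrix.one_apply_ne (Ne.symm hj)]) (by simp)]
  simp [kr_val, Matrix.mulVec, dotProduct, col]

variable (C : Ctx fo fs X)

include C

theorem Ctx.col_mem {U : Submodule F (α → F)} {a : α → F} {b : β → F} (hb : b ≠ 0)
    (h : ∀ k, col (tm a b) k ∈ U) : a ∈ U := by
  obtain ⟨k, hk⟩ := Function.ne_iff.mp hb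
  have := U.smul_mem (b k)⁻¹ (h k)
  rwa [col_tm, smul_smul, inv_mul_cancel₀ hk, one_smul] at this

theorem exists_isRt [Finite F] {o : β → F} (ho : o ≠ 0) :
    ∃ z, IsRt (α := α) fs z ∧ Rt fs o 1 z ∧ z ∈ X ∧ z ∈ Kr α β F := by
  obtain ⟨t, -, hiso, hR⟩ := exists_rt (α := α) C.data (o := o) (c := (1 : F)) (C.s.alt o) (by rw [map_one]; ring)
  exact ⟨_, ⟨o, 1, ho, one_ne_zero, hR⟩, hR, C.right_mem hiso, 1, t, rfl⟩

theorem isRt_mem {z : GL (α × β) F} (hz : IsRt fs z) : z ∈ X ∧ z ∈ Kr α β F := by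
  obtain ⟨o, c, -, -, hR⟩ := hz
  obtain ⟨t, -, hiso, hR'⟩ := exists_rt (α := α) C.data (o := o) (c := c) (C.s.alt o)
    (by rw [RingEquiv.refl_apply]; ring)
  rw [rt_unique hR hR']
  exact ⟨C.right_mem hiso, 1, t, rfl⟩

/-- A scalar first factor turns the conjugate of a root into a fibre map. -/
theorem moves_right [Finite F] {o o' : β → F} (ho : o ≠ 0) (ho' : fs o' o = 1) {h : GL (α × β) F} (hh : h ∈ X)
    {t : GL β F} {ρ c : F} (hρ : ρ ≠ 0) (hc : c ≠ 0) {u : GL (α × β) F}
    (hu : ∀ x, u ⬝ₘ x = x + h ⬝ₘ (tm (c • ctr fs o (h⁻¹ ⬝ₘ x)) o))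
    (hrt : ∀ a v, u ⬝ₘ (tm a v) = tm (ρ • a) ((t : Matrix β β F) *ᵥ v)) : h ∈ Kr α β F := by
  classical
  obtain ⟨a₀, ha₀⟩ := C.exists_nonsing
  have ha₀' : a₀ ≠ 0 := fun e => ha₀ (by rw [e, C.o.zero_left])
  obtain ⟨v, hv⟩ : ∃ v, ρ • (t : Matrix β β F) *ᵥ v - v ≠ 0 := by
    by_contra hcon
    push Not at hcon
    have h1 : u ⬝ₘ (h ⬝ₘ (tm a₀ o')) = h ⬝ₘ (tm a₀ o') := by
      conv_lhs => rw [sum_rows (h ⬝ₘ (tm a₀ o')), Matrix.mulVec_sum]
      conv_rhs => rw [sum_rows (h ⬝ₘ (tm a₀ o'))]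
      refine Finset.sum_congr rfl fun i _ => ?_
      rw [hrt, tm_smul_left, ← tm_smul_right, sub_eq_zero.mp (hcon _)]
    rw [hu, gl_inv_mulVec_cancel, C.ctr_tm', ho', one_smul, add_eq_left] at h1
    have h2 : tm (c • a₀) o = 0 := gl_mulVec_injective h (show h ⬝ₘ (tm (c • a₀) o) = h ⬝ₘ 0 by
      rw [h1, Matrix.mulVec_zero])
    exact (smul_ne_zero hc ha₀') ((tm_eq_zero h2).resolve_right ho)
  obtain ⟨d, hd⟩ : ∃ d, d = ρ • (t : Matrix β β F) *ᵥ v - v := ⟨_, rfl⟩
  have hd0 : d ≠ 0 := hd ▸ hv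
  have hw : ∀ a, ∃ a', h⁻¹ ⬝ₘ (tm a d) = tm a' o := fun a => ⟨c • ctr fs o (h⁻¹ ⬝ₘ (tm a v)), by
    have e : u ⬝ₘ (tm a v) - tm a v = tm a d := by
      rw [hrt, hd, tm_sub_right, tm_smul_left, tm_smul_right]
    rw [← e, hu, add_sub_cancel_left, gl_inv_mulVec_cancel]⟩
  exact inv_mem_iff.mp (stab' C hd0 ho (inv_mem hh) hw)

/-- A scalar second factor is impossible. -/
theorem moves_left [Finite F] (hab : Fintype.card α = 4 → 4 ≤ Fintype.card β ∨ Aniso fo) {o o' : β → F} (ho : o ≠ 0)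
    (ho' : fs o' o = 1) {h : GL (α × β) F} (hh : h ∈ X) {r : GL α F} {c : F} (hc : c ≠ 0) {u : GL (α × β) F}
    (hriso : ∀ x y, fo ((r : Matrix α α F) *ᵥ x) ((r : Matrix α α F) *ᵥ y) = fo x y)
    (hu : ∀ x, u ⬝ₘ x = x + h ⬝ₘ (tm (c • ctr fs o (h⁻¹ ⬝ₘ x)) o))
    (hr : u = kr r 1) : False := by
  classical
  haveI : Nonempty α := Fintype.card_pos_iff.mp (by have := C.dim; omega)
  let D : (α → F) →ₗ[F] (α → F) := (r : Matrix α α F).mulVecLin - LinearMap.id
  have hD : ∀ x, D x = (r : Matrix α α F) *ᵥ x - x := fun x => rfl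
  obtain ⟨k₀, hk₀⟩ := Function.ne_iff.mp ho
  -- the image of the fibre
  have hfib : ∀ a k, col (h ⬝ₘ (tm a o)) k ∈ LinearMap.range D := fun a k => by
    refine ⟨col (h ⬝ₘ (tm (c⁻¹ • a) o')) k, ?_⟩
    have e := hu (h ⬝ₘ (tm (c⁻¹ • a) o'))
    rw [gl_inv_mulVec_cancel, C.ctr_tm', ho', one_smul, smul_smul, mul_inv_cancel₀ hc, one_smul, hr] at e
    rw [hD, ← kr_one_col, e]
    exact funext fun i => by simp [col]
  have himg : ∀ x b, ∃ a, tm (D x) b = h ⬝ₘ (tm a o) := fun x b => ⟨c • ctr fs o (h⁻¹ ⬝ₘ (tm x b)), by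
    have e : u ⬝ₘ (tm x b) - tm x b = tm (D x) b := by
      rw [hr, kr_tm, Units.val_one, Matrix.one_mulVec, hD, tm_sub_left]
    rw [← e, hu, add_sub_cancel_left]⟩
  have hsq : ∀ x, D (D x) = 0 := fun x => by
    have e1 : ∀ b, tm (D (D x)) b = 0 := fun b => by
      obtain ⟨a, ha⟩ := himg x b
      have e : u ⬝ₘ (tm (D x) b) - tm (D x) b = tm (D (D x)) b := by
        rw [hr, kr_tm, Units.val_one, Matrix.one_mulVec, hD (D x), tm_sub_left]
      rw [← e, hu, add_sub_cancel_left, ha, gl_inv_mulVec_cancel, C.ctr_tm', C.s.alt, zero_smul, smul_zero,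
        tm_zero_left, Matrix.mulVec_zero]
    exact (tm_eq_zero (e1 o)).resolve_right ho
  have hskew : ∀ x y, fo (D x) y + fo x (D y) + fo (D x) (D y) = 0 := fun x y => by
    simp only [hD, C.sub_left, C.sub_right, hriso]
    ring
  have hts : ∀ x y, fo (D x) (D y) = 0 := fun x y => by
    have h1 := hskew x (D y)
    rw [hsq, C.o.zero_right, C.o.zero_right, add_zero, add_zero] at h1
    exact h1
  have hLperp : LinearMap.range D ≤ C.o.perp (LinearMap.range D) := by
    rintro _ ⟨x, rfl⟩ _ ⟨y, rfl⟩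
    exact hts x y
  have hperp0 : ∀ w ∈ C.o.perp (LinearMap.range D), D w = 0 := fun w hw => C.ext_o fun z => by
    have := hskew w z
    rw [hts, add_zero, hw (D z) ⟨z, rfl⟩, add_zero] at this
    rw [this, C.o.zero_left]
  -- a Siegel element of the first factor gives a radical element
  have key : ∀ e ∈ LinearMap.range D, ∀ w ∈ C.o.perp (LinearMap.range D), e ≠ 0 →
      w ∉ Submodule.span F {e} →
      ∃ g ∈ X, Mid fs o g ∧ g ∈ Kr α β F ∧ g ≠ 1 ∧
        (∀ y k, col (h ⬝ₘ (g ⬝ₘ (h⁻¹ ⬝ₘ y)) - y) k ∈ Submodule.span F {e, w}) ∧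
        (∀ y, (∀ k, fo (col y k) e = 0 ∧ fo (col y k) w = 0) → h ⬝ₘ (g ⬝ₘ (h⁻¹ ⬝ₘ y)) = y) ∧
        ∀ b, ∃ y, g ⬝ₘ y - y = h⁻¹ ⬝ₘ (tm w b) := by
    intro e he w hw he0 hwe
    have hee : fo e e = 0 := hLperp he e he
    have hwe0 : fo w e = 0 := hw e he
    obtain ⟨E, -, hEU, hEx⟩ := Radical.exists_UF C.o (v := e) (y := w) (c := -(fo w w / 2)) hee hwe0 (by
      rw [RingEquiv.refl_apply, one_mul]
      have := C.h2
      field_simp
      ring)
    simp only [RingEquiv.refl_apply, one_mul] at hEx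
    have hEiso := Radical.UF_iso C.o hee hEU
    obtain ⟨g, hg⟩ : ∃ g, g = h⁻¹ * kr E (1 : GL β F) * h := ⟨_, rfl⟩
    have hgX : g ∈ X := hg ▸ mul_mem (mul_mem (inv_mem hh) (C.left_mem hEiso)) hh
    have hgy : ∀ y, g ⬝ₘ y = h⁻¹ ⬝ₘ ((kr E (1 : GL β F)) ⬝ₘ (h ⬝ₘ y)) := fun y => by
      rw [hg, gl_mul_mulVec, gl_mul_mulVec]
    have hEsum : ∀ z, (kr E (1 : GL β F)) ⬝ₘ z =
        ∑ k, tm ((E : Matrix α α F) *ᵥ col z k) (Pi.single k 1) := fun z => by
      conv_lhs => rw [sum_cols z, Matrix.mulVec_sum]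
      simp only [kr_tm, Units.val_one, Matrix.one_mulVec]
    have hgo : ∀ a, g ⬝ₘ (tm a o) = tm a o := fun a => by
      rw [hgy, hEsum]
      conv_rhs => rw [← gl_inv_mulVec_cancel h (tm a o), sum_cols (h ⬝ₘ (tm a o))]
      refine congrArg (h⁻¹ ⬝ₘ ·) (Finset.sum_congr rfl fun k _ => ?_)
      rw [hEx, C.symm e, hLperp he _ (hfib a k), C.symm w (col _ k), hw _ (hfib a k)]
      simp
    have hmid : Mid fs o g := by
      refine ⟨hgo, fun a v hv => ?_⟩
      obtain ⟨z, hz⟩ : ∃ z, z = h ⬝ₘ (tm a v) := ⟨_, rfl⟩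
      have hzperp : ∀ k, col z k ∈ C.o.perp (LinearMap.range D) := by
        rintro k _ ⟨x, rfl⟩
        have hall : ∀ b, fo (D x) a * 0 + tf (RingEquiv.refl F) fo fs z (tm (D x) b) = 0 := fun b => by
          obtain ⟨a', ha'⟩ := himg x b
          rw [mul_zero, zero_add, hz, ha', C.iso h hh, C.tau, hv, mul_zero]
        obtain ⟨z', hz'⟩ : ∃ z' : β → F, z' = fun k => fo (col z k) (D x) := ⟨_, rfl⟩
        have h0 : ∀ b, fs z' b = 0 := fun b => by
          have := hall b
          rw [mul_zero, zero_add] at this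
          rw [sum_cols z, (reflex C.data).sum_left] at this
          simp only [C.tau] at this
          rw [show z' = ∑ k, z' k • (Pi.single k (1 : F) : β → F) from pi_eq_sum_univ' z', C.s.refl.sum_left]
          simp only [C.s.refl.semi.smul_left, hz']
          exact this
        by_contra hne
        obtain ⟨b, hb⟩ := (C.s.refl.nondeg z' (fun e => hne (by rw [hz'] at e; exact congrFun e k))).2
        exact hb (h0 b)
      have hgoal : ∃ a', h⁻¹ ⬝ₘ ((kr E (1 : GL β F)) ⬝ₘ z - z) = tm a' o := by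
        have hcol : ∀ k, ∃ a', tm ((E : Matrix α α F) *ᵥ col z k - col z k) (Pi.single k 1) = h ⬝ₘ (tm a' o) :=
          fun k => by
            obtain ⟨x, hx⟩ : (E : Matrix α α F) *ᵥ col z k - col z k ∈ LinearMap.range D := by
              rw [hEx, hzperp k e he, zero_smul, add_zero, add_sub_cancel_left]
              exact Submodule.smul_mem _ _ he
            rw [← hx]
            exact himg x _
        choose a' ha' using hcol
        refine ⟨∑ k, a' k, ?_⟩
        rw [hEsum]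
        conv_lhs => rw [show z = ∑ k, tm (col z k) (Pi.single k 1) from sum_cols z, ← Finset.sum_sub_distrib]
        rw [Matrix.mulVec_sum]
        have hs : tm (∑ i, a' i) o = ∑ i, tm (a' i) o := funext fun p => by simp [tm_apply, Finset.sum_mul]
        rw [hs]
        refine Finset.sum_congr rfl fun k _ => ?_
        rw [← sum_cols z, ← tm_sub_left, ha', gl_inv_mulVec_cancel]
      obtain ⟨a', ha'⟩ := hgoal
      refine ⟨a', ?_⟩
      rw [hgy, ← hz, ← ha', Matrix.mulVec_sub, hz, gl_inv_mulVec_cancel]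
      abel
    -- the image
    have hwimg : ∀ b, ∃ y, g ⬝ₘ y - y = h⁻¹ ⬝ₘ (tm w b) := fun b => by
      obtain ⟨z, hz⟩ := (C.o.nondeg e he0).1
      obtain ⟨x, hx1, hx2⟩ : ∃ x, fo x e = 1 ∧ fo x w = 0 := by
        by_contra hcon
        push Not at hcon
        refine hwe ?_
        have hmem : w ∈ C.o.perp (C.o.perp (Submodule.span F {e})) := by
          intro y hy
          have hye : fo y e = 0 := hy e (Submodule.mem_span_singleton_self e)
          rw [C.symm]
          by_contra hyw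
          refine hcon ((fo z e)⁻¹ • z + (-(fo ((fo z e)⁻¹ • z) w) / fo y w) • y) ?_ ?_
          · rw [C.add_left, C.smul_left, C.smul_left, hye, inv_mul_cancel₀ hz, mul_zero, add_zero]
          · rw [C.add_left, C.smul_left (-(_ : F) / _)]
            field_simp
            ring
        rwa [C.o.perp_perp] at hmem
      have hx3 : (E : Matrix α α F) *ᵥ x - x = w + (-(fo w w / 2)) • e := by
        rw [hEx, hx1, hx2]
        module
      have hx4 : (E : Matrix α α F) *ᵥ (-(1 / 2 : F) • w) - -(1 / 2 : F) • w = (fo w w / 2) • e := by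
        rw [hEx, C.smul_left, C.smul_left, hwe0]
        module
      refine ⟨h⁻¹ ⬝ₘ (tm (x + -(1 / 2 : F) • w) b), ?_⟩
      rw [hgy, gl_mulVec_inv_cancel, kr_tm, Units.val_one, Matrix.one_mulVec, ← Matrix.mulVec_sub, ← tm_sub_left,
        Matrix.mulVec_add, add_sub_add_comm, hx3, hx4]
      congr 2
      module
    refine ⟨g, hgX, hmid, rad C ho hgX hmid, ?_, fun y k => ?_, fun y hy => ?_, hwimg⟩
    · intro hg1
      obtain ⟨y, hy⟩ := hwimg o
      rw [hg1, Units.val_one, Matrix.one_mulVec, sub_self] at hy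
      have : tm w o = 0 := gl_mulVec_injective h⁻¹ (show h⁻¹ ⬝ₘ (tm w o) = h⁻¹ ⬝ₘ 0 by rw [← hy, Matrix.mulVec_zero])
      exact hwe (by rw [(tm_eq_zero this).resolve_right ho]; exact zero_mem _)
    · rw [hgy, gl_mulVec_inv_cancel, gl_mulVec_inv_cancel]
      have : col ((kr E (1 : GL β F)) ⬝ₘ y - y) k = (E : Matrix α α F) *ᵥ col y k - col y k := by
        rw [← kr_one_col]; rfl
      rw [this, hEx, add_assoc, add_sub_cancel_left]
      exact add_mem (Submodule.smul_mem _ _ (Submodule.subset_span (by simp)))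
        (Submodule.smul_mem _ _ (Submodule.subset_span (by simp)))
    · rw [hgy, gl_mulVec_inv_cancel, gl_mulVec_inv_cancel, hEsum]
      conv_rhs => rw [sum_cols y]
      refine Finset.sum_congr rfl fun k _ => ?_
      rw [hEx, (hy k).1, (hy k).2]
      simp
  -- a fibre lies in the image of a non-trivial central element
  have hcentral : ∀ {g : GL (α × β) F}, g ∈ X → g ≠ 1 → (∀ y, ctr fs o y = 0 → g ⬝ₘ y = y) →
      (∀ y, ∃ a, g ⬝ₘ y - y = tm a o) ∧ ∀ a, ∃ y, g ⬝ₘ y - y = tm a o := by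
    intro g hg hg1 hfix
    obtain ⟨-, s, hs⟩ := central_kr C ho hg hfix
    have hs0 : s ≠ 0 := fun e => hg1 (gl_ext_mulVec fun x => by rw [hs, e]; simp)
    refine ⟨fun y => ⟨_, by rw [hs, add_sub_cancel_left]⟩, fun a => ⟨tm (s⁻¹ • a) o', ?_⟩⟩
    rw [hs, add_sub_cancel_left, C.ctr_tm', ho', one_smul, smul_smul, mul_inv_cancel₀ hs0, one_smul]
  by_cases hcase : ∃ w, w ∈ C.o.perp (LinearMap.range D) ∧ w ∉ LinearMap.range D
  · obtain ⟨w, hw, hwL⟩ := hcase
    have hD0 : ∃ e ∈ LinearMap.range D, e ≠ 0 := by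
      by_contra hno
      push Not at hno
      obtain ⟨a₀, ha₀⟩ := C.exists_nonsing
      have h0 : ∀ k, col (h ⬝ₘ (tm a₀ o)) k = 0 := fun k => hno _ (hfib a₀ k)
      have h1 : tm a₀ o = 0 := gl_mulVec_injective h (show h ⬝ₘ (tm a₀ o) = h ⬝ₘ 0 by
        rw [Matrix.mulVec_zero, sum_cols (h ⬝ₘ (tm a₀ o))]
        exact Finset.sum_eq_zero fun k _ => by rw [h0, tm_zero_left])
      exact ha₀ (by rw [(tm_eq_zero h1).resolve_right ho, C.o.zero_left])
    obtain ⟨e, he, he0⟩ := hD0
    obtain ⟨g, hgX, hgM, hgK, hg1, hgimg, -, hwimg⟩ :=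
      key e he w hw he0 fun hmem => hwL (Submodule.span_le.mpr (Set.singleton_subset_iff.mpr he) hmem)
    obtain ⟨B, hB⟩ := kr_shift hgK ho hgM.1
    by_cases hBmid : ∀ v, fs v o = 0 → B *ᵥ v = v
    · have hfix : ∀ y, ctr fs o y = 0 → g ⬝ₘ y = y := fun y hy => by
        rw [sum_rows y, Matrix.mulVec_sum]
        exact Finset.sum_congr rfl fun i _ => by rw [hB, hBmid _ (row_perp C hy i)]
      obtain ⟨y, hy⟩ := hwimg o
      obtain ⟨a, ha⟩ := (hcentral hgX hg1 hfix).1 y
      refine hwL (C.col_mem ho fun k => ?_)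
      rw [← gl_mulVec_inv_cancel h (tm w o), ← hy, ha]
      exact hfib a k
    -- two fibres are too many
    push Not at hBmid
    obtain ⟨v, hv, hBv⟩ := hBmid
    obtain ⟨a₀, ha₀⟩ := C.exists_nonsing
    have ha₀' : a₀ ≠ 0 := fun e => ha₀ (by rw [e, C.o.zero_left])
    obtain ⟨s, hs⟩ : ∃ s : F, B *ᵥ v = v + s • o := by
      obtain ⟨a', ha'⟩ := hgM.2 a₀ v hv
      rw [hB] at ha'
      obtain ⟨i, hi⟩ := Function.ne_iff.mp ha₀'
      refine ⟨a' i / a₀ i, funext fun k => ?_⟩
      have := congrFun ha' (i, k)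
      simp only [tm_apply, Pi.add_apply] at this
      rw [Pi.zero_apply] at hi
      rw [Pi.add_apply, Pi.smul_apply, smul_eq_mul]
      field_simp
      linear_combination this
    have hs0 : s ≠ 0 := fun e => hBv (by rw [hs, e, zero_smul, add_zero])
    have hox : ∀ a, ∃ y, g ⬝ₘ y - y = tm a o := fun a => ⟨tm (s⁻¹ • a) v, by
      rw [hB, ← tm_sub_right, hs, add_sub_cancel_left, tm_smul_right, ← tm_smul_left, smul_smul,
        mul_inv_cancel₀ hs0, one_smul]⟩
    obtain ⟨d, hd⟩ : ∃ d, d = B *ᵥ o' - o' := ⟨_, rfl⟩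
    have hdx : ∀ a, ∃ y, g ⬝ₘ y - y = tm a d := fun a => ⟨tm a o', by rw [hB, ← tm_sub_right, hd]⟩
    have hdo : d ∉ Submodule.span F {o} := fun hmem => by
      obtain ⟨k, hk⟩ := Submodule.mem_span_singleton.mp hmem
      refine hs0 ?_
      have e1 := C.iso g hgX (tm a₀ v) (tm a₀ o')
      rw [hB, hB, hs, show B *ᵥ o' = o' + k • o by rw [hk, hd, add_sub_cancel], C.tau, C.tau] at e1
      have e2 := mul_left_cancel₀ ha₀ e1
      rw [C.s.refl.semi.add_left, C.s.refl.semi.add_right, C.s.refl.semi.add_right, C.s.refl.semi.smul_left,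
        C.s.refl.semi.smul_left, C.s.smul_right, C.s.smul_right, hv, C.s.alt, C.s.swap o' o, ho'] at e2
      linear_combination -e2
    let ψ : ((α → F) × (α → F)) →ₗ[F] (α × β → F) :=
      { toFun := fun p => h ⬝ₘ (tm p.1 o) + h ⬝ₘ (tm p.2 d)
        map_add' := fun p q => by
          simp only [Prod.fst_add, Prod.snd_add, tm_add_left, Matrix.mulVec_add]; abel
        map_smul' := fun c p => by
          simp only [Prod.smul_fst, Prod.smul_snd, tm_smul_left, Matrix.mulVec_smul, RingHom.id_apply, smul_add] }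
    let χ : ((β → F) × (β → F)) →ₗ[F] (α × β → F) :=
      { toFun := fun p => tm e p.1 + tm w p.2
        map_add' := fun p q => by simp only [Prod.fst_add, Prod.snd_add, tm_add_right]; abel
        map_smul' := fun c p => by
          simp only [Prod.smul_fst, Prod.smul_snd, tm_smul_right, RingHom.id_apply, smul_add] }
    have hψ : Function.Injective ψ := by
      rw [← LinearMap.ker_eq_bot, LinearMap.ker_eq_bot']
      intro p hp
      change h ⬝ₘ (tm p.1 o) + h ⬝ₘ (tm p.2 d) = 0 at hp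
      rw [← Matrix.mulVec_add] at hp
      have h0 : tm p.1 o + tm p.2 d = 0 := gl_mulVec_injective h (show h ⬝ₘ _ = h ⬝ₘ 0 by
        rw [hp, Matrix.mulVec_zero])
      have h2 : p.2 = 0 := funext fun i => by
        by_contra hi
        refine hdo (Submodule.mem_span_singleton.mpr ⟨-(p.1 i / p.2 i), funext fun k => ?_⟩)
        have := congrFun h0 (i, k)
        simp only [tm_apply, Pi.add_apply, Pi.zero_apply] at this
        rw [Pi.zero_apply] at hi
        rw [Pi.smul_apply, smul_eq_mul]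
        field_simp
        linear_combination -this
      rw [h2, tm_zero_left, add_zero] at h0
      exact Prod.ext ((tm_eq_zero h0).resolve_right ho) h2
    have hrange : LinearMap.range ψ ≤ LinearMap.range χ := by
      have hsub : ∀ z, (∀ k, col z k ∈ Submodule.span F {e, w}) → z ∈ LinearMap.range χ := fun z hz => by
        choose p q hpq using fun k => Submodule.mem_span_pair.mp (hz k)
        refine ⟨(p, q), funext fun r => ?_⟩
        have := congrFun (hpq r.2) r.1
        simp only [col, Pi.add_apply, Pi.smul_apply, smul_eq_mul] at this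
        change (tm e p + tm w q) r = z r
        rw [← this, Pi.add_apply, tm_apply, tm_apply]
        ring
      rintro _ ⟨p, rfl⟩
      obtain ⟨y₁, hy₁⟩ := hox p.1
      obtain ⟨y₂, hy₂⟩ := hdx p.2
      refine hsub _ fun k => ?_
      change col (h ⬝ₘ (tm p.1 o) + h ⬝ₘ (tm p.2 d)) k ∈ _
      have e1 := hgimg (h ⬝ₘ (y₁ + y₂)) k
      rwa [gl_inv_mulVec_cancel, ← Matrix.mulVec_sub, Matrix.mulVec_add, add_sub_add_comm, hy₁, hy₂,
        Matrix.mulVec_add] at e1
    have h1 := (LinearMap.finrank_range_of_inj hψ).symm.trans_le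
      ((Submodule.finrank_mono hrange).trans (LinearMap.finrank_range_le χ))
    simp only [Module.finrank_prod, Module.finrank_fintype_fun_eq_card] at h1
    -- the image of the fibre is larger
    let ω : ((β → F) × (β → F)) →ₗ[F] (α → F) :=
      { toFun := fun p => ctr fs o' (h⁻¹ ⬝ₘ (tm e p.1 + tm e p.2))
        map_add' := fun p q => by
          simp only [Prod.fst_add, Prod.snd_add, tm_add_right, Matrix.mulVec_add, ctr_add C.data]; abel
        map_smul' := fun c p => by
          simp only [Prod.smul_fst, Prod.smul_snd, tm_smul_right, Matrix.mulVec_add, Matrix.mulVec_smul,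
            ctr_add C.data, ctr_smul C.data, RingHom.id_apply, smul_add] }
    obtain ⟨l₂, hl₂, hl₂e⟩ : ∃ l₂ ∈ LinearMap.range D, l₂ ∉ Submodule.span F {e} := by
      by_contra hno
      push Not at hno
      obtain ⟨x, hx⟩ := he
      obtain ⟨k, hk⟩ := Submodule.mem_span_singleton.mp (hno (D x) ⟨x, rfl⟩)
      -- a one-dimensional image is not skew
      have hall : ∀ y, ∃ l : F, D y = l • e := fun y => by
        obtain ⟨l, hl⟩ := Submodule.mem_span_singleton.mp (hno (D y) ⟨y, rfl⟩)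
        exact ⟨l, hl.symm⟩
      choose l hl using hall
      have hll : ∀ y z, l y * fo e z + l z * fo y e = 0 := fun y z => by
        have := hskew y z
        rw [hts, hl, hl, C.smul_left, C.smul_right, add_zero] at this
        linear_combination this
      have hl0 : ∀ y, l y * fo y e = 0 := fun y => by
        have := hll y y
        rw [C.symm y e] at this
        exact (mul_eq_zero.mp (show (2 : F) * (l y * fo y e) = 0 by linear_combination this)).resolve_left C.h2
      obtain ⟨z, hz⟩ := (C.o.nondeg e he0).1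
      have hlz : l z = 0 := (mul_eq_zero.mp (hl0 z)).resolve_right hz
      have : ∀ y, l y = 0 := fun y => by
        have := hll y z
        rw [hlz, C.symm z e, zero_mul, add_zero] at this
        rw [C.symm] at this
        exact (mul_eq_zero.mp this).resolve_right (by rw [C.symm]; exact hz)
      exact he0 (by rw [← hx, hl, this, zero_smul])
    obtain ⟨x₁, hx₁⟩ := he
    obtain ⟨x₂, hx₂⟩ := hl₂
    let ω' : ((β → F) × (β → F)) →ₗ[F] (α → F) :=
      { toFun := fun p => ctr fs o' (h⁻¹ ⬝ₘ (tm e p.1 + tm l₂ p.2))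
        map_add' := fun p q => by
          simp only [Prod.fst_add, Prod.snd_add, tm_add_right, Matrix.mulVec_add, ctr_add C.data]; abel
        map_smul' := fun c p => by
          simp only [Prod.smul_fst, Prod.smul_snd, tm_smul_right, Matrix.mulVec_add, Matrix.mulVec_smul,
            ctr_add C.data, ctr_smul C.data, RingHom.id_apply, smul_add] }
    have hω : Function.Injective ω' := by
      rw [← LinearMap.ker_eq_bot, LinearMap.ker_eq_bot']
      intro p hp
      change ctr fs o' (h⁻¹ ⬝ₘ (tm e p.1 + tm l₂ p.2)) = 0 at hp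
      obtain ⟨a₁, ha₁⟩ := himg x₁ p.1
      obtain ⟨a₂, ha₂⟩ := himg x₂ p.2
      rw [hx₁] at ha₁
      rw [hx₂] at ha₂
      rw [ha₁, ha₂, ← Matrix.mulVec_add, gl_inv_mulVec_cancel, ← tm_add_left, C.ctr_tm', C.s.swap o' o, ho',
        neg_smul, one_smul, neg_eq_zero] at hp
      have h0 : tm e p.1 + tm l₂ p.2 = 0 := by
        rw [ha₁, ha₂, ← Matrix.mulVec_add, ← tm_add_left, hp, tm_zero_left, Matrix.mulVec_zero]
      have h2 : p.2 = 0 := funext fun k => by
        by_contra hk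
        refine hl₂e (Submodule.mem_span_singleton.mpr ⟨-(p.1 k / p.2 k), funext fun i => ?_⟩)
        have := congrFun h0 (i, k)
        simp only [tm_apply, Pi.add_apply, Pi.zero_apply] at this
        rw [Pi.zero_apply] at hk
        rw [Pi.smul_apply, smul_eq_mul]
        field_simp
        linear_combination -this
      rw [h2, tm_zero_right, add_zero] at h0
      exact Prod.ext ((tm_eq_zero h0).resolve_left he0) h2
    have h3 := LinearMap.finrank_le_finrank_of_injective hω
    simp only [Module.finrank_prod, Module.finrank_fintype_fun_eq_card] at h3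
    have hb1 : 0 < Fintype.card β := Fintype.card_pos_iff.mpr ⟨k₀⟩
    omega
  -- a Lagrangian image
  push Not at hcase
  have heq : C.o.perp (LinearMap.range D) = LinearMap.range D := le_antisymm hcase hLperp
  have hdim := C.o.finrank_perp (LinearMap.range D)
  rw [heq] at hdim
  have hspan : ∀ e₁ ∈ LinearMap.range D, ∀ e₂ ∈ LinearMap.range D, e₁ ≠ 0 → e₂ ∉ Submodule.span F {e₁} →
      LinearMap.range D ≤ Submodule.span F {e₁, e₂} := by
    intro e₁ he₁ e₂ he₂ he0 hne
    obtain ⟨g, hgX, hgM, -, hg1, hgimg, hgfix, -⟩ := key e₁ he₁ e₂ (hLperp he₂) he0 hne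
    have hfix : ∀ y, ctr fs o y = 0 → g ⬝ₘ y = y := fun y hy => by
      apply gl_mulVec_injective h
      change h ⬝ₘ _ = h ⬝ₘ _
      have := hgfix (h ⬝ₘ y) fun k => by
        have hcol : ∀ x, fo (col (h ⬝ₘ y) k) (D x) = 0 := fun x => by
          obtain ⟨z', hz'⟩ : ∃ z' : β → F, z' = fun k => fo (col (h ⬝ₘ y) k) (D x) := ⟨_, rfl⟩
          have h0 : ∀ b, fs z' b = 0 := fun b => by
            obtain ⟨a', ha'⟩ := himg x b
            have e : τ (h ⬝ₘ y) (tm (D x) b) = 0 := by
              rw [ha', C.iso h hh, tf_tm_right C.data, hy, C.o.zero_left]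
            rw [sum_cols (h ⬝ₘ y), (reflex C.data).sum_left] at e
            simp only [C.tau] at e
            rw [show z' = ∑ k, z' k • (Pi.single k (1 : F) : β → F) from pi_eq_sum_univ' z', C.s.refl.sum_left]
            simp only [C.s.refl.semi.smul_left, hz']
            exact e
          by_contra hne'
          obtain ⟨b, hb⟩ := (C.s.refl.nondeg z' (fun e => hne' (by rw [hz'] at e; exact congrFun e k))).2
          exact hb (h0 b)
        obtain ⟨x₁, rfl⟩ := he₁
        obtain ⟨x₂, rfl⟩ := he₂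
        exact ⟨hcol x₁, hcol x₂⟩
      rwa [gl_inv_mulVec_cancel] at this
    obtain ⟨hc1, hc2⟩ := hcentral hgX hg1 hfix
    rintro _ ⟨x, rfl⟩
    refine C.col_mem ho fun k => ?_
    obtain ⟨a, ha⟩ := himg x o
    obtain ⟨y, hy⟩ := hc2 a
    have := hgimg (h ⬝ₘ y) k
    rwa [gl_inv_mulVec_cancel, ← Matrix.mulVec_sub, hy, ← ha] at this
  have h3 := C.dim
  obtain ⟨e₁, he₁, he0⟩ := Submodule.exists_mem_ne_zero_of_ne_bot (p := LinearMap.range D) fun e => by
    rw [e, finrank_bot] at hdim; omega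
  obtain ⟨e₂, he₂, hne⟩ := SetLike.not_le_iff_exists.mp fun hle : LinearMap.range D ≤ Submodule.span F {e₁} => by
    have h4 := Submodule.finrank_mono hle
    have h5 := finrank_span_le_card (R := F) ({e₁} : Set (α → F))
    simp at h5
    omega
  have h4 := Submodule.finrank_mono (hspan e₁ he₁ e₂ he₂ he0 hne)
  have h5 : finrank F (Submodule.span F ({e₁, e₂} : Set (α → F))) ≤ 2 := by
    have := finrank_span_finset_le_card (R := F) ({e₁, e₂} : Finset (α → F))
    rw [Finset.coe_pair] at this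
    exact this.trans Finset.card_le_two
  have hb4 : 4 ≤ Fintype.card β := (hab (by omega)).resolve_right fun hn => by
    have := hn (LinearMap.range D) (fun a ha b hb => hLperp ha b hb)
    omega
  -- the fibre has dimension four only
  obtain ⟨x₁, hx₁⟩ := he₁
  let ω : (β → F) × (β → F) →ₗ[F] (α → F) :=
    { toFun := fun p => ctr fs o' (h⁻¹ ⬝ₘ (tm e₁ p.1 + tm e₂ p.2))
      map_add' := fun p q => by
        simp only [Prod.fst_add, Prod.snd_add, tm_add_right, Matrix.mulVec_add, ctr_add C.data]; abel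
      map_smul' := fun c p => by
        simp only [Prod.smul_fst, Prod.smul_snd, tm_smul_right, Matrix.mulVec_add, Matrix.mulVec_smul,
          ctr_add C.data, ctr_smul C.data, RingHom.id_apply, smul_add] }
  obtain ⟨x₂, hx₂⟩ := he₂
  have hω : Function.Injective ω := by
    rw [← LinearMap.ker_eq_bot, LinearMap.ker_eq_bot']
    intro p hp
    change ctr fs o' (h⁻¹ ⬝ₘ (tm e₁ p.1 + tm e₂ p.2)) = 0 at hp
    obtain ⟨a₁, ha₁⟩ := himg x₁ p.1
    obtain ⟨a₂, ha₂⟩ := himg x₂ p.2
    rw [hx₁] at ha₁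
    rw [hx₂] at ha₂
    rw [ha₁, ha₂, ← Matrix.mulVec_add, gl_inv_mulVec_cancel, ← tm_add_left, C.ctr_tm', C.s.swap o' o, ho',
      neg_smul, one_smul, neg_eq_zero] at hp
    have h0 : tm e₁ p.1 + tm e₂ p.2 = 0 := by
      rw [ha₁, ha₂, ← Matrix.mulVec_add, ← tm_add_left, hp, tm_zero_left, Matrix.mulVec_zero]
    have h2 : p.2 = 0 := funext fun k => by
      by_contra hk
      refine hne (Submodule.mem_span_singleton.mpr ⟨-(p.1 k / p.2 k), funext fun i => ?_⟩)
      have := congrFun h0 (i, k)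
      simp only [tm_apply, Pi.add_apply, Pi.zero_apply] at this
      rw [Pi.zero_apply] at hk
      rw [Pi.smul_apply, smul_eq_mul]
      field_simp
      linear_combination -this
    rw [h2, tm_zero_right, add_zero] at h0
    exact Prod.ext ((tm_eq_zero h0).resolve_left he0) h2
  have h6 := LinearMap.finrank_le_finrank_of_injective hω
  simp only [Module.finrank_prod, Module.finrank_fintype_fun_eq_card] at h6
  omega

/-- A root is moved into the tensor stabiliser only by the stabiliser. -/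
theorem moves [Finite F] (hab : Fintype.card α = 4 → 4 ≤ Fintype.card β ∨ Aniso fo) {h : GL (α × β) F} (hh : h ∈ X)
    {z : GL (α × β) F} (hz : IsRt fs z) (hmem : h * z * h⁻¹ ∈ Kr α β F) : h ∈ Kr α β F := by
  classical
  obtain ⟨hzX, -⟩ := isRt_mem C hz
  obtain ⟨o, c, ho, hc, hR⟩ := hz
  obtain ⟨o', ho'⟩ := C.partner ho
  obtain ⟨r, t, hrt⟩ := hmem
  obtain ⟨u, hu'⟩ : ∃ u, u = h * z * h⁻¹ := ⟨_, rfl⟩
  rw [← hu'] at hrt
  have hu : ∀ x, u ⬝ₘ x = x + h ⬝ₘ (tm (c • ctr fs o (h⁻¹ ⬝ₘ x)) o) := fun x => by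
    rw [hu', gl_mul_mulVec, gl_mul_mulVec, hR, Matrix.mulVec_add, gl_mulVec_inv_cancel]
  have huX : u ∈ X := hu' ▸ mul_mem (mul_mem hh hzX) (inv_mem hh)
  have hsq : ∀ x, u ⬝ₘ (u ⬝ₘ x) - u ⬝ₘ x = u ⬝ₘ x - x := fun x => by
    rw [hu (u ⬝ₘ x)]
    conv_rhs => rw [hu x]
    conv_lhs => rw [hu x, Matrix.mulVec_add, gl_inv_mulVec_cancel, C.ctr_shift]
    abel
  by_cases ht : ∃ s : F, (t : Matrix β β F) = s • 1
  · exfalso
    obtain ⟨s, hs⟩ := ht
    obtain ⟨a₀, ha₀⟩ := C.exists_nonsing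
    have hs0 : s ≠ 0 := fun e => by
      have h1 : tm a₀ o = 0 := gl_mulVec_injective u (show u ⬝ₘ (tm a₀ o) = u ⬝ₘ 0 by
        rw [hrt, kr_tm, hs, e, zero_smul, Matrix.zero_mulVec, tm_zero_right, Matrix.mulVec_zero])
      exact ha₀ (by rw [(tm_eq_zero h1).resolve_right ho, C.o.zero_left])
    obtain ⟨r', hr'⟩ : ∃ r' : GL α F, (r' : Matrix α α F) = s • (r : Matrix α α F) :=
      ⟨⟨s • (r : Matrix α α F), s⁻¹ • ((r⁻¹ : GL α F) : Matrix α α F),
        by simp [Matrix.smul_mul, Matrix.mul_smul, smul_smul, hs0],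
        by simp [Matrix.smul_mul, Matrix.mul_smul, smul_smul, hs0]⟩, rfl⟩
    have hu1 : u = kr r' 1 := gl_ext_mulVec fun x => ext_pure (M := ((u : GL (α × β) F) : Matrix (α × β) (α × β) F))
      (M' := ((kr r' (1 : GL β F) : GL (α × β) F) : Matrix (α × β) (α × β) F)) (fun a b => by
        rw [hrt, kr_tm, kr_tm, hs, hr', Units.val_one, Matrix.smul_mulVec, Matrix.smul_mulVec, Matrix.one_mulVec,
          tm_smul_left, tm_smul_right]) x
    refine moves_left C hab ho ho' hh hc (fun x y => ?_) hu hu1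
    have := C.iso u huX (tm x o') (tm y o)
    rw [hu1, kr_tm, kr_tm, Units.val_one, Matrix.one_mulVec, Matrix.one_mulVec, C.tau, C.tau, ho'] at this
    simpa using this
  push Not at ht
  obtain ⟨b, hb⟩ := exists_not_eigen C.s (φ := (t : Matrix β β F)) ht
  obtain ⟨w, hw1, hw2⟩ : ∃ w, fs b w = 0 ∧ fs ((t : Matrix β β F) *ᵥ b) w ≠ 0 := by
    by_contra hcon
    push Not at hcon
    refine hb ?_
    rw [← C.s.refl.perp_perp (Submodule.span F {b})]
    intro w hw
    exact hcon w (C.s.refl.eq_zero_swap (hw b (Submodule.mem_span_singleton_self b)))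
  obtain ⟨k, hk⟩ : ∃ k, k = fs ((t : Matrix β β F) *ᵥ ((t : Matrix β β F) *ᵥ b)) w := ⟨_, rfl⟩
  have hrr : ∀ a, k • ((r : Matrix α α F) *ᵥ ((r : Matrix α α F) *ᵥ a)) =
      (2 * fs ((t : Matrix β β F) *ᵥ b) w) • ((r : Matrix α α F) *ᵥ a) := fun a => by
    have := congrArg (ctr fs w) (hsq (tm a b))
    rw [hrt, kr_tm, kr_tm, ctr_sub C.data, ctr_sub C.data, C.ctr_tm', C.ctr_tm', C.ctr_tm', hw1, ← hk] at this
    linear_combination (norm := module) this
  have hscal : ∃ ρ : F, ρ ≠ 0 ∧ ∀ a, (r : Matrix α α F) *ᵥ a = ρ • a := by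
    obtain ⟨a₀, ha₀⟩ := C.exists_nonsing
    have hk0 : k ≠ 0 := fun e => by
      have := hrr (((r⁻¹ : GL α F) : Matrix α α F) *ᵥ a₀)
      rw [e, zero_smul, gl_mulVec_inv_cancel] at this
      exact ha₀ (by rw [(smul_eq_zero.mp this.symm).resolve_left (mul_ne_zero C.h2 hw2), C.o.zero_left])
    refine ⟨2 * fs ((t : Matrix β β F) *ᵥ b) w / k, div_ne_zero (mul_ne_zero C.h2 hw2) hk0, fun a => ?_⟩
    have := hrr (((r⁻¹ : GL α F) : Matrix α α F) *ᵥ a)
    rw [gl_mulVec_inv_cancel] at this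
    rw [div_eq_inv_mul, ← smul_smul, ← this, smul_smul, inv_mul_cancel₀ hk0, one_smul]
  obtain ⟨ρ, hρ0, hρ⟩ := hscal
  exact moves_right C ho ho' hh hρ0 hc hu fun a v => by rw [hrt, kr_tm, hρ]

theorem rt_pow {o : β → F} {c : F} {z : GL (α × β) F} (hz : Rt fs o c z) (k : ℕ) :
    Rt fs o ((k : F) * c) (z ^ k) := by
  induction k with
  | zero => intro x; simp
  | succ k ih =>
    intro x
    rw [pow_succ, gl_mul_mulVec, hz, ih, C.ctr_shift, Nat.cast_succ, add_mul, one_mul, add_smul, tm_add_left]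
    abel

theorem isPGroup_rt (p : ℕ) [CharP F p] {z : GL (α × β) F} (hz : IsRt fs z) : IsPGroup p (Subgroup.zpowers z) := by
  obtain ⟨o, c, -, -, hR⟩ := hz
  have hp : z ^ p = 1 := gl_ext_mulVec fun x => by
    rw [rt_pow C hR p, CharP.cast_eq_zero, zero_mul, zero_smul, tm_zero_left, add_zero, Units.val_one,
      Matrix.one_mulVec]
  rintro ⟨x, k, rfl⟩
  refine ⟨1, Subtype.ext ?_⟩
  simp only [SubmonoidClass.coe_pow, pow_one, OneMemClass.coe_one]
  rw [← zpow_natCast, ← _root_.zpow_mul, mul_comm, _root_.zpow_mul, zpow_natCast, hp]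
  simp

/-- A subgroup of prime power order through a root lies in the stabiliser. -/
theorem pgroup_le [Finite F] (p : ℕ) [Fact p.Prime] (hab : Fintype.card α = 4 → 4 ≤ Fintype.card β ∨ Aniso fo)
    {P : Subgroup (GL (α × β) F)} (hP : IsPGroup p P) (hPX : P ≤ X) {z : GL (α × β) F} (hz : IsRt fs z)
    (hzP : z ∈ P) : P ≤ Kr α β F := by
  classical
  haveI : Finite (GL (α × β) F) :=
    Finite.of_injective (fun g : GL (α × β) F => (g : Matrix (α × β) (α × β) F)) Units.val_injective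
  by_contra hne
  haveI := hP.isNilpotent
  have hlt : (P ⊓ Kr α β F).subgroupOf P < ⊤ := by
    refine lt_top_iff_ne_top.2 fun e => hne fun g hg => ?_
    exact (Subgroup.subgroupOf_eq_top.1 e hg).2
  obtain ⟨g, hg, hgU⟩ := SetLike.exists_of_lt (normalizerCondition_of_isNilpotent (G := P) _ hlt)
  refine hgU ?_
  have h1 := (Subgroup.mem_normalizer_iff.1 hg ⟨z, hzP⟩).1 ⟨hzP, (isRt_mem C hz).2⟩
  exact ⟨g.2, moves C hab (hPX g.2) hz h1.2⟩

/-- Inside a subgroup with a root, another root is conjugate into the stabiliser. -/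
theorem pull [Finite F] (p : ℕ) [Fact p.Prime] [CharP F p] (hab : Fintype.card α = 4 → 4 ≤ Fintype.card β ∨ Aniso fo)
    {G : Subgroup (GL (α × β) F)} (hGX : G ≤ X) {z : GL (α × β) F} (hz : IsRt fs z) (hzG : z ∈ G)
    {h w : GL (α × β) F} (hh : h ∈ X) (hw : IsRt fs w) (hwG : h * w * h⁻¹ ∈ G) :
    ∃ k ∈ G, k * h ∈ Kr α β F := by
  classical
  haveI : Finite (GL (α × β) F) :=
    Finite.of_injective (fun g : GL (α × β) F => (g : Matrix (α × β) (α × β) F)) Units.val_injective
  obtain ⟨T, hzT, hTG, hT, hTm⟩ := exists_max_pgroup p G (Subgroup.zpowers z) (Subgroup.zpowers_le.2 hzG)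
    (isPGroup_rt C p hz)
  have hTK := pgroup_le C p hab hT (hTG.trans hGX) hz (hzT (Subgroup.mem_zpowers z))
  have hwp : IsPGroup p (Subgroup.zpowers (h * w * h⁻¹)) := by
    have := (isPGroup_rt C p hw).map (MulAut.conj h).toMonoidHom
    rwa [MonoidHom.map_zpowers] at this
  obtain ⟨k, hk, hconj⟩ := conj_max_pgroup p (Subgroup.zpowers_le.2 hwG) hTG hwp hT hTm
  refine ⟨k, hk, moves C hab (mul_mem (hGX hk) hh) hw ?_⟩
  have := hTK (hconj _ (Subgroup.mem_zpowers _))
  rwa [show k * h * w * (k * h)⁻¹ = k * (h * w * h⁻¹) * k⁻¹ by group]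

end Cfsg.Agent.Classical.TensorMax.SpO
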