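/-
A symplectic factor of dimension at least four: the group lies in the tensor stabiliser.

A conjugate of a root fixes a subspace of small codimension, which contains a pure tensor or a vector of rank two
whose stabiliser in the group is seen to lie in the tensor stabiliser.
-/
import Cfsg.Agent.Lib.Classical.TensorMax.SpO.Moves

set_option autoImplicit false
set_option linter.unusedSectionVars false

namespace Cfsg.Agent.Classical.TensorMax.SpO

open Matrix Module Cfsg.Geo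
open Cfsg.Agent.Classical Cfsg.Agent.Classical.TensorMax Cfsg.Agent.Classical.TensorMax.Form

variable {α β : Type} [Fintype α] [DecidableEq α] [Fintype β] [DecidableEq β] {F : Type*} [Field F]
variable {fo : (α → F) → (α → F) → F} {fs : (β → F) → (β → F) → F} {X : Subgroup (GL (α × β) F)}

local notation:max g:max " ⬝ₘ " x:max => ((g : GL (α × β) F) : Matrix (α × β) (α × β) F) *ᵥ x
local notation "τ" => tf (RingEquiv.refl F) fo fs

/-- The pointwise stabiliser of a set inside a group. -/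
theorem exists_fix (X : Subgroup (GL (α × β) F)) (P : (α × β → F) → Prop) :
    ∃ G : Subgroup (GL (α × β) F), ∀ g, g ∈ G ↔ g ∈ X ∧ ∀ y, P y → g ⬝ₘ y = y :=
  ⟨{ carrier := {g | g ∈ X ∧ ∀ y, P y → g ⬝ₘ y = y}
     mul_mem' := fun {g h} hg hh => ⟨mul_mem hg.1 hh.1, fun y hy => by rw [gl_mul_mulVec, hh.2 y hy, hg.2 y hy]⟩
     one_mem' := ⟨one_mem X, fun y _ => by simp⟩
     inv_mem' := fun {g} hg => ⟨inv_mem hg.1, fun y hy => by conv_lhs => rw [← hg.2 y hy, gl_inv_mulVec_cancel]⟩ },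
    fun _ => Iff.rfl⟩

variable (C : Ctx fo fs X)

include C

/-- The multiplier of an isometric Kronecker product. -/
theorem Ctx.mult {r : GL α F} {t : GL β F} (h : kr r t ∈ X) {o : β → F} (ho : o ≠ 0) :
    ∃ μ : F, μ ≠ 0 ∧ (∀ a b, fo ((r : Matrix α α F) *ᵥ a) ((r : Matrix α α F) *ᵥ b) = μ * fo a b) ∧
      ∀ u v, fs ((t : Matrix β β F) *ᵥ u) ((t : Matrix β β F) *ᵥ v) = μ⁻¹ * fs u v := by
  have e : ∀ a b u v, fo ((r : Matrix α α F) *ᵥ a) ((r : Matrix α α F) *ᵥ b) *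
      fs ((t : Matrix β β F) *ᵥ u) ((t : Matrix β β F) *ᵥ v) = fo a b * fs u v := fun a b u v => by
    have := C.iso _ h (tm a u) (tm b v)
    rwa [kr_tm, kr_tm, C.tau, C.tau] at this
  obtain ⟨a₀, ha₀⟩ := C.exists_nonsing
  obtain ⟨μ, hμ⟩ : ∃ μ, μ = fo ((r : Matrix α α F) *ᵥ a₀) ((r : Matrix α α F) *ᵥ a₀) / fo a₀ a₀ := ⟨_, rfl⟩
  have ht : ∀ u v, μ * fs ((t : Matrix β β F) *ᵥ u) ((t : Matrix β β F) *ᵥ v) = fs u v := fun u v => by
    rw [hμ, div_mul_eq_mul_div, div_eq_iff ha₀, e, mul_comm]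
  obtain ⟨v, hv⟩ := C.partner ho
  have huv : fs v o ≠ 0 := by rw [hv]; exact one_ne_zero
  have hμ0 : μ ≠ 0 := fun h0 => huv (by rw [← ht, h0, zero_mul])
  refine ⟨μ, hμ0, fun a b => ?_, fun u w => by rw [← ht u w, ← mul_assoc, inv_mul_cancel₀ hμ0, one_mul]⟩
  have := e a b v o
  rw [← ht v o, ← mul_assoc] at this
  have h2 : fs ((t : Matrix β β F) *ᵥ v) ((t : Matrix β β F) *ᵥ o) ≠ 0 := fun h0 => huv (by
    rw [← ht, h0, mul_zero])
  rw [mul_right_cancel₀ h2 this, mul_comm]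

/-- The contraction after an isometric Kronecker product. -/
theorem Ctx.ctr_kr {r : GL α F} {t : GL β F} {μ : F} (h : kr r t ∈ X)
    (hr : ∀ a b, fo ((r : Matrix α α F) *ᵥ a) ((r : Matrix α α F) *ᵥ b) = μ * fo a b) (hμ : μ ≠ 0) (d : β → F)
    (x : α × β → F) :
    ctr fs ((t : Matrix β β F) *ᵥ d) ((kr r t) ⬝ₘ x) = μ⁻¹ • ((r : Matrix α α F) *ᵥ ctr fs d x) :=
  ctr_eq C.data fun a => by
    conv_lhs => rw [← gl_mulVec_inv_cancel r a]
    rw [← kr_tm, C.iso _ h, tf_tm_right C.data, C.smul_left]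
    conv_rhs => rw [← gl_mulVec_inv_cancel r a, hr, ← mul_assoc, inv_mul_cancel₀ hμ, one_mul]

/-- The stabiliser of a vector with two inequivalent centres lies in the tensor stabiliser. -/
theorem line [Finite F] (hab : Fintype.card α = 4 → 4 ≤ Fintype.card β ∨ Aniso fo) {x : α × β → F} {o o₂ : β → F}
    (ho : o ≠ 0) (ho₂ : o₂ ≠ 0) (h1 : ctr fs o x = 0) (h2 : ctr fs o₂ x = 0)
    (hperp : ∀ c, ctr fs c x = 0 → fs o c = 0)
    (hsep : ∀ r t, kr r t ∈ X → (kr r t) ⬝ₘ x = x → (t : Matrix β β F) *ᵥ o₂ ∉ Submodule.span F {o})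
    {g : GL (α × β) F} (hg : g ∈ X) (hgx : g ⬝ₘ x = x) : g ∈ Kr α β F := by
  classical
  obtain ⟨p, hp⟩ := CharP.exists F
  haveI := Fintype.ofFinite F
  haveI : Fact p.Prime := ⟨CharP.char_is_prime F p⟩
  obtain ⟨G, hG⟩ := exists_fix X fun y => ctr fs o y = 0 ∧ ctr fs o₂ (g⁻¹ ⬝ₘ y) = 0
  obtain ⟨z₁, hz₁, hR₁, hz₁X, hz₁K⟩ := exists_isRt C (α := α) ho
  obtain ⟨z₂, hz₂, hR₂, hz₂X, hz₂K⟩ := exists_isRt C (α := α) ho₂
  have hz₁G : z₁ ∈ G := (hG _).mpr ⟨hz₁X, fun y hy => (rt_fix C.data ho one_ne_zero hR₁ y).mpr hy.1⟩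
  have hz₂G : g * z₂ * g⁻¹ ∈ G := (hG _).mpr ⟨mul_mem (mul_mem hg hz₂X) (inv_mem hg), fun y hy => by
    rw [gl_mul_mulVec, gl_mul_mulVec, (rt_fix C.data ho₂ one_ne_zero hR₂ _).mpr hy.2, gl_mulVec_inv_cancel]⟩
  obtain ⟨k, hk, hkg⟩ := pull C p hab (fun y hy => ((hG y).mp hy).1) hz₁ hz₁G hg hz₂ hz₂G
  obtain ⟨hkX, hkfix⟩ := (hG k).mp hk
  obtain ⟨r, t, hrt⟩ := hkg
  have hrtX : kr r t ∈ X := hrt ▸ mul_mem hkX hg
  obtain ⟨μ, hμ, hr, -⟩ := C.mult hrtX ho
  obtain ⟨o₃, ho₃⟩ : ∃ o₃, o₃ = (t : Matrix β β F) *ᵥ o₂ := ⟨_, rfl⟩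
  have hsub : ∀ y, ctr fs o y = 0 → ctr fs o₂ (g⁻¹ ⬝ₘ y) = 0 → ctr fs o₃ y = 0 := fun y hy hy' => by
    have e : (kr r t) ⬝ₘ (g⁻¹ ⬝ₘ y) = y := by
      rw [← hrt, gl_mul_mulVec, gl_mulVec_inv_cancel, hkfix y ⟨hy, hy'⟩]
    rw [ho₃, ← e, C.ctr_kr hrtX hr hμ, hy', Matrix.mulVec_zero, smul_zero]
  have hgx' : g⁻¹ ⬝ₘ x = x := by conv_lhs => rw [← hgx, gl_inv_mulVec_cancel]
  have hrtx : (kr r t) ⬝ₘ x = x := by rw [← hrt, gl_mul_mulVec, hgx, hkfix x ⟨h1, by rw [hgx', h2]⟩]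
  have ho₃o : o₃ ∉ Submodule.span F {o} := ho₃ ▸ hsep r t hrtX hrtx
  have hoo₃ : fs o o₃ = 0 := hperp o₃ (hsub x h1 (by rw [hgx', h2]))
  obtain ⟨o', ho'⟩ := C.partner ho
  obtain ⟨d, hd⟩ : ∃ d, fs o d = 0 ∧ fs o₃ d ≠ 0 := by
    by_contra hcon
    push Not at hcon
    refine ho₃o ?_
    rw [← C.s.refl.perp_perp (Submodule.span F {o})]
    intro w hw
    exact hcon w (C.s.refl.eq_zero_swap (hw o (Submodule.mem_span_singleton_self o)))
  obtain ⟨hd1, hd2⟩ := hd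
  -- the two subspaces are equal
  let ΦI : (α × β → F) →ₗ[F] (α → F) × (α → F) :=
    { toFun := fun y => (ctr fs o y, ctr fs o₂ (g⁻¹ ⬝ₘ y))
      map_add' := fun u v => by simp only [Matrix.mulVec_add, ctr_add C.data, Prod.mk_add_mk]
      map_smul' := fun c u => by simp only [Matrix.mulVec_smul, ctr_smul C.data, RingHom.id_apply, Prod.smul_mk] }
  let ΦJ : (α × β → F) →ₗ[F] (α → F) × (α → F) :=
    { toFun := fun y => (ctr fs o y, ctr fs o₃ y)
      map_add' := fun u v => by simp only [ctr_add C.data, Prod.mk_add_mk]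
      map_smul' := fun c u => by simp only [ctr_smul C.data, RingHom.id_apply, Prod.smul_mk] }
  have hle : LinearMap.ker ΦI ≤ LinearMap.ker ΦJ := fun y hy => by
    rw [LinearMap.mem_ker] at hy ⊢
    have e1 : ctr fs o y = 0 := congrArg Prod.fst hy
    exact Prod.ext e1 (hsub y e1 (congrArg Prod.snd hy))
  have hsurj : LinearMap.range ΦJ = ⊤ := by
    rw [LinearMap.range_eq_top]
    rintro ⟨a, b⟩
    obtain ⟨d', hd'⟩ : ∃ d', d' = (fs d o₃)⁻¹ • d := ⟨_, rfl⟩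
    have hdo₃ : fs d o₃ ≠ 0 := fun e => hd2 (C.s.refl.eq_zero_swap e)
    have e1 : fs d' o = 0 := by rw [hd', C.s.refl.semi.smul_left, C.s.refl.eq_zero_swap hd1, mul_zero]
    have e2 : fs d' o₃ = 1 := by rw [hd', C.s.refl.semi.smul_left, inv_mul_cancel₀ hdo₃]
    refine ⟨tm a o' + tm (b - fs o' o₃ • a) d', Prod.ext ?_ ?_⟩
    · change ctr fs o _ = a
      rw [ctr_add C.data, C.ctr_tm', C.ctr_tm', ho', e1, one_smul, zero_smul, add_zero]
    · change ctr fs o₃ _ = b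
      rw [ctr_add C.data, C.ctr_tm', C.ctr_tm', e2, one_smul, add_sub_cancel]
  have hJI : LinearMap.ker ΦJ ≤ LinearMap.ker ΦI := by
    refine (Submodule.eq_of_le_of_finrank_le hle ?_).ge
    have e1 := LinearMap.finrank_range_add_finrank_ker ΦI
    have e2 := LinearMap.finrank_range_add_finrank_ker ΦJ
    rw [hsurj, finrank_top] at e2
    have e3 := Submodule.finrank_le (LinearMap.range ΦI)
    omega
  have hfixJ : ∀ y, ctr fs o y = 0 → ctr fs o₃ y = 0 → k ⬝ₘ y = y := fun y hy hy' => by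
    have := hJI (show y ∈ LinearMap.ker ΦJ from LinearMap.mem_ker.mpr (Prod.ext hy hy'))
    rw [LinearMap.mem_ker] at this
    exact hkfix y ⟨hy, congrArg Prod.snd this⟩
  have hcomm : k * z₁ * k⁻¹ = z₁ := by
    rw [mul_inv_eq_iff_eq_mul]
    refine gl_ext_mulVec fun y => ?_
    rw [gl_mul_mulVec, gl_mul_mulVec, hR₁, Matrix.mulVec_add, one_smul,
      hfixJ (tm (ctr fs o y) o) (by rw [C.ctr_tm', C.s.alt, zero_smul]) (by rw [C.ctr_tm', hoo₃, zero_smul]),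
      hR₁ (k ⬝ₘ y), one_smul]
    rw [show ctr fs o (k ⬝ₘ y) = ctr fs o y from ctr_eq C.data fun a => by
      rw [← tf_tm_right C.data y a o, ← C.iso k hkX y,
        hfixJ (tm a o) (by rw [C.ctr_tm', C.s.alt, zero_smul]) (by rw [C.ctr_tm', hoo₃, zero_smul])]]
  have hkK : k ∈ Kr α β F := moves C hab hkX hz₁ (by rw [hcomm]; exact hz₁K)
  have := mul_mem (inv_mem hkK) (show k * g ∈ Kr α β F from ⟨r, t, hrt⟩)
  rwa [inv_mul_cancel_left] at this

/-- Symplectic factor of dimension at least four. -/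
theorem le_kr_big [Finite F] (h4 : 4 ≤ Fintype.card β) : X ≤ Kr α β F := by
  classical
  have hab : Fintype.card α = 4 → 4 ≤ Fintype.card β ∨ Aniso fo := fun _ => Or.inl h4
  intro g hg
  haveI : Nonempty β := Fintype.card_pos_iff.mp (by omega)
  obtain ⟨ob, hobdef⟩ : ∃ ob : β → F, ob = Pi.single (Classical.arbitrary β) 1 := ⟨_, rfl⟩
  have hob : ob ≠ 0 := by rw [hobdef]; simp
  obtain ⟨z, hz, hR, hzX, -⟩ := exists_isRt C (α := α) hob
  obtain ⟨u, hu⟩ : ∃ u, u = g * z * g⁻¹ := ⟨_, rfl⟩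
  have huX : u ∈ X := hu ▸ mul_mem (mul_mem hg hzX) (inv_mem hg)
  refine moves C hab hg hz (hu ▸ ?_)
  let Φ : (α × β → F) →ₗ[F] (α → F) :=
    { toFun := fun y => ctr fs ob (g⁻¹ ⬝ₘ y)
      map_add' := fun a b => by rw [Matrix.mulVec_add, ctr_add C.data]
      map_smul' := fun c a => by rw [Matrix.mulVec_smul, ctr_smul C.data, RingHom.id_apply] }
  have hWfix : ∀ y, Φ y = 0 → u ⬝ₘ y = y := fun y hy => by
    rw [hu, gl_mul_mulVec, gl_mul_mulVec, (rt_fix C.data hob one_ne_zero hR _).mpr hy, gl_mulVec_inv_cancel]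
  have indep : ∀ {o : β → F}, o ≠ 0 → ∃ o₂, fs o o₂ = 0 ∧ o₂ ∉ Submodule.span F {o} := fun {o} ho => by
    by_contra hcon
    push Not at hcon
    have hle : C.s.refl.perp (Submodule.span F {o}) ≤ Submodule.span F {o} := fun d hd =>
      hcon d (C.s.refl.eq_zero_swap (hd o (Submodule.mem_span_singleton_self o)))
    have e1 := Submodule.finrank_mono hle
    have e2 := C.s.refl.finrank_perp (Submodule.span F {o})
    have e3 := finrank_span_le_card (R := F) ({o} : Set (β → F))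
    simp at e3
    omega
  by_cases hpure : ∃ a o, a ≠ 0 ∧ o ≠ 0 ∧ Φ (tm a o) = 0
  · obtain ⟨a, o, ha, ho, hao⟩ := hpure
    obtain ⟨o₂, ho₂, hind⟩ := indep ho
    have ho₂0 : o₂ ≠ 0 := fun e => hind (e ▸ zero_mem _)
    refine line C hab (x := tm a o) ho ho₂0 (by rw [C.ctr_tm', C.s.alt, zero_smul])
      (by rw [C.ctr_tm', ho₂, zero_smul]) (fun c hc => ?_) (fun r t hrt hfix hmem => ?_) huX (hWfix _ hao)
    · rw [C.ctr_tm'] at hc
      exact (smul_eq_zero.mp hc).resolve_right ha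
    · rw [kr_tm] at hfix
      obtain ⟨c, hc, -, hoc⟩ := tm_inj hfix.symm ha ho
      obtain ⟨s, hs⟩ := Submodule.mem_span_singleton.mp hmem
      refine hind (Submodule.mem_span_singleton.mpr ⟨s * c⁻¹, gl_mulVec_injective t ?_⟩)
      change (t : Matrix β β F) *ᵥ _ = (t : Matrix β β F) *ᵥ _
      rw [Matrix.mulVec_smul, hoc, smul_smul, mul_assoc, inv_mul_cancel₀ hc, mul_one, hs]
  push Not at hpure
  obtain ⟨o₀, ho₀def⟩ : ∃ o₀ : β → F, o₀ = ob := ⟨_, rfl⟩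
  have ho₀ : o₀ ≠ 0 := ho₀def ▸ hob
  let S : (α → F) →ₗ[F] (α → F) :=
    { toFun := fun a => Φ (tm a o₀)
      map_add' := fun a b => by rw [tm_add_left, map_add]
      map_smul' := fun c a => by rw [tm_smul_left, map_smul, RingHom.id_apply] }
  have hS : Function.Injective S := by
    rw [← LinearMap.ker_eq_bot, LinearMap.ker_eq_bot']
    intro a ha
    by_contra ha0
    exact hpure a o₀ ha0 ho₀ ha
  let Se := LinearEquiv.ofBijective S ⟨hS, LinearMap.injective_iff_surjective.mp hS⟩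
  obtain ⟨y₀, hy₀⟩ := C.exists_nonsing
  have hy₀0 : y₀ ≠ 0 := fun e => hy₀ (by rw [e, C.o.zero_left])
  let ψ : (β → F) →ₗ[F] (α → F) :=
    { toFun := fun o => Se.symm (Φ (tm y₀ o))
      map_add' := fun a b => by rw [tm_add_right, map_add, map_add]
      map_smul' := fun c a => by rw [tm_smul_right, map_smul, map_smul, RingHom.id_apply] }
  have hψ : ∀ o, Φ (tm (ψ o) o₀) = Φ (tm y₀ o) := fun o => Se.apply_symm_apply (Φ (tm y₀ o))
  have hψ₀ : ψ o₀ = y₀ := Se.symm_apply_apply y₀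
  -- a singular image on the orthogonal of `o₀`
  have hker : ∀ l : List ((α → F)), l.length ≤ 2 → ∃ p, p ≠ 0 ∧ fs o₀ p = 0 ∧ ∀ a ∈ l, fo (ψ p) a = 0 := by
    intro l hl
    let Ψ : (β → F) →ₗ[F] F × (Fin l.length → F) :=
      { toFun := fun p => (fs p o₀, fun i => fo (ψ p) (l.get i))
        map_add' := fun a b => Prod.ext (C.s.refl.semi.add_left a b o₀) (funext fun i => by
          simp only [map_add, C.add_left, Prod.snd_add, Pi.add_apply])
        map_smul' := fun c a => Prod.ext (C.s.refl.semi.smul_left c a o₀) (funext fun i => by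
          simp only [map_smul, C.smul_left, RingHom.id_apply, Prod.smul_snd, Pi.smul_apply, smul_eq_mul]) }
    obtain ⟨p, hp, hp0⟩ := Submodule.exists_mem_ne_zero_of_ne_bot (p := LinearMap.ker Ψ) fun e => by
      have e1 := LinearMap.finrank_range_add_finrank_ker Ψ
      have e2 := Submodule.finrank_le (LinearMap.range Ψ)
      rw [e, finrank_bot, Module.finrank_fintype_fun_eq_card] at e1
      rw [Module.finrank_prod, Module.finrank_fintype_fun_eq_card, Module.finrank_self, Fintype.card_fin] at e2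
      omega
    rw [LinearMap.mem_ker] at hp
    refine ⟨p, hp0, C.s.refl.eq_zero_swap (congrArg Prod.fst hp), fun a ha => ?_⟩
    obtain ⟨i, rfl⟩ := List.get_of_mem ha
    exact congrFun (congrArg Prod.snd hp) i
  obtain ⟨o, ho0, hoo, hyy⟩ : ∃ o, o ≠ 0 ∧ fs o₀ o = 0 ∧ fo (ψ o) (ψ o) = 0 := by
    obtain ⟨p₁, hp₁, hp₁o, -⟩ := hker [] (by simp)
    by_cases h1 : fo (ψ p₁) (ψ p₁) = 0
    · exact ⟨p₁, hp₁, hp₁o, h1⟩
    obtain ⟨p₂, hp₂, hp₂o, hp₂l⟩ := hker [ψ p₁] (by simp)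
    by_cases h2 : fo (ψ p₂) (ψ p₂) = 0
    · exact ⟨p₂, hp₂, hp₂o, h2⟩
    obtain ⟨p₃, hp₃, hp₃o, hp₃l⟩ := hker [ψ p₁, ψ p₂] (by simp)
    by_cases h3 : fo (ψ p₃) (ψ p₃) = 0
    · exact ⟨p₃, hp₃, hp₃o, h3⟩
    obtain ⟨e, he, hee, -, x, y, hexy⟩ := C.exists_iso3 h1 h2 h3 (by rw [C.symm]; exact hp₂l _ (by simp))
      (by rw [C.symm]; exact hp₃l _ (by simp)) (by rw [C.symm]; exact hp₃l _ (by simp))
    refine ⟨x • p₁ + y • p₂ + p₃, fun e0 => he ?_, ?_, ?_⟩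
    · rw [hexy, ← map_smul, ← map_smul, ← map_add, ← map_add, e0, map_zero]
    · rw [C.s.refl.semi.add_right, C.s.refl.semi.add_right, C.s.smul_right, C.s.smul_right, hp₁o, hp₂o, hp₃o]
      ring
    · rwa [map_add, map_add, map_smul, map_smul, ← hexy]
  obtain ⟨y₁, hy₁⟩ : ∃ y₁, y₁ = ψ o := ⟨_, rfl⟩
  rw [← hy₁] at hyy
  have hy₁0 : y₁ ≠ 0 := fun e => hpure y₀ o hy₀0 ho0 (by rw [← hψ, ← hy₁, e, tm_zero_left, map_zero])
  obtain ⟨x, hx⟩ : ∃ x, x = tm y₀ o - tm y₁ o₀ := ⟨_, rfl⟩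
  have hxW : Φ x = 0 := by rw [hx, map_sub, hy₁, hψ, sub_self]
  have hxc : ∀ c, ctr fs c x = fs o c • y₀ - fs o₀ c • y₁ := fun c => by
    rw [hx, ctr_sub C.data, C.ctr_tm', C.ctr_tm']
  refine line C hab (x := x) ho0 ho₀ (by rw [hxc, C.s.alt, hoo]; simp)
    (by rw [hxc, C.s.alt, C.s.refl.eq_zero_swap hoo]; simp) (fun c hc => ?_) (fun r t hrt hfix hmem => ?_) huX
    (hWfix _ hxW)
  · rw [hxc, sub_eq_zero] at hc
    have := congrArg (fun a => fo a a) hc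
    simp only [C.smul_left, C.smul_right, hyy, mul_zero] at this
    rcases mul_eq_zero.mp this with h | h
    · exact h
    · exact (mul_eq_zero.mp h).resolve_right hy₀
  · obtain ⟨μ, hμ, hr, ht⟩ := C.mult hrt ho0
    obtain ⟨l, hl⟩ := Submodule.mem_span_singleton.mp hmem
    obtain ⟨d, hd1, hd2⟩ : ∃ d, fs o₀ d = 0 ∧ fs o d ≠ 0 := by
      by_contra hcon
      push Not at hcon
      have hm : o ∈ Submodule.span F {o₀} := by
        rw [← C.s.refl.perp_perp (Submodule.span F {o₀})]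
        intro w hw
        exact hcon w (C.s.refl.eq_zero_swap (hw o₀ (Submodule.mem_span_singleton_self o₀)))
      obtain ⟨s, hs⟩ := Submodule.mem_span_singleton.mp hm
      rw [hy₁, ← hs, map_smul, hψ₀, C.smul_left, C.smul_right] at hyy
      have hs0 : s ≠ 0 := fun e => ho0 (by rw [← hs, e, zero_smul])
      exact mul_ne_zero hs0 (mul_ne_zero hs0 hy₀) hyy
    have hl0 : l ≠ 0 := fun e => ho₀ (gl_mulVec_injective t (show (t : Matrix β β F) *ᵥ o₀ = (t : Matrix β β F) *ᵥ 0 by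
      rw [← hl, e, zero_smul, Matrix.mulVec_zero]))
    have hod : fs o ((t : Matrix β β F) *ᵥ d) = 0 := by
      have := ht o₀ d
      rw [← hl, hd1, mul_zero, C.s.refl.semi.smul_left] at this
      exact (mul_eq_zero.mp this).resolve_left hl0
    have e := C.ctr_kr hrt hr hμ d x
    rw [hfix, hxc, hxc, hod, hd1, zero_smul, zero_smul, zero_sub, sub_zero] at e
    have e' := congrArg (fun a => fo a a) e
    simp only [C.o.neg_left, C.smul_left, C.smul_right, C.symm (-(fs o₀ ((t : Matrix β β F) *ᵥ d) • y₁)), hr, hyy,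
      mul_zero, neg_zero] at e'
    exact mul_ne_zero (mul_ne_zero (inv_ne_zero hμ) (inv_ne_zero hμ)) (mul_ne_zero hμ (mul_ne_zero hd2 (mul_ne_zero hd2 hy₀)))
      (by linear_combination -e')

end Cfsg.Agent.Classical.TensorMax.SpO
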