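/-
A symplectic factor of dimension two: stabilisers of pure tensors and fixed spaces of involutions.
-/
import Cfsg.Agent.Lib.Classical.TensorMax.SpO.Big

set_option autoImplicit false
set_option linter.unusedSectionVars false

namespace Cfsg.Agent.Classical.TensorMax.SpO

open Matrix Module Cfsg.Geo
open Cfsg.Agent.Classical Cfsg.Agent.Classical.TensorMax Cfsg.Agent.Classical.TensorMax.Form

variable {α β : Type} [Fintype α] [DecidableEq α] [Fintype β] [DecidableEq β] {F : Type*} [Field F]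
variable {fo : (α → F) → (α → F) → F} {fs : (β → F) → (β → F) → F} {X : Subgroup (GL (α × β) F)}

local notation:max g:max " ⬝ₘ " x:max => ((g : GL (α × β) F) : Matrix (α × β) (α × β) F) *ᵥ x
local notation "τ" => tf (RingEquiv.refl F) fo fs

/-- The vectors whose fibre over the first factor is fixed pointwise. -/
def fixSub (g : GL (α × β) F) : Submodule F (α → F) where
  carrier := {a | ∀ w, g ⬝ₘ (tm a w) = tm a w}
  zero_mem' w := by simp
  add_mem' {a b} ha hb w := by rw [tm_add_left, Matrix.mulVec_add, ha w, hb w]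
  smul_mem' c a ha w := by rw [tm_smul_left, Matrix.mulVec_smul, ha w]

theorem mem_fixSub {g : GL (α × β) F} {a : α → F} : a ∈ fixSub g ↔ ∀ w, g ⬝ₘ (tm a w) = tm a w := Iff.rfl

/-- Contraction of the first factor. -/
def pc (fo : (α → F) → (α → F) → F) (p : α → F) (x : α × β → F) : β → F := fun k => fo (col x k) p

theorem col_add (x y : α × β → F) (k : β) : col (x + y) k = col x k + col y k := rfl

theorem col_sub (x y : α × β → F) (k : β) : col (x - y) k = col x k - col y k := rfl

theorem col_smul (c : F) (x : α × β → F) (k : β) : col (c • x) k = c • col x k := rfl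

variable (C : Ctx fo fs X)

include C

theorem Ctx.pc_add (p : α → F) (x y : α × β → F) : pc fo p (x + y) = pc fo p x + pc fo p y :=
  funext fun _ => C.add_left _ _ _

theorem Ctx.pc_smul (c : F) (p : α → F) (x : α × β → F) : pc fo p (c • x) = c • pc fo p x :=
  funext fun _ => C.smul_left _ _ _

theorem Ctx.pc_sub (p : α → F) (x y : α × β → F) : pc fo p (x - y) = pc fo p x - pc fo p y :=
  funext fun _ => C.sub_left _ _ _

theorem Ctx.pc_add_vec (p p' : α → F) (x : α × β → F) : pc fo (p + p') x = pc fo p x + pc fo p' x :=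
  funext fun _ => C.add_right _ _ _

theorem Ctx.pc_smul_vec (c : F) (p : α → F) (x : α × β → F) : pc fo (c • p) x = c • pc fo p x :=
  funext fun _ => C.smul_right _ _ _

theorem Ctx.pc_tm (p a : α → F) (w : β → F) : pc fo p (tm a w) = fo a p • w :=
  funext fun k => by rw [pc, col_tm, C.smul_left, Pi.smul_apply, smul_eq_mul, mul_comm]

theorem Ctx.tau_pc (y : α × β → F) (a : α → F) (w : β → F) : τ y (tm a w) = fs (pc fo a y) w := by
  conv_lhs => rw [sum_cols y, (reflex C.data).sum_left]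
  conv_rhs => rw [show pc fo a y = ∑ k, pc fo a y k • (Pi.single k (1 : F) : β → F) from pi_eq_sum_univ' _,
    C.s.refl.sum_left]
  exact Finset.sum_congr rfl fun k _ => by rw [C.tau, C.s.refl.semi.smul_left]; rfl

theorem Ctx.sext {u v : β → F} (h : ∀ w, fs u w = fs v w) : u = v := by
  by_contra hne
  obtain ⟨x, hx⟩ := (C.s.refl.nondeg _ (sub_ne_zero.mpr hne)).2
  exact hx (by rw [C.s.sub_left, h, sub_self])

/-- In dimension two everything is a combination of a hyperbolic pair. -/
theorem Ctx.expand2 (h2 : Fintype.card β = 2) {o o' : β → F} (ho' : fs o' o = 1) (w : β → F) :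
    w = fs w o • o' - fs w o' • o := by
  classical
  by_contra hne
  obtain ⟨d, hd⟩ : ∃ d, d = w - (fs w o • o' - fs w o' • o) := ⟨_, rfl⟩
  have h1 : fs d o = 0 := by
    rw [hd, C.s.sub_left, C.s.sub_left, C.s.refl.semi.smul_left, C.s.refl.semi.smul_left, C.s.alt, ho']
    ring
  have h1' : fs d o' = 0 := by
    rw [hd, C.s.sub_left, C.s.sub_left, C.s.refl.semi.smul_left, C.s.refl.semi.smul_left, C.s.alt,
      C.s.swap o' o, ho']
    ring
  have hli : ∀ s t : F, s • o + t • o' = 0 → s = 0 ∧ t = 0 := fun s t e => by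
    have e1 := congrArg (fun x => fs x o) e
    have e2 := congrArg (fun x => fs x o') e
    simp only [C.s.refl.semi.add_left, C.s.refl.semi.smul_left, C.s.alt, C.s.refl.zero_left, ho',
      C.s.swap o' o] at e1 e2
    exact ⟨by linear_combination -e2, by linear_combination e1⟩
  have hind : LinearIndependent F ![o, o'] := LinearIndependent.pair_iff.mpr hli
  have hspan : Submodule.span F (Set.range ![o, o']) = ⊤ :=
    hind.span_eq_top_of_card_eq_finrank' (by rw [Fintype.card_fin, Module.finrank_fintype_fun_eq_card, h2])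
  obtain ⟨x, hx⟩ := (C.s.refl.nondeg d (hd ▸ sub_ne_zero.mpr hne)).2
  refine hx ?_
  clear hx
  have hxm : x ∈ Submodule.span F (Set.range ![o, o']) := hspan ▸ trivial
  induction hxm using Submodule.span_induction with
  | mem y hy =>
    obtain ⟨i, rfl⟩ := hy
    fin_cases i
    · exact h1
    · exact h1'
  | zero => exact C.s.refl.zero_right d
  | add a b _ _ ha hb => rw [C.s.refl.semi.add_right, ha, hb, add_zero]
  | smul c a _ ha => rw [C.s.smul_right, ha, mul_zero]

theorem Ctx.perp2 (h2 : Fintype.card β = 2) {o : β → F} (ho : o ≠ 0) {w : β → F} (hw : fs w o = 0) :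
    ∃ c : F, w = c • o := by
  obtain ⟨o', ho'⟩ := C.partner ho
  exact ⟨-fs w o', by conv_lhs => rw [C.expand2 h2 ho' w, hw, zero_smul, zero_sub, ← neg_smul]⟩

/-- An isometric involution of the plane is a sign. -/
theorem Ctx.sign2 (h2 : Fintype.card β = 2) {S : (β → F) → β → F} (hadd : ∀ u v, S (u + v) = S u + S v)
    (hsm : ∀ (c : F) u, S (c • u) = c • S u) (hS : ∀ u v, fs (S u) (S v) = fs u v) (hinv : ∀ u, S (S u) = u) :
    (∀ u, S u = u) ∨ ∀ u, S u = -u := by
  by_cases hfix : ∃ o, o ≠ 0 ∧ S o = o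
  · obtain ⟨o, ho, hSo⟩ := hfix
    obtain ⟨o', ho'⟩ := C.partner ho
    left
    obtain ⟨c, hc⟩ := C.perp2 h2 ho (w := S o' - o') (by
      have := hS o' o
      rw [hSo] at this
      rw [C.s.sub_left, this, sub_self])
    have hc0 : c = 0 := by
      have e := hinv o'
      rw [show S o' = o' + c • o by rw [← hc]; abel, hadd, hsm, hSo, show S o' = o' + c • o by rw [← hc]; abel,
        add_assoc, add_eq_left, ← add_smul, ← two_mul] at e
      exact (mul_eq_zero.mp ((smul_eq_zero.mp e).resolve_right ho)).resolve_left C.h2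
    have hSo' : S o' = o' := sub_eq_zero.mp (by rw [hc, hc0, zero_smul])
    intro u
    rw [C.expand2 h2 ho' u, sub_eq_add_neg, ← neg_smul, hadd, hsm, hsm, hSo, hSo']
  · push Not at hfix
    right
    intro u
    by_contra hne
    refine hfix (u + S u) (fun e => hne (eq_neg_of_add_eq_zero_right e)) ?_
    rw [hadd, hinv, add_comm]

/-- A group of elements moving vectors by steps towards fixed ones lies in the tensor stabiliser. -/
theorem unip_le [Finite F] (hab : Fintype.card α = 4 → 4 ≤ Fintype.card β ∨ Aniso fo) {G : Subgroup (GL (α × β) F)}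
    (hGX : G ≤ X) (hG : ∀ g ∈ G, ∀ y, g ⬝ₘ (g ⬝ₘ (g ⬝ₘ y - y) - (g ⬝ₘ y - y)) = g ⬝ₘ (g ⬝ₘ y - y) - (g ⬝ₘ y - y))
    {z : GL (α × β) F} (hz : IsRt fs z) (hnorm : ∀ g ∈ G, z * g * z⁻¹ ∈ G) : G ≤ Kr α β F := by
  classical
  obtain ⟨p, hp⟩ := CharP.exists F
  haveI := Fintype.ofFinite F
  haveI : Fact p.Prime := ⟨CharP.char_is_prime F p⟩
  haveI : Finite (GL (α × β) F) :=
    Finite.of_injective (fun g : GL (α × β) F => (g : Matrix (α × β) (α × β) F)) Units.val_injective
  have hp2 : p ≠ 2 := fun e => C.h2 (by subst e; exact CharP.cast_eq_zero F 2)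
  have hpG : IsPGroup p G := by
    rintro ⟨g, hg⟩
    refine ⟨1, Subtype.ext ?_⟩
    rw [SubmonoidClass.coe_pow, OneMemClass.coe_one, pow_one]
    refine gl_ext_mulVec fun y => ?_
    obtain ⟨d, hd⟩ : ∃ d, d = g ⬝ₘ y - y := ⟨_, rfl⟩
    obtain ⟨d', hd'⟩ : ∃ d', d' = g ⬝ₘ d - d := ⟨_, rfl⟩
    have h3 : g ⬝ₘ d' = d' := by rw [hd', hd]; exact hG g hg y
    have key : ∀ k : ℕ, ((g ^ k : GL (α × β) F) : Matrix (α × β) (α × β) F) *ᵥ y =
        y + (k : F) • d + ((k.choose 2 : ℕ) : F) • d' := fun k => by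
      induction k with
      | zero => simp
      | succ k ih =>
        rw [pow_succ', gl_mul_mulVec, ih, Matrix.mulVec_add, Matrix.mulVec_add, Matrix.mulVec_smul,
          Matrix.mulVec_smul, h3, show g ⬝ₘ y = y + d by rw [hd]; abel, show g ⬝ₘ d = d + d' by rw [hd']; abel,
          Nat.choose_succ_succ', Nat.choose_one_right, Nat.cast_add, Nat.cast_add, Nat.cast_one]
        module
    rw [key p, CharP.cast_eq_zero, zero_smul, add_zero,
      (CharP.cast_eq_zero_iff F p (p.choose 2)).mpr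
        (Nat.Prime.dvd_choose_self Fact.out two_ne_zero (lt_of_le_of_ne (Fact.out : p.Prime).two_le (Ne.symm hp2))),
      zero_smul, add_zero, Units.val_one, Matrix.one_mulVec]
  obtain ⟨o, c, ho, hc, hR⟩ := id hz
  have hzp := isPGroup_rt C p hz
  have hle : Subgroup.zpowers z ≤ Subgroup.normalizer (G : Set (GL (α × β) F)) := by
    rw [Subgroup.zpowers_le, Subgroup.mem_normalizer_iff]
    have hzpow : ∀ (k : ℕ) g, g ∈ G → z ^ k * g * (z ^ k)⁻¹ ∈ G := fun k => by
      induction k with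
      | zero => intro g hg; simpa using hg
      | succ k ih =>
        intro g hg
        rw [pow_succ', _root_.mul_inv_rev, show z * z ^ k * g * ((z ^ k)⁻¹ * z⁻¹) = z * (z ^ k * g * (z ^ k)⁻¹) * z⁻¹ by
          group]
        exact hnorm _ (ih g hg)
    intro g
    refine ⟨hnorm g, fun h => ?_⟩
    obtain ⟨⟨k, hk⟩⟩ : Nonempty {k : ℕ // z ^ k = z⁻¹} :=
      ⟨⟨orderOf z - 1, eq_inv_of_mul_eq_one_left (by
        rw [← pow_succ, Nat.sub_add_cancel (orderOf_pos z), pow_orderOf_eq_one])⟩⟩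
    have := hzpow k _ h
    rwa [hk, inv_inv, show z⁻¹ * (z * g * z⁻¹) * z = g by group] at this
  exact le_sup_left.trans (pgroup_le C p hab (IsPGroup.to_sup_of_normal_left' hpG hzp hle)
    (sup_le hGX (Subgroup.zpowers_le.2 (isRt_mem C hz).1)) hz
    ((le_sup_right : Subgroup.zpowers z ≤ _) (Subgroup.mem_zpowers z)))

/-- An element of the group fixing a non-singular pure tensor commutes with the reflection of its first entry. -/
theorem fix_pure [Finite F] (h2 : Fintype.card β = 2) (hab : Fintype.card α = 4 → Aniso fo) {v : α → F} (hv : fo v v ≠ 0)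
    {o : β → F} (ho : o ≠ 0) {h : GL (α × β) F} (hh : h ∈ X) (hx : h ⬝ₘ (tm v o) = tm v o) (w : β → F) :
    ∃ w', h ⬝ₘ (tm v w) = tm v w' := by
  classical
  have hab' : Fintype.card α = 4 → 4 ≤ Fintype.card β ∨ Aniso fo := fun e => Or.inr (hab e)
  obtain ⟨o', ho'⟩ := C.partner ho
  obtain ⟨x, hxdef⟩ : ∃ x, x = tm v o := ⟨_, rfl⟩
  rw [← hxdef] at hx
  let G : Subgroup (GL (α × β) F) :=
    { carrier := {g | g ∈ X ∧ g ⬝ₘ x = x ∧ ∀ y, τ y x = 0 → ∃ l : F, g ⬝ₘ y = y + l • x}
      mul_mem' := fun {a b} ha hb => ⟨mul_mem ha.1 hb.1, by rw [gl_mul_mulVec, hb.2.1, ha.2.1], fun y hy => by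
        obtain ⟨l, hl⟩ := hb.2.2 y hy
        obtain ⟨m, hm⟩ := ha.2.2 y hy
        exact ⟨m + l, by rw [gl_mul_mulVec, hl, Matrix.mulVec_add, Matrix.mulVec_smul, ha.2.1, hm]; module⟩⟩
      one_mem' := ⟨one_mem X, by simp, fun y _ => ⟨0, by simp⟩⟩
      inv_mem' := fun {a} ha => by
        have h1 : a⁻¹ ⬝ₘ x = x := by conv_lhs => rw [← ha.2.1, gl_inv_mulVec_cancel]
        refine ⟨inv_mem ha.1, h1, fun y hy => ?_⟩
        obtain ⟨l, hl⟩ := ha.2.2 y hy
        refine ⟨-l, gl_mulVec_injective a ?_⟩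
        change a ⬝ₘ _ = a ⬝ₘ _
        rw [gl_mulVec_inv_cancel, Matrix.mulVec_add, Matrix.mulVec_smul, ha.2.1, hl]
        module }
  obtain ⟨z, hz, hR, hzX, hzK⟩ := exists_isRt C (α := α) ho
  have hzx : z ⬝ₘ x = x := (rt_fix C.data ho one_ne_zero hR x).mpr (by rw [hxdef, C.ctr_tm', C.s.alt, zero_smul])
  have hzx' : z⁻¹ ⬝ₘ x = x := by conv_lhs => rw [← hzx, gl_inv_mulVec_cancel]
  have hGK : G ≤ Kr α β F := by
    refine unip_le C hab' (fun g hg => hg.1) ?_ hz ?_
    · rintro g ⟨hgX, hgx, hg⟩ y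
      obtain ⟨l, hl⟩ := hg (g ⬝ₘ y - y) (by
        rw [sub_eq_add_neg, (tf_semi C.data).add_left, (reflex C.data).neg_left]
        conv_lhs => enter [1]; rw [← hgx, C.iso g hgX]
        exact add_neg_cancel _)
      rw [hl, add_sub_cancel_left, Matrix.mulVec_smul, hgx]
    · rintro g ⟨hgX, hgx, hg⟩
      refine ⟨mul_mem (mul_mem hzX hgX) (inv_mem hzX), by rw [gl_mul_mulVec, gl_mul_mulVec, hzx', hgx, hzx],
        fun y hy => ?_⟩
      obtain ⟨l, hl⟩ := hg (z⁻¹ ⬝ₘ y) (by rw [← hzx', C.iso _ (inv_mem hzX), hy])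
      exact ⟨l, by rw [gl_mul_mulVec, gl_mul_mulVec, hl, Matrix.mulVec_add, Matrix.mulVec_smul, gl_mulVec_inv_cancel,
        hzx]⟩
  have htriv : ∀ g ∈ G, g = 1 := by
    intro g hg
    obtain ⟨r, t, hrt⟩ := hGK hg
    obtain ⟨hgX, hgx, hgy⟩ := hg
    subst hrt
    obtain ⟨μ, hμ, hr, ht⟩ := C.mult hgX ho
    have hto : ∃ c : F, (t : Matrix β β F) *ᵥ o = c • o := by
      rw [hxdef, kr_tm] at hgx
      have hv0 : v ≠ 0 := fun e => hv (by rw [e, C.o.zero_left])
      obtain ⟨s, hs, -, hs2⟩ := tm_inj hgx.symm hv0 ho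
      exact ⟨s, hs2⟩
    obtain ⟨c, hc⟩ := hto
    have hl : ∀ a, ∃ l : F, c • ((r : Matrix α α F) *ᵥ a) = a + l • v := fun a => by
      obtain ⟨l, hl⟩ := hgy (tm a o) (by rw [hxdef, C.tau, C.s.alt, mul_zero])
      refine ⟨l, tm_cancel ho ?_⟩
      rw [tm_smul_left, ← tm_smul_right, ← hc, ← kr_tm, hl, hxdef, tm_add_left, tm_smul_left]
    have hcv : c • ((r : Matrix α α F) *ᵥ v) = v := tm_cancel ho (by
      rw [tm_smul_left, ← tm_smul_right, ← hc, ← kr_tm, ← hxdef, hgx])
    have hμc : μ * (c * c) = 1 := by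
      have := congrArg (fun a => fo a a) hcv
      simp only [C.smul_left, C.smul_right, hr] at this
      exact mul_right_cancel₀ hv (by linear_combination this)
    have hra : ∀ a, c • ((r : Matrix α α F) *ᵥ a) = a := fun a => by
      obtain ⟨l, hla⟩ := hl a
      have e := congrArg (fun b => fo b v) hla
      simp only [C.add_left, C.smul_left] at e
      have e2 : c * fo ((r : Matrix α α F) *ᵥ a) v = fo a v := by
        conv_lhs => rw [show v = c • ((r : Matrix α α F) *ᵥ v) from hcv.symm, C.smul_right, hr]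
        linear_combination fo a v * hμc
      rw [hla, (mul_eq_zero.mp (show l * fo v v = 0 by linear_combination e2 - e)).resolve_right hv, zero_smul,
        add_zero]
    have hc0 : c ≠ 0 := fun e => hv (by rw [← hcv, e, zero_smul, C.o.zero_left])
    obtain ⟨a, haa, hav⟩ : ∃ a, a ≠ 0 ∧ fo a v = 0 := by
      obtain ⟨d, hd1, hd0⟩ := Submodule.exists_mem_ne_zero_of_ne_bot (p := C.o.perp (Submodule.span F {v}))
        fun e => by
          have hd := C.o.finrank_perp (Submodule.span F {v})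
          have h1 := finrank_span_le_card (R := F) ({v} : Set (α → F))
          simp at h1
          have := C.dim
          rw [e, finrank_bot] at hd
          omega
      exact ⟨d, hd0, hd1 v (Submodule.mem_span_singleton_self v)⟩
    obtain ⟨l, hl'⟩ := hgy (tm a o') (by rw [hxdef, C.tau, hav, zero_mul])
    have e0 : (r : Matrix α α F) *ᵥ a = c⁻¹ • a := by
      rw [← hra a, smul_smul, inv_mul_cancel₀ hc0, one_smul, hra]
    rw [kr_tm, e0, tm_smul_left, ← tm_smul_right, hxdef] at hl'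
    have hto' : c⁻¹ • ((t : Matrix β β F) *ᵥ o') = o' := by
      have := congrArg (pc fo a) hl'
      have hva : fo v a = 0 := by rw [C.symm]; exact hav
      by_cases haz : fo a a = 0
      · obtain ⟨d, hd⟩ := (C.o.nondeg a haa).2
        have := congrArg (pc fo (d - (fo v d / fo v v) • v)) hl'
        rw [C.pc_add, C.pc_smul, C.pc_tm, C.pc_tm, C.pc_tm, C.sub_right, C.smul_right, hav, mul_zero, sub_zero,
          C.sub_right, C.smul_right, div_mul_cancel₀ _ hv, sub_self, zero_smul, smul_zero, add_zero] at this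
        exact smul_right_injective _ hd this
      · rw [C.pc_add, C.pc_smul, C.pc_tm, C.pc_tm, C.pc_tm, hva, zero_smul, smul_zero, add_zero] at this
        exact smul_right_injective _ haz this
    refine gl_ext_mulVec fun y => ext_pure (M := (kr r t : Matrix (α × β) (α × β) F))
      (M' := ((1 : GL (α × β) F) : Matrix (α × β) (α × β) F)) (fun a w => ?_) y
    have htw : c⁻¹ • ((t : Matrix β β F) *ᵥ w) = w := by
      conv_lhs => rw [C.expand2 h2 ho' w, Matrix.mulVec_sub, Matrix.mulVec_smul, Matrix.mulVec_smul, hc, smul_sub,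
        smul_comm, hto', smul_comm c⁻¹, smul_smul c⁻¹, inv_mul_cancel₀ hc0, one_smul]
      exact (C.expand2 h2 ho' w).symm
    rw [kr_tm, Units.val_one, Matrix.one_mulVec]
    conv_rhs => rw [← hra a, ← htw, tm_smul_left, tm_smul_right, smul_smul, mul_inv_cancel₀ hc0, one_smul]
  obtain ⟨r, hr, hri, hriso⟩ := C.exists_rf hv
  obtain ⟨j, hj⟩ : ∃ j, j = kr r (1 : GL β F) := ⟨_, rfl⟩
  have hjX : j ∈ X := hj ▸ C.left_mem hriso
  have hjcol : ∀ y k, col (j ⬝ₘ y) k = col y k - (2 * fo (col y k) v / fo v v) • v := fun y k => by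
    rw [hj, kr_one_col, hr]
  have hjx : j ⬝ₘ x = -x := by
    rw [hj, hxdef, kr_tm, hr, Units.val_one, Matrix.one_mulVec, mul_div_assoc, div_self hv, mul_one,
      show v - (2 : F) • v = -v by module, ← neg_one_smul F v, tm_smul_left, neg_one_smul]
  have hjy : ∀ y, τ y x = 0 → ∃ l : F, j ⬝ₘ y = y + l • x := fun y hy => by
    rw [hxdef, C.tau_pc] at hy
    obtain ⟨c, hc⟩ := C.perp2 h2 ho hy
    refine ⟨-(2 * c / fo v v), funext fun p => ?_⟩
    have e := congrFun (hjcol y p.2) p.1
    have e2 : fo (col y p.2) v = c * o p.2 := congrFun hc p.2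
    simp only [col, Pi.sub_apply, Pi.smul_apply, smul_eq_mul] at e e2
    rw [e, e2, hxdef, Pi.add_apply, Pi.smul_apply, smul_eq_mul, tm_apply]
    field_simp
    ring
  have hhx' : h⁻¹ ⬝ₘ x = x := by conv_lhs => rw [← hx, gl_inv_mulVec_cancel]
  have hc1 : h * j * h⁻¹ * j = 1 := htriv _ ⟨mul_mem (mul_mem (mul_mem hh hjX) (inv_mem hh)) hjX, by
    rw [gl_mul_mulVec, gl_mul_mulVec, gl_mul_mulVec, hjx, Matrix.mulVec_neg, hhx', Matrix.mulVec_neg, hjx, neg_neg,
      hx], fun y hy => by
    obtain ⟨l, hl⟩ := hjy y hy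
    obtain ⟨m, hm⟩ := hjy (h⁻¹ ⬝ₘ y) (by rw [← hhx', C.iso _ (inv_mem hh), hy])
    refine ⟨m - l, ?_⟩
    rw [gl_mul_mulVec, gl_mul_mulVec, gl_mul_mulVec, hl, Matrix.mulVec_add, Matrix.mulVec_smul, hhx', Matrix.mulVec_add,
      hm, Matrix.mulVec_smul, hjx, Matrix.mulVec_add, Matrix.mulVec_add, gl_mulVec_inv_cancel, Matrix.mulVec_smul,
      Matrix.mulVec_smul, Matrix.mulVec_neg, hx]
    module⟩
  have hcomm : j * h = h * j := by
    have h2 : h * j * h⁻¹ = j⁻¹ := eq_inv_of_mul_eq_one_left hc1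
    have h3 : j⁻¹ = j := by
      rw [inv_eq_iff_mul_eq_one, hj, show kr r (1 : GL β F) * kr r 1 = kr (r * r) (1 * 1) from kr_mul r r 1 1]
      rw [show r * r = 1 from gl_ext_mulVec fun a => by
        rw [gl_mul_mulVec, hr a, Matrix.mulVec_sub, Matrix.mulVec_smul, hr, hr v, Units.val_one, Matrix.one_mulVec]
        match_scalars <;> field_simp <;> ring, mul_one, kr_one]
    rw [h3] at h2
    conv_lhs => rw [← h2]
    group
  -- the negated space of the reflection
  obtain ⟨Z, hZ⟩ : ∃ Z, Z = h ⬝ₘ (tm v w) := ⟨_, rfl⟩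
  have hjZ : j ⬝ₘ Z = -Z := by
    rw [hZ, ← gl_mul_mulVec, hcomm, gl_mul_mulVec, hj, kr_tm, hr, Units.val_one, Matrix.one_mulVec, mul_div_assoc,
      div_self hv, mul_one, show v - (2 : F) • v = -v by module, ← neg_one_smul F v, tm_smul_left, neg_one_smul,
      Matrix.mulVec_neg]
  refine ⟨fun k => fo (col Z k) v / fo v v, ?_⟩
  rw [← hZ]
  funext p
  have e := congrFun (hjcol Z p.2) p.1
  rw [hjZ] at e
  simp only [col, Pi.neg_apply, Pi.sub_apply, Pi.smul_apply, smul_eq_mul] at e
  rw [tm_apply]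
  refine mul_left_cancel₀ C.h2 ?_
  linear_combination -e

/-- An involution fixing a non-singular pure tensor fixes the whole fibre. -/
theorem fix_whole [Finite F] (h2 : Fintype.card β = 2) (hab : Fintype.card α = 4 → Aniso fo) {g : GL (α × β) F} (hg : g ∈ X)
    (hinv : g * g = 1) {v : α → F} (hv : fo v v ≠ 0) {o : β → F} (ho : o ≠ 0) (hx : g ⬝ₘ (tm v o) = tm v o) :
    v ∈ fixSub g := by
  obtain ⟨S, hS⟩ : ∃ S : (β → F) → β → F, ∀ w, g ⬝ₘ (tm v w) = tm v (S w) :=
    ⟨fun w => (fix_pure C h2 hab hv ho hg hx w).choose, fun w => (fix_pure C h2 hab hv ho hg hx w).choose_spec⟩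
  have hc : ∀ {u w : β → F}, tm v u = tm v w → u = w := fun {u w} e => by
    refine sub_eq_zero.mp ((tm_eq_zero (a := v) (b := u - w) ?_).resolve_left fun e' => hv (by rw [e', C.o.zero_left]))
    rw [tm_sub_right, e, sub_self]
  rcases C.sign2 h2 (S := S)
      (fun a b => hc (by rw [← hS, tm_add_right, Matrix.mulVec_add, hS, hS, tm_add_right]))
      (fun c a => hc (by rw [← hS, tm_smul_right, Matrix.mulVec_smul, hS, tm_smul_right]))
      (fun a b => by
        have := C.iso g hg (tm v a) (tm v b)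
        rw [hS, hS, C.tau, C.tau] at this
        exact mul_left_cancel₀ hv this)
      (fun a => hc (by rw [← hS, ← hS, ← gl_mul_mulVec, hinv, Units.val_one, Matrix.one_mulVec])) with h | h
  · exact fun w => by rw [hS, h]
  · exfalso
    have e : S o = o := hc (by rw [← hS, hx])
    rw [h o] at e
    have : (2 : F) • o = 0 := by rw [two_smul]; nth_rewrite 1 [← e]; exact neg_add_cancel o
    exact ho ((smul_eq_zero.mp this).resolve_left C.h2)

/-- A fixed pure tensor gives a fixed fibre, as soon as some non-singular fibre is fixed. -/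
theorem fix_extend [Finite F] (h2 : Fintype.card β = 2) (hab : Fintype.card α = 4 → Aniso fo) {g : GL (α × β) F} (hg : g ∈ X)
    (hinv : g * g = 1) {v a : α → F} (hv : fo v v ≠ 0) (hvT : v ∈ fixSub g) {o : β → F} (ho : o ≠ 0)
    (hx : g ⬝ₘ (tm a o) = tm a o) : a ∈ fixSub g := by
  by_cases haa : fo a a = 0
  · by_cases h1 : fo (a + v) (a + v) = 0
    · have h3 : fo (a - v) (a - v) ≠ 0 := fun h3 => by
        rw [C.sub_left, C.sub_right, C.sub_right, haa, C.symm a v] at h3
        rw [C.add_left, C.add_right, C.add_right, haa, C.symm a v] at h1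
        exact hv ((mul_eq_zero.mp (show (2 : F) * fo v v = 0 by linear_combination h1 + h3)).resolve_left C.h2)
      have := fix_whole C h2 hab hg hinv h3 ho (by rw [tm_sub_left, Matrix.mulVec_sub, hx, hvT o])
      have := add_mem this hvT
      rwa [sub_add_cancel] at this
    · have := fix_whole C h2 hab hg hinv h1 ho (by rw [tm_add_left, Matrix.mulVec_add, hx, hvT o])
      have := sub_mem this hvT
      rwa [add_sub_cancel_right] at this
  · exact fix_whole C h2 hab hg hinv haa ho hx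

end Cfsg.Agent.Classical.TensorMax.SpO
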