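/-
A symplectic factor of dimension two: the conjugates of reflections are reflections or live on a plane.
-/
import Cfsg.Agent.Lib.Classical.TensorMax.SpO.TwoFix

set_option autoImplicit false
set_option linter.unusedSectionVars false

namespace Cfsg.Agent.Classical.TensorMax.SpO

open Matrix Module Cfsg.Geo
open Cfsg.Agent.Classical Cfsg.Agent.Classical.TensorMax Cfsg.Agent.Classical.TensorMax.Form

variable {α β : Type} [Fintype α] [DecidableEq α] [Fintype β] [DecidableEq β] {F : Type*} [Field F]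
variable {fo : (α → F) → (α → F) → F} {fs : (β → F) → (β → F) → F} {X : Subgroup (GL (α × β) F)}

local notation:max g:max " ⬝ₘ " x:max => ((g : GL (α × β) F) : Matrix (α × β) (α × β) F) *ᵥ x
local notation "τ" => tf (RingEquiv.refl F) fo fs

/-- The involution with negated space the image of the fibre of `u` under `k`. -/
structure Conj (fo : (α → F) → (α → F) → F) (fs : (β → F) → (β → F) → F) (X : Subgroup (GL (α × β) F))
    (g k : GL (α × β) F) (u : α → F) : Prop where
  kmem : k ∈ X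
  gmem : g ∈ X
  nonsing : fo u u ≠ 0
  inv : g * g = 1
  neg : ∀ w, (g : Matrix (α × β) (α × β) F) *ᵥ ((k : Matrix (α × β) (α × β) F) *ᵥ tm u w) =
    -((k : Matrix (α × β) (α × β) F) *ᵥ tm u w)
  fix : ∀ y, (∀ w, tf (RingEquiv.refl F) fo fs y ((k : Matrix (α × β) (α × β) F) *ᵥ tm u w) = 0) →
    (g : Matrix (α × β) (α × β) F) *ᵥ y = y

/-- An element acting on the first factor only. -/
def Good (g : GL (α × β) F) : Prop := ∃ r : GL α F, g = kr r (1 : GL β F)

theorem kr_one_right_col (t : GL β F) (y : α × β → F) (k : β) {E : Submodule F (α → F)}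
    (h : ∀ l, col y l ∈ E) : col ((kr (1 : GL α F) t) ⬝ₘ y) k ∈ E := by
  have e : col ((kr (1 : GL α F) t) ⬝ₘ y) k =
      ∑ l, ((t : Matrix β β F) *ᵥ Pi.single l 1) k • col y l := by
    conv_lhs => rw [sum_cols y, Matrix.mulVec_sum]
    funext i
    simp only [col, Finset.sum_apply, kr_tm, tm_apply, Units.val_one, Matrix.one_mulVec, Pi.smul_apply, smul_eq_mul]
    exact Finset.sum_congr rfl fun l _ => mul_comm _ _
  rw [e]
  exact Submodule.sum_mem _ fun l _ => E.smul_mem _ (h l)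

variable (C : Ctx fo fs X)

include C

theorem exists_conj {k : GL (α × β) F} (hk : k ∈ X) {u : α → F} (hu : fo u u ≠ 0) :
    ∃ g r, Conj fo fs X g k u ∧ g = k * kr r (1 : GL β F) * k⁻¹ ∧
      (∀ x, (r : Matrix α α F) *ᵥ x = x - (2 * fo x u / fo u u) • u) ∧
      ∀ x y, fo ((r : Matrix α α F) *ᵥ x) ((r : Matrix α α F) *ᵥ y) = fo x y := by
  obtain ⟨r, hr, -, hriso⟩ := C.exists_rf hu
  have hrr : r * r = 1 := gl_ext_mulVec fun a => by
    rw [gl_mul_mulVec, hr a, Matrix.mulVec_sub, Matrix.mulVec_smul, hr, hr u, Units.val_one, Matrix.one_mulVec]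
    match_scalars <;> field_simp <;> ring
  have hjneg : ∀ w, (kr r (1 : GL β F)) ⬝ₘ (tm u w) = -tm u w := fun w => by
    rw [kr_tm, hr, Units.val_one, Matrix.one_mulVec, mul_div_assoc, div_self hu, mul_one,
      show u - (2 : F) • u = -u by module, ← neg_one_smul F u, tm_smul_left, neg_one_smul]
  refine ⟨_, r, ⟨hk, mul_mem (mul_mem hk (C.left_mem hriso)) (inv_mem hk), hu, ?_, fun w => ?_, fun y hy => ?_⟩,
    rfl, hr, hriso⟩
  · rw [show k * kr r (1 : GL β F) * k⁻¹ * (k * kr r 1 * k⁻¹) = k * (kr r 1 * kr r 1) * k⁻¹ by group,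
      show kr r (1 : GL β F) * kr r 1 = kr (r * r) (1 * 1) from kr_mul r r 1 1, hrr, mul_one, kr_one, mul_one,
      mul_inv_cancel]
  · rw [gl_mul_mulVec, gl_mul_mulVec, gl_inv_mulVec_cancel, hjneg, Matrix.mulVec_neg]
  · obtain ⟨Y, hY⟩ : ∃ Y, Y = k⁻¹ ⬝ₘ y := ⟨_, rfl⟩
    have hpc : pc fo u Y = 0 := C.sext fun w => by
      rw [← C.tau_pc, hY, ← C.iso k hk, gl_mulVec_inv_cancel, hy, C.s.refl.zero_left]
    have hjY : (kr r (1 : GL β F)) ⬝ₘ Y = Y := by
      funext p
      have e := congrFun (kr_one_col r Y p.2) p.1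
      have e0 : fo (col Y p.2) u = 0 := congrFun hpc p.2
      rw [hr, e0] at e
      simpa [col] using e
    rw [gl_mul_mulVec, gl_mul_mulVec, ← hY, hjY, hY, gl_mulVec_inv_cancel]

theorem Conj.orth {g k : GL (α × β) F} {u : α → F} (H : Conj fo fs X g k u) {y : α × β → F} (hy : g ⬝ₘ y = y)
    (w : β → F) : τ y (k ⬝ₘ (tm u w)) = 0 := by
  have e := C.iso g H.gmem y (k ⬝ₘ (tm u w))
  rw [hy, H.neg, ← neg_one_smul F (k ⬝ₘ (tm u w)), (tf_semi C.data).smul_right] at e
  refine (mul_eq_zero.mp (show (2 : F) * τ y (k ⬝ₘ (tm u w)) = 0 from ?_)).resolve_left C.h2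
  simp only [RingEquiv.refl_apply] at e
  linear_combination -e

/-- The fixed pure tensors over a given centre form a subspace of codimension two. -/
theorem Conj.exists_fixed (h2 : Fintype.card β = 2) {g k : GL (α × β) F} {u : α → F} (H : Conj fo fs X g k u)
    (o : β → F) :
    ∃ U : Submodule F (α → F), (∀ a ∈ U, g ⬝ₘ (tm a o) = tm a o) ∧ Fintype.card α ≤ finrank F U + 2 := by
  let Φ : (α → F) →ₗ[F] (β → F) :=
    { toFun := fun a => pc fo u (k⁻¹ ⬝ₘ (tm a o))
      map_add' := fun a b => by rw [tm_add_left, Matrix.mulVec_add, C.pc_add]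
      map_smul' := fun c a => by rw [tm_smul_left, Matrix.mulVec_smul, C.pc_smul, RingHom.id_apply] }
  refine ⟨LinearMap.ker Φ, fun a ha => H.fix _ fun w => ?_, ?_⟩
  · rw [← C.iso k⁻¹ (inv_mem H.kmem), gl_inv_mulVec_cancel, C.tau_pc,
      show pc fo u (k⁻¹ ⬝ₘ (tm a o)) = 0 from LinearMap.mem_ker.mp ha, C.s.refl.zero_left]
  · have e1 := LinearMap.finrank_range_add_finrank_ker Φ
    have e2 := Submodule.finrank_le (LinearMap.range Φ)
    rw [Module.finrank_fintype_fun_eq_card] at e1 e2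
    omega

theorem Ctx.exists_nonsing_of_large {U : Submodule F (α → F)} (hU : Fintype.card α < 2 * finrank F U) :
    ∃ v ∈ U, fo v v ≠ 0 := by
  by_contra hcon
  push Not at hcon
  have hle : U ≤ C.o.perp U := fun a ha b hb => by
    have := hcon (a + b) (add_mem ha hb)
    rw [C.add_left, C.add_right, C.add_right, hcon a ha, hcon b hb, C.symm a b, zero_add, add_zero, ← two_mul] at this
    exact (mul_eq_zero.mp this).resolve_left C.h2
  have h1 := Submodule.finrank_mono hle
  have h3 := C.o.finrank_perp U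
  omega

theorem fix_dim [Finite F] (h2 : Fintype.card β = 2) (hab : Fintype.card α = 4 → Aniso fo) {g k : GL (α × β) F} {u : α → F}
    (H : Conj fo fs X g k u) {v : α → F} (hv : fo v v ≠ 0) (hvT : v ∈ fixSub g) :
    Fintype.card α ≤ finrank F (fixSub g) + 2 := by
  obtain ⟨i⟩ : Nonempty β := Fintype.card_pos_iff.mp (by omega)
  obtain ⟨o, ho⟩ : ∃ o : β → F, o ≠ 0 := ⟨Pi.single i 1, by simp⟩
  obtain ⟨U, hU, hdim⟩ := H.exists_fixed C h2 o
  have hle : U ≤ fixSub g := fun a ha => fix_extend C h2 hab H.gmem H.inv hv hvT ho (hU a ha)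
  have := Submodule.finrank_mono hle
  omega

theorem fix_dim_big [Finite F] (h2 : Fintype.card β = 2) (h5 : 5 ≤ Fintype.card α) {g k : GL (α × β) F} {u : α → F}
    (H : Conj fo fs X g k u) : Fintype.card α ≤ finrank F (fixSub g) + 2 := by
  obtain ⟨i⟩ : Nonempty β := Fintype.card_pos_iff.mp (by omega)
  obtain ⟨o, ho⟩ : ∃ o : β → F, o ≠ 0 := ⟨Pi.single i 1, by simp⟩
  obtain ⟨U, hU, hdim⟩ := H.exists_fixed C h2 o
  obtain ⟨v, hv, hvv⟩ := C.exists_nonsing_of_large (U := U) (by omega)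
  exact fix_dim C h2 (fun e => absurd e (by omega)) H hvv (fix_whole C h2 (fun e => absurd e (by omega)) H.gmem H.inv hvv ho (hU v hv))

theorem fix_dim_four [Finite F] (h2 : Fintype.card β = 2) (h4 : 4 ≤ Fintype.card α)
    (hab : Fintype.card α = 4 → Aniso fo) {g k : GL (α × β) F} {u : α → F} (H : Conj fo fs X g k u) :
    Fintype.card α ≤ finrank F (fixSub g) + 2 := by
  rcases Nat.lt_or_ge (Fintype.card α) 5 with hlt | h5
  · obtain ⟨i⟩ : Nonempty β := Fintype.card_pos_iff.mp (by omega)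
    obtain ⟨o, ho⟩ : ∃ o : β → F, o ≠ 0 := ⟨Pi.single i 1, by simp⟩
    obtain ⟨U, hU, hdU⟩ := H.exists_fixed C h2 o
    obtain ⟨v, hv, hvv⟩ : ∃ v ∈ U, fo v v ≠ 0 := by
      by_contra hcon
      push Not at hcon
      have := hab (by omega) U fun a ha b hb => by
        have := hcon (a + b) (add_mem ha hb)
        rw [C.add_left, C.add_right, C.add_right, hcon a ha, hcon b hb, C.symm a b, zero_add, add_zero,
          ← two_mul] at this
        exact (mul_eq_zero.mp this).resolve_left C.h2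
      omega
    exact fix_dim C h2 hab H hvv (fix_whole C h2 hab H.gmem H.inv hvv ho (hU v hv))
  · exact fix_dim_big C h2 h5 H

theorem Ctx.perp_fix {g : GL (α × β) F} (hg : g ∈ X) {a : α → F} (ha : a ∈ fixSub g) (y : α × β → F) (k : β) :
    fo (col (g ⬝ₘ y - y) k) a = 0 := by
  have h : pc fo a (g ⬝ₘ y - y) = 0 := C.sext fun w => by
    rw [← C.tau_pc, sub_eq_add_neg, (tf_semi C.data).add_left, (reflex C.data).neg_left, C.s.refl.zero_left]
    conv_lhs => enter [1]; rw [← ha w, C.iso g hg]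
    exact add_neg_cancel _
  exact congrFun h k

/-- A conjugate of a reflection with large fixed part acts on one factor or lives on a non-degenerate plane. -/
theorem classify [Finite F] (h2 : Fintype.card β = 2) (hab : Fintype.card α = 4 → Aniso fo) {g k : GL (α × β) F} {u : α → F}
    (H : Conj fo fs X g k u) (hT : Fintype.card α ≤ finrank F (fixSub g) + 2) :
    Good g ∨ ∃ p₁ p₂, fo p₁ p₁ ≠ 0 ∧ fo p₂ p₂ ≠ 0 ∧ fo p₁ p₂ = 0 ∧
      ∀ a, a ∈ fixSub g ↔ fo a p₁ = 0 ∧ fo a p₂ = 0 := by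
  classical
  obtain ⟨P, hP⟩ : ∃ P, P = C.o.perp (fixSub g) := ⟨_, rfl⟩
  have hPdim : finrank F P ≤ 2 := by
    have := C.o.finrank_perp (fixSub g)
    rw [← hP] at this
    omega
  have hPT : C.o.perp P = fixSub g := by rw [hP, C.o.perp_perp]
  have hcolP : ∀ y k, col (g ⬝ₘ y - y) k ∈ P := fun y k => by
    rw [hP]; exact fun a ha => C.perp_fix H.gmem ha y k
  have hfixed : ∀ y, (∀ k, col y k ∈ fixSub g) → g ⬝ₘ y = y := fun y hy => by
    conv_lhs => rw [sum_cols y, Matrix.mulVec_sum]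
    conv_rhs => rw [sum_cols y]
    exact Finset.sum_congr rfl fun k _ => hy k _
  have hone : (∀ y, g ⬝ₘ (g ⬝ₘ y - y) = g ⬝ₘ y - y) → Good g := fun h => ⟨1, by
    rw [kr_one]
    refine gl_ext_mulVec fun y => ?_
    have e := h y
    rw [Matrix.mulVec_sub, ← gl_mul_mulVec, H.inv, Units.val_one, Matrix.one_mulVec] at e
    rw [Units.val_one, Matrix.one_mulVec]
    have e2 : (2 : F) • (g ⬝ₘ y - y) = 0 := by linear_combination (norm := module) -e
    exact sub_eq_zero.mp ((smul_eq_zero.mp e2).resolve_left C.h2)⟩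
  by_cases hPs : ∀ a ∈ P, fo a a = 0
  · refine Or.inl (hone fun y => hfixed _ fun k => ?_)
    rw [← hPT]
    intro b hb
    have h := hPs (col (g ⬝ₘ y - y) k + b) (add_mem (hcolP y k) hb)
    rw [C.add_left, C.add_right, C.add_right, hPs _ (hcolP y k), hPs b hb, C.symm _ b, zero_add, add_zero,
      ← two_mul] at h
    exact (mul_eq_zero.mp h).resolve_left C.h2
  push Not at hPs
  obtain ⟨w, hw, hww⟩ := hPs
  obtain ⟨E, hE⟩ : ∃ E, E = P ⊓ C.o.perp (Submodule.span F {w}) := ⟨_, rfl⟩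
  have hsplit : ∀ a ∈ P, a - (fo a w / fo w w) • w ∈ E := fun a ha => by
    rw [hE]
    refine ⟨sub_mem ha (P.smul_mem _ hw), fun b hb => ?_⟩
    obtain ⟨c, rfl⟩ := Submodule.mem_span_singleton.mp hb
    rw [C.smul_right, C.sub_left, C.smul_left, div_mul_cancel₀ _ hww, sub_self, mul_zero]
  have hEw : ∀ a ∈ E, fo a w = 0 := fun a ha => by
    rw [hE] at ha
    exact ha.2 w (Submodule.mem_span_singleton_self w)
  have hEP : E ≤ P := hE ▸ inf_le_left
  by_cases hEs : ∃ e ∈ E, fo e e ≠ 0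
  · obtain ⟨e, he, hee⟩ := hEs
    refine Or.inr ⟨w, e, hww, hee, by rw [C.symm]; exact hEw e he, fun a => ⟨fun ha => ?_, fun ⟨h1, h1'⟩ => ?_⟩⟩
    · exact ⟨by rw [C.symm]; exact (hP ▸ hw : w ∈ C.o.perp (fixSub g)) a ha,
        by rw [C.symm]; exact (hP ▸ hEP he : e ∈ C.o.perp (fixSub g)) a ha⟩
    · rw [← hPT]
      have hspan : Submodule.span F {w, e} = P := by
        refine Submodule.eq_of_le_of_finrank_le (Submodule.span_le.mpr ?_) (hPdim.trans ?_)
        · intro x hx
          rcases hx with rfl | rfl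
          · exact hw
          · exact hEP he
        · have hli : LinearIndependent F ![w, e] := LinearIndependent.pair_iff.mpr fun s t h => by
            have e1 := congrArg (fun x => fo x w) h
            have e2 := congrArg (fun x => fo x e) h
            simp only [C.add_left, C.smul_left, hEw e he, C.symm e w, C.o.zero_left] at e1 e2
            exact ⟨(mul_eq_zero.mp (by linear_combination e1)).resolve_right hww,
              (mul_eq_zero.mp (by linear_combination e2)).resolve_right hee⟩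
          have := finrank_span_eq_card hli
          rw [show Set.range ![w, e] = {w, e} from by simp [Matrix.range_cons, Set.union_comm, Set.pair_comm]] at this
          rw [this, Fintype.card_fin]
      intro x hx
      rw [← hspan] at hx
      obtain ⟨s, t, rfl⟩ := Submodule.mem_span_pair.mp hx
      rw [C.add_right, C.smul_right, C.smul_right, h1, h1', mul_zero, mul_zero, add_zero]
  push Not at hEs
  have hET : E ≤ fixSub g := fun a ha => by
    rw [← hPT]
    intro b hb
    have h1 := hsplit b hb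
    have h := hEs (a + (b - (fo b w / fo w w) • w)) (add_mem ha h1)
    rw [C.add_left, C.add_right, C.add_right, hEs a ha, hEs _ h1, C.symm a (b - _), zero_add, add_zero,
      ← two_mul] at h
    have h' := (mul_eq_zero.mp h).resolve_left C.h2
    rw [C.sub_right, C.smul_right, hEw a ha, mul_zero, sub_zero] at h'
    exact h'
  -- the action on the middle
  obtain ⟨S, hS⟩ : ∃ S : (β → F) → β → F, ∀ x, S x = (fo w w)⁻¹ • pc fo w (g ⬝ₘ (tm w x)) := ⟨_, fun _ => rfl⟩
  have heps : ∀ x k, col (g ⬝ₘ (tm w x) - tm w (S x)) k ∈ E := fun x k => by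
    have h := hsplit _ (hcolP (tm w x) k)
    rw [col_sub, col_tm] at h
    rw [col_sub, col_tm, hS, Pi.smul_apply, smul_eq_mul]
    change col (g ⬝ₘ (tm w x)) k - ((fo w w)⁻¹ * fo (col (g ⬝ₘ (tm w x)) k) w) • w ∈ E
    rw [C.sub_left, C.smul_left] at h
    convert h using 1
    match_scalars <;> field_simp <;> ring
  have hgE : ∀ y, (∀ k, col y k ∈ E) → g ⬝ₘ y = y := fun y hy => hfixed y fun k => hET (hy k)
  have hpcE : ∀ y : α × β → F, (∀ k, col y k ∈ E) → pc fo w y = 0 := fun y hy => funext fun k => hEw _ (hy k)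
  have hgdec : ∀ x, g ⬝ₘ (tm w x) = tm w (S x) + (g ⬝ₘ (tm w x) - tm w (S x)) := fun x => by abel
  rcases C.sign2 h2 (S := S)
      (fun a b => by rw [hS, hS, hS, tm_add_right, Matrix.mulVec_add, C.pc_add, smul_add])
      (fun c a => by rw [hS, hS, tm_smul_right, Matrix.mulVec_smul, C.pc_smul, smul_comm])
      (fun a b => by
        have e := C.iso g H.gmem (tm w a) (tm w b)
        rw [hgdec a, hgdec b, (tf_semi C.data).add_left, (tf_semi C.data).add_right, (tf_semi C.data).add_right,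
          C.tau, C.tau, C.swap_tau (g ⬝ₘ (tm w b) - tm w (S b)) (tm w (S a)), C.tau_pc, C.tau_pc,
          hpcE _ (heps b), hpcE _ (heps a), C.s.refl.zero_left, C.s.refl.zero_left] at e
        have e0 : τ (g ⬝ₘ (tm w a) - tm w (S a)) (g ⬝ₘ (tm w b) - tm w (S b)) = 0 := by
          conv_lhs => rw [sum_cols (g ⬝ₘ (tm w b) - tm w (S b))]
          rw [show ∀ (v : α × β → F) (s : β → α × β → F), τ v (∑ i, s i) = ∑ i, τ v (s i) from fun v s =>
            map_sum (AddMonoidHom.mk' (fun x => τ v x) ((tf_semi C.data).add_right v)) s Finset.univ]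
          refine Finset.sum_eq_zero fun k _ => ?_
          rw [C.tau_pc, show pc fo (col (g ⬝ₘ (tm w b) - tm w (S b)) k) (g ⬝ₘ (tm w a) - tm w (S a)) = 0 from
            funext fun l => by
              have : col (g ⬝ₘ (tm w b) - tm w (S b)) k ∈ C.o.perp P := hPT ▸ hET (heps b k)
              rw [pc, C.symm]
              exact this _ (hEP (heps a l)), C.s.refl.zero_left]
        rw [e0] at e
        exact mul_left_cancel₀ hww (by linear_combination e))
      (fun x => by
        have e : tm w x = g ⬝ₘ (g ⬝ₘ (tm w x)) := by rw [← gl_mul_mulVec, H.inv, Units.val_one, Matrix.one_mulVec]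
        conv_rhs at e => rw [hgdec x, Matrix.mulVec_add, hgE _ (heps x), hgdec (S x)]
        have e2 := congrArg (pc fo w) e
        rw [C.pc_add, C.pc_add, hpcE _ (heps x), hpcE _ (heps (S x)), add_zero, add_zero, C.pc_tm, C.pc_tm] at e2
        exact (smul_right_injective _ hww e2).symm) with hpos | hneg
  · refine Or.inl (hone fun y => hgE _ fun k => ?_)
    obtain ⟨d, hd⟩ : ∃ d, d = g ⬝ₘ y - y := ⟨_, rfl⟩
    obtain ⟨c, hc⟩ : ∃ c, c = (fo w w)⁻¹ • pc fo w d := ⟨_, rfl⟩
    have hdc : ∀ k, col (d - tm w c) k ∈ E := fun k => by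
      rw [col_sub, col_tm, hc, Pi.smul_apply, smul_eq_mul, pc, ← div_eq_inv_mul]
      exact hsplit _ (hd ▸ hcolP y k)
    have e : g ⬝ₘ d = -d := by
      rw [hd, Matrix.mulVec_sub, ← gl_mul_mulVec, H.inv, Units.val_one, Matrix.one_mulVec, neg_sub]
    have e2 : g ⬝ₘ d = d + (g ⬝ₘ (tm w c) - tm w (S c)) := by
      conv_lhs => rw [show d = tm w c + (d - tm w c) by abel, Matrix.mulVec_add, hgE _ hdc, hgdec c]
      rw [hpos]
      abel
    have e3 : (2 : F) • d = -(g ⬝ₘ (tm w c) - tm w (S c)) := by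
      rw [e] at e2
      linear_combination (norm := module) -e2
    have hdE : col ((2 : F) • d) k ∈ E := by
      rw [e3, show col (-(g ⬝ₘ (tm w c) - tm w (S c))) k = -col (g ⬝ₘ (tm w c) - tm w (S c)) k from rfl]
      exact E.neg_mem (heps c k)
    rw [col_smul] at hdE
    have := E.smul_mem (2 : F)⁻¹ hdE
    rwa [smul_smul, inv_mul_cancel₀ C.h2, one_smul, hd] at this
  -- the negated case is a reflection up to the radical
  obtain ⟨r, hr, -, hriso⟩ := C.exists_rf hww
  have hrr : r * r = 1 := gl_ext_mulVec fun a => by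
    rw [gl_mul_mulVec, hr a, Matrix.mulVec_sub, Matrix.mulVec_smul, hr, hr w, Units.val_one, Matrix.one_mulVec]
    match_scalars <;> field_simp <;> ring
  obtain ⟨i⟩ : Nonempty β := Fintype.card_pos_iff.mp (by omega)
  obtain ⟨o, ho⟩ : ∃ o : β → F, o ≠ 0 := ⟨Pi.single i 1, by simp⟩
  obtain ⟨t, -, htiso, hR⟩ := exists_rt (α := α) C.data (o := o) (c := (1 : F)) (C.s.alt o) (by rw [map_one]; ring)
  let G : Subgroup (GL (α × β) F) :=
    { carrier := {h | h ∈ X ∧ (∀ a ∈ fixSub g, ∀ x, h ⬝ₘ (tm a x) = tm a x) ∧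
        ∀ x k, col (h ⬝ₘ (tm w x) - tm w x) k ∈ E}
      mul_mem' := fun {a b} ha hb => ⟨mul_mem ha.1 hb.1,
        fun c hc x => by rw [gl_mul_mulVec, hb.2.1 c hc, ha.2.1 c hc], fun x k => by
        have e : a ⬝ₘ (b ⬝ₘ (tm w x) - tm w x) = b ⬝ₘ (tm w x) - tm w x := by
          conv_lhs => rw [sum_cols (b ⬝ₘ (tm w x) - tm w x), Matrix.mulVec_sum]
          conv_rhs => rw [sum_cols (b ⬝ₘ (tm w x) - tm w x)]
          exact Finset.sum_congr rfl fun l _ => ha.2.1 _ (hET (hb.2.2 x l)) _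
        rw [gl_mul_mulVec, show a ⬝ₘ (b ⬝ₘ (tm w x)) - tm w x =
          (b ⬝ₘ (tm w x) - tm w x) + (a ⬝ₘ (tm w x) - tm w x) by
            rw [Matrix.mulVec_sub] at e; linear_combination (norm := module) e, col_add]
        exact add_mem (hb.2.2 x k) (ha.2.2 x k)⟩
      one_mem' := ⟨one_mem X, fun a _ x => by simp, fun x k => by
        rw [Units.val_one, Matrix.one_mulVec, sub_self]; exact E.zero_mem⟩
      inv_mem' := fun {a} ha => by
        have h1 : ∀ c ∈ fixSub g, ∀ x, a⁻¹ ⬝ₘ (tm c x) = tm c x := fun c hc x => by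
          conv_lhs => rw [← ha.2.1 c hc x, gl_inv_mulVec_cancel]
        refine ⟨inv_mem ha.1, h1, fun x k => ?_⟩
        have e : a⁻¹ ⬝ₘ (a ⬝ₘ (tm w x) - tm w x) = a ⬝ₘ (tm w x) - tm w x := by
          conv_lhs => rw [sum_cols (a ⬝ₘ (tm w x) - tm w x), Matrix.mulVec_sum]
          conv_rhs => rw [sum_cols (a ⬝ₘ (tm w x) - tm w x)]
          exact Finset.sum_congr rfl fun l _ => h1 _ (hET (ha.2.2 x l)) _
        rw [Matrix.mulVec_sub, gl_inv_mulVec_cancel] at e
        rw [show a⁻¹ ⬝ₘ (tm w x) - tm w x = -(a ⬝ₘ (tm w x) - tm w x) by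
          linear_combination (norm := module) -e]
        exact E.neg_mem (ha.2.2 x k) }
  have hGK : G ≤ Kr α β F := by
    refine unip_le C (fun h4 => Or.inr (hab h4)) (fun h hh => hh.1) ?_ (z := kr (1 : GL α F) t) ⟨o, 1, ho, one_ne_zero, hR⟩ ?_
    · rintro h ⟨hhX, hfixT, hmid⟩ y
      obtain ⟨d, hd⟩ : ∃ d, d = h ⬝ₘ y - y := ⟨_, rfl⟩
      have hdP : ∀ k, col d k ∈ P := fun k => by
        rw [hP]
        intro a ha
        have e : pc fo a d = 0 := C.sext fun x => by
          rw [← C.tau_pc, hd, sub_eq_add_neg, (tf_semi C.data).add_left, (reflex C.data).neg_left,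
            C.s.refl.zero_left]
          conv_lhs => enter [1]; rw [← hfixT a ha x, C.iso h hhX]
          exact add_neg_cancel _
        exact congrFun e k
      obtain ⟨c, hc⟩ : ∃ c, c = (fo w w)⁻¹ • pc fo w d := ⟨_, rfl⟩
      have hdc : ∀ k, col (d - tm w c) k ∈ E := fun k => by
        rw [col_sub, col_tm, hc, Pi.smul_apply, smul_eq_mul, pc, ← div_eq_inv_mul]
        exact hsplit _ (hdP k)
      have hfE : ∀ z, (∀ k, col z k ∈ E) → h ⬝ₘ z = z := fun z hz => by
        conv_lhs => rw [sum_cols z, Matrix.mulVec_sum]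
        conv_rhs => rw [sum_cols z]
        exact Finset.sum_congr rfl fun k _ => hfixT _ (hET (hz k)) _
      rw [← hd, show h ⬝ₘ d - d = h ⬝ₘ (tm w c) - tm w c by
        conv_lhs => rw [show d = tm w c + (d - tm w c) by abel, Matrix.mulVec_add, hfE _ hdc]
        abel]
      exact hfE _ (hmid c)
    · rintro h ⟨hhX, hfixT, hmid⟩
      refine ⟨mul_mem (mul_mem (C.right_mem htiso) hhX) (inv_mem (C.right_mem htiso)), fun a ha x => ?_, fun x k => ?_⟩
      · rw [gl_mul_mulVec, gl_mul_mulVec, kr_inv, kr_tm, inv_one, Units.val_one, Matrix.one_mulVec, hfixT a ha, kr_tm,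
          Units.val_one, Matrix.one_mulVec, gl_mulVec_inv_cancel]
      · rw [gl_mul_mulVec, gl_mul_mulVec, kr_inv, kr_tm, inv_one, Units.val_one, Matrix.one_mulVec]
        have e : tm w x = (kr (1 : GL α F) t) ⬝ₘ (tm w (((t⁻¹ : GL β F) : Matrix β β F) *ᵥ x)) := by
          rw [kr_tm, Units.val_one, Matrix.one_mulVec, gl_mulVec_inv_cancel]
        conv => enter [2, 1, 2]; rw [e]
        rw [← Matrix.mulVec_sub]
        exact kr_one_right_col t _ k (hmid _)
  obtain ⟨r', t', hrt⟩ := hGK (show g * kr r (1 : GL β F) ∈ G from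
    ⟨mul_mem H.gmem (C.left_mem hriso), fun a ha x => by
      rw [gl_mul_mulVec, kr_tm, hr, C.symm w a, (hP ▸ hw : w ∈ C.o.perp (fixSub g)) a ha, mul_zero, zero_div,
        zero_smul, sub_zero, Units.val_one, Matrix.one_mulVec]
      exact ha x, fun x k => by
      rw [gl_mul_mulVec, kr_tm, hr, Units.val_one, Matrix.one_mulVec, mul_div_assoc, div_self hww, mul_one,
        show w - (2 : F) • w = -w by module, ← neg_one_smul F w, tm_smul_left, neg_one_smul, Matrix.mulVec_neg]
      have := E.neg_mem (heps x k)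
      rw [hneg, ← neg_one_smul F x, tm_smul_right, neg_one_smul] at this
      convert this using 1
      funext i
      simp only [col, Pi.sub_apply, Pi.neg_apply]
      ring⟩)
  have h3 := C.dim
  obtain ⟨a, ha, ha0⟩ := Submodule.exists_mem_ne_zero_of_ne_bot (p := fixSub g) fun e => by
    rw [e, finrank_bot] at hT; omega
  have hfa : ∀ x, tm ((r' : Matrix α α F) *ᵥ a) ((t' : Matrix β β F) *ᵥ x) = tm a x := fun x => by
    rw [← kr_tm, ← hrt, gl_mul_mulVec, kr_tm, hr, C.symm w a, (hP ▸ hw : w ∈ C.o.perp (fixSub g)) a ha, mul_zero,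
      zero_div, zero_smul, sub_zero, Units.val_one, Matrix.one_mulVec]
    exact ha x
  obtain ⟨s, hs⟩ : ∃ s : F, (t' : Matrix β β F) = s • 1 := by
    by_contra hns
    push Not at hns
    obtain ⟨b, hb⟩ := exists_not_eigen C.s hns
    have hb0 : b ≠ 0 := fun e => hb (by rw [e, Matrix.mulVec_zero]; exact zero_mem _)
    obtain ⟨c, -, -, hc⟩ := tm_inj (hfa b).symm ha0 hb0
    exact hb (Submodule.mem_span_singleton.mpr ⟨c, hc.symm⟩)
  have hs0 : s ≠ 0 := fun e => ha0 ((tm_eq_zero (b := o) (by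
    rw [← hfa o, hs, e, zero_smul, Matrix.zero_mulVec, tm_zero_right])).resolve_right ho)
  obtain ⟨r'', hr''⟩ : ∃ r'' : GL α F, (r'' : Matrix α α F) = s • (r' : Matrix α α F) :=
    ⟨⟨s • (r' : Matrix α α F), s⁻¹ • ((r'⁻¹ : GL α F) : Matrix α α F),
      by simp [Matrix.smul_mul, Matrix.mul_smul, smul_smul, hs0],
      by simp [Matrix.smul_mul, Matrix.mul_smul, smul_smul, hs0]⟩, rfl⟩
  refine Or.inl ⟨r'' * r, ?_⟩
  have e1 : g * kr r (1 : GL β F) = kr r'' 1 := by
    rw [hrt]
    refine Units.ext ?_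
    rw [kr_val, kr_val, hs, hr'', Matrix.smul_kronecker, Matrix.kronecker_smul, Units.val_one]
  calc g = g * kr r (1 : GL β F) * kr r 1 := by
        rw [mul_assoc, show kr r (1 : GL β F) * kr r 1 = kr (r * r) (1 * 1) from kr_mul r r 1 1, hrr, mul_one, kr_one,
          mul_one]
    _ = kr (r'' * r) 1 := by
        rw [e1, show kr r'' (1 : GL β F) * kr r 1 = kr (r'' * r) (1 * 1) from kr_mul r'' r 1 1, mul_one]

end Cfsg.Agent.Classical.TensorMax.SpO
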