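/-
Two times three: a conjugate of a reflection without fixed fibre has a constant quadratic invariant.
-/
import Cfsg.Agent.Lib.Classical.TensorMax.SpO.TwoInvol

set_option autoImplicit false
set_option linter.unusedSectionVars false

namespace Cfsg.Agent.Classical.TensorMax.SpO

open Matrix Module Cfsg.Geo
open Cfsg.Agent.Classical Cfsg.Agent.Classical.TensorMax Cfsg.Agent.Classical.TensorMax.Form

variable {α β : Type} [Fintype α] [DecidableEq α] [Fintype β] [DecidableEq β] {F : Type*} [Field F]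
variable {fo : (α → F) → (α → F) → F} {fs : (β → F) → (β → F) → F} {X : Subgroup (GL (α × β) F)}

local notation:max g:max " ⬝ₘ " x:max => ((g : GL (α × β) F) : Matrix (α × β) (α × β) F) *ᵥ x
local notation "τ" => tf (RingEquiv.refl F) fo fs

variable (C : Ctx fo fs X)

include C

theorem Ctx.perp3 {a b c : α → F} (h : LinearIndependent F ![a, b, c]) :
    ∃ U : Submodule F (α → F), finrank F U + 3 = Fintype.card α ∧
      ∀ d, d ∈ U ↔ fo d a = 0 ∧ fo d b = 0 ∧ fo d c = 0 := by
  refine ⟨C.o.perp (Submodule.span F (Set.range ![a, b, c])), ?_, fun d => ⟨fun hd => ?_, fun hd x hx => ?_⟩⟩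
  · have e1 := finrank_span_eq_card h
    have e2 := C.o.finrank_perp (Submodule.span F (Set.range ![a, b, c]))
    rw [Fintype.card_fin] at e1
    omega
  · exact ⟨hd a (Submodule.subset_span ⟨0, rfl⟩), hd b (Submodule.subset_span ⟨1, rfl⟩),
      hd c (Submodule.subset_span ⟨2, rfl⟩)⟩
  · induction hx using Submodule.span_induction with
    | mem y hy =>
      obtain ⟨i, rfl⟩ := hy
      fin_cases i
      · exact hd.1
      · exact hd.2.1
      · exact hd.2.2
    | zero => rw [C.symm, C.o.zero_left]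
    | add p q _ _ hp hq => rw [C.add_right, hp, hq, add_zero]
    | smul r p _ hp => rw [C.smul_right, hp, mul_zero]

theorem Ctx.perp_triv3 (h3 : Fintype.card α = 3) {a b c : α → F} (h : LinearIndependent F ![a, b, c]) {d : α → F}
    (ha : fo d a = 0) (hb : fo d b = 0) (hc : fo d c = 0) : d = 0 := by
  obtain ⟨U, hU, hmem⟩ := C.perp3 h
  have h0 : U = ⊥ := Submodule.finrank_eq_zero.mp (by omega)
  exact (Submodule.mem_bot F).mp (h0 ▸ (hmem d).mpr ⟨ha, hb, hc⟩)

/-- Two orthogonal singular vectors in dimension three are proportional. -/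
theorem Ctx.sing_prop (h3 : Fintype.card α = 3) {e f : α → F} (he : e ≠ 0) (hee : fo e e = 0) (hff : fo f f = 0)
    (hef : fo e f = 0) : ∃ s : F, f = s • e := by
  by_contra hcon
  push Not at hcon
  have hli : LinearIndependent F ![e, f] := LinearIndependent.pair_iff.mpr fun s t h => by
    have ht : t = 0 := by
      by_contra ht
      refine hcon (-(s / t)) ?_
      have : f = t⁻¹ • (t • f) := by rw [smul_smul, inv_mul_cancel₀ ht, one_smul]
      rw [this, show t • f = -(s • e) from eq_neg_of_add_eq_zero_right h]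
      match_scalars
      field_simp
    rw [ht, zero_smul, add_zero] at h
    exact ⟨(smul_eq_zero.mp h).resolve_right he, ht⟩
  have e1 := finrank_span_eq_card hli
  have hle : Submodule.span F (Set.range ![e, f]) ≤ C.o.perp (Submodule.span F (Set.range ![e, f])) := by
    rw [Submodule.span_le]
    rintro x ⟨i, rfl⟩ y hy
    induction hy using Submodule.span_induction with
    | mem z hz =>
      obtain ⟨j, rfl⟩ := hz
      fin_cases i <;> fin_cases j
      · exact hee
      · exact hef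
      · change fo f e = 0
        rw [C.symm, hef]
      · exact hff
    | zero => rw [C.symm, C.o.zero_left]
    | add p q _ _ hp hq => rw [C.add_right, hp, hq, add_zero]
    | smul r p _ hp => rw [C.smul_right, hp, mul_zero]
  have e2 := C.o.finrank_perp (Submodule.span F (Set.range ![e, f]))
  have := Submodule.finrank_mono hle
  rw [Fintype.card_fin] at e1
  omega

theorem Conj.fixed_of {g k : GL (α × β) F} {u : α → F} (H : Conj fo fs X g k u) {t : α → F} {o : β → F}
    (h : ∀ w, fs o (pc fo t (k ⬝ₘ (tm u w))) = 0) : g ⬝ₘ (tm t o) = tm t o :=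
  H.fix _ fun w => by rw [C.swap_tau (k ⬝ₘ (tm u w)), C.tau_pc, C.s.swap o, h, neg_zero, neg_zero]

theorem Conj.pc_zero {g k : GL (α × β) F} {u : α → F} (H : Conj fo fs X g k u) {t : α → F}
    (ht : t ∈ fixSub g) (w : β → F) : pc fo t (k ⬝ₘ (tm u w)) = 0 := C.sext fun x => by
  rw [← C.tau_pc, C.swap_tau (tm t x), H.orth C (ht x), neg_zero, C.s.refl.zero_left]

/-- Without fixed fibre the invariant is a third of the form. -/
theorem exotic [Finite F] (h2 : Fintype.card β = 2) (h3 : Fintype.card α = 3) {g k : GL (α × β) F} {u : α → F}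
    (H : Conj fo fs X g k u) (h0 : ∀ t ∈ fixSub g, t = 0) {o o' : β → F} (ho' : fs o' o = 1) (t : α → F) :
    3 * fs (pc fo t (k ⬝ₘ (tm u o'))) (pc fo t (k ⬝ₘ (tm u o))) = fo u u * fo t t := by
  classical
  have hab : Fintype.card α = 4 → Aniso fo := fun e => absurd e (by omega)
  have ho : o ≠ 0 := fun e => one_ne_zero (α := F) (by rw [← ho', e, C.s.refl.zero_right])
  have ho'0 : o' ≠ 0 := fun e => one_ne_zero (α := F) (by rw [← ho', e, C.s.refl.zero_left])
  obtain ⟨A, hA⟩ : ∃ A : (α → F) → (β → F) → β → F, ∀ a w, A a w = pc fo a (k ⬝ₘ (tm u w)) :=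
    ⟨_, fun _ _ => rfl⟩
  obtain ⟨D, hD⟩ : ∃ D : (α → F) → F, ∀ a, D a = fs (A a o') (A a o) := ⟨_, fun _ => rfl⟩
  rw [← hA, ← hA, ← hD]
  have hsing : ∀ {a : α → F} {c : β → F}, a ≠ 0 → c ≠ 0 → g ⬝ₘ (tm a c) = tm a c → fo a a = 0 :=
    fun {a c} ha hc hx => by_contra fun haa => ha (h0 a (fix_whole C h2 hab H.gmem H.inv haa hc hx))
  have hpts : ∀ c : β → F, c ≠ 0 → ∃ a, a ≠ 0 ∧ g ⬝ₘ (tm a c) = tm a c := fun c hc => by
    obtain ⟨U, hU, hdim⟩ := H.exists_fixed C h2 c
    obtain ⟨a, ha, ha0⟩ := Submodule.exists_mem_ne_zero_of_ne_bot (p := U) fun e => by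
      rw [e, finrank_bot] at hdim; omega
    exact ⟨a, ha0, hU a ha⟩
  have htwo : ∀ {a : α → F} {c c' : β → F}, a ≠ 0 → c ≠ 0 → fs c' c ≠ 0 → g ⬝ₘ (tm a c) = tm a c →
      g ⬝ₘ (tm a c') = tm a c' → False := fun {a c c'} ha hc hcc h1 h1' => by
    refine ha (h0 a fun w => ?_)
    have hp : fs ((fs c' c)⁻¹ • c') c = 1 := by
      rw [C.s.refl.semi.smul_left]; exact inv_mul_cancel₀ hcc
    rw [C.expand2 h2 hp w, tm_sub_right, tm_smul_right, tm_smul_right, tm_smul_right, Matrix.mulVec_sub,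
      Matrix.mulVec_smul, Matrix.mulVec_smul, Matrix.mulVec_smul, h1, h1']
  have hD0 : ∀ {a : α → F} {c : β → F}, c ≠ 0 → g ⬝ₘ (tm a c) = tm a c → D a = 0 := fun {a c} hc hx => by
    have hline : ∀ w, ∃ s : F, A a w = s • c := fun w => C.perp2 h2 hc (by
      rw [hA, ← C.tau_pc, C.swap_tau (tm a c), H.orth C hx, neg_zero])
    obtain ⟨s, hs⟩ := hline o'
    obtain ⟨s', hs'⟩ := hline o
    rw [hD, hs, hs', C.s.smul_right, C.s.refl.semi.smul_left, C.s.alt, mul_zero, mul_zero]
  obtain ⟨e, he, hge⟩ := hpts o ho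
  obtain ⟨f₀, hf₀, hgf₀⟩ := hpts o' ho'0
  have hne : fs o' o ≠ 0 := ho' ▸ one_ne_zero
  have hef₀ : fo e f₀ ≠ 0 := fun h => by
    obtain ⟨s, rfl⟩ := C.sing_prop h3 he (hsing he ho hge) (hsing hf₀ ho'0 hgf₀) h
    have hs : s ≠ 0 := fun e0 => hf₀ (by rw [e0, zero_smul])
    refine htwo he ho hne hge ?_
    rw [tm_smul_left, Matrix.mulVec_smul] at hgf₀
    exact smul_right_injective _ hs hgf₀
  obtain ⟨f, hf⟩ : ∃ f, f = (fo e f₀)⁻¹ • f₀ := ⟨_, rfl⟩
  have hgf : g ⬝ₘ (tm f o') = tm f o' := by rw [hf, tm_smul_left, Matrix.mulVec_smul, hgf₀]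
  have hef : fo e f = 1 := by rw [hf, C.smul_right, inv_mul_cancel₀ hef₀]
  have hf0 : f ≠ 0 := fun h => one_ne_zero (α := F) (by rw [← hef, h, C.symm, C.o.zero_left])
  have hee := hsing he ho hge
  have hff := hsing hf0 ho'0 hgf
  obtain ⟨n, hne0, hne', hnf⟩ : ∃ n, n ≠ 0 ∧ fo n e = 0 ∧ fo n f = 0 := by
    have hd := C.o.finrank_perp (Submodule.span F {e, f})
    have h2' : finrank F (Submodule.span F ({e, f} : Set (α → F))) ≤ 2 := by
      have := finrank_span_finset_le_card (R := F) ({e, f} : Finset (α → F))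
      rw [Finset.coe_pair] at this
      exact this.trans Finset.card_le_two
    obtain ⟨d, hd1, hd0⟩ := Submodule.exists_mem_ne_zero_of_ne_bot
      (p := C.o.perp (Submodule.span F {e, f})) fun h => by rw [h, finrank_bot] at hd; omega
    exact ⟨d, hd0, hd1 e (Submodule.subset_span (by simp)), hd1 f (Submodule.subset_span (by simp))⟩
  have hnn : fo n n ≠ 0 := fun h => by
    obtain ⟨s, rfl⟩ := C.sing_prop h3 he hee h (by rw [C.symm]; exact hne')
    rw [C.smul_left, hef, mul_one] at hnf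
    exact hne0 (by rw [hnf, zero_smul])
  have hli : LinearIndependent F ![e, n, f] := by
    rw [Fintype.linearIndependent_iff]
    intro c hc
    simp only [Fin.sum_univ_three, Matrix.cons_val_zero, Matrix.cons_val_one, Matrix.cons_val] at hc
    have a1 := congrArg (fun z => fo z e) hc
    have a2 := congrArg (fun z => fo z n) hc
    have a3 := congrArg (fun z => fo z f) hc
    simp only [C.add_left, C.smul_left, C.o.zero_left, hee, hne', hnf, hff, C.symm e f, hef, C.symm n e,
      C.symm n f] at a1 a2 a3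
    intro i
    fin_cases i
    · change c 0 = 0; linear_combination a3
    · exact (mul_eq_zero.mp (show c 1 * fo n n = 0 by linear_combination a2)).resolve_right hnn
    · change c 2 = 0; linear_combination a1
  have hdec : ∀ a, a = fo a f • e + (fo a n / fo n n) • n + fo a e • f := fun a => by
    refine sub_eq_zero.mp (C.perp_triv3 h3 hli ?_ ?_ ?_) <;>
    · simp only [C.sub_left, C.add_left, C.smul_left, hee, hne', hnf, hff, hef, C.symm e f, C.symm n e, C.symm n f]
      field_simp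
      ring
  obtain ⟨Ben, hBen⟩ : ∃ B, B = fs (A e o') (A n o) + fs (A n o') (A e o) := ⟨_, rfl⟩
  obtain ⟨Bnf, hBnf⟩ : ∃ B, B = fs (A f o') (A n o) + fs (A n o') (A f o) := ⟨_, rfl⟩
  obtain ⟨Bef, hBef⟩ : ∃ B, B = fs (A e o') (A f o) + fs (A f o') (A e o) := ⟨_, rfl⟩
  have hDe := hD0 ho hge
  have hDf := hD0 ho'0 hgf
  have hquad : ∀ x y z : F,
      D (x • e + y • n + z • f) = y ^ 2 * D n + x * y * Ben + y * z * Bnf + x * z * Bef := fun x y z => by
    rw [hD] at hDe hDf
    simp only [hD, hA, C.pc_add_vec, C.pc_smul_vec] at hDe hDf hBen hBnf hBef ⊢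
    simp only [C.s.refl.semi.add_left, C.s.refl.semi.add_right, C.s.refl.semi.smul_left, C.s.smul_right,
      hBen, hBnf, hBef]
    linear_combination x ^ 2 * hDe + z ^ 2 * hDf
  -- three further singular lines
  obtain ⟨ρ, hρ⟩ : ∃ ρ, ρ = -fo n n / 2 := ⟨_, rfl⟩
  have hlam : ∀ l : F, l ≠ 0 → ∃ a c : F, a * c = ρ ∧
      g ⬝ₘ (tm (a • e + n + c • f) (o' + l • o)) = tm (a • e + n + c • f) (o' + l • o) := by
    intro l hl
    have hc0 : o' + l • o ≠ 0 := fun h => one_ne_zero (α := F) (by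
      have := congrArg (fun z => fs z o) h
      simp only [C.s.refl.semi.add_left, C.s.refl.semi.smul_left, C.s.alt, ho', C.s.refl.zero_left] at this
      linear_combination this)
    obtain ⟨d, hd, hgd⟩ := hpts _ hc0
    have hdd := hsing hd hc0 hgd
    obtain ⟨x, y, z, hxyz⟩ : ∃ x y z : F, d = x • e + y • n + z • f := ⟨_, _, _, hdec d⟩
    have hq : y ^ 2 * fo n n + 2 * (x * z) = 0 := by
      rw [hxyz] at hdd
      simp only [C.add_left, C.add_right, C.smul_left, C.smul_right, hee, hne', hnf, hff, hef, C.symm e f,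
        C.symm n e, C.symm n f] at hdd
      linear_combination hdd
    have hy : y ≠ 0 := fun hy => by
      subst hy
      rw [zero_smul, add_zero] at hxyz
      rcases mul_eq_zero.mp ((mul_eq_zero.mp (show (2 : F) * (x * z) = 0 by linear_combination hq)).resolve_left C.h2)
        with hx | hz
      · subst hx
        rw [zero_smul, zero_add] at hxyz
        have hz : z ≠ 0 := fun h => hd (by rw [hxyz, h, zero_smul])
        rw [hxyz, tm_smul_left, Matrix.mulVec_smul] at hgd
        have hne2 : fs (o' + l • o) o' ≠ 0 := by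
          rw [C.s.refl.semi.add_left, C.s.refl.semi.smul_left, C.s.alt, C.s.swap o' o, ho', zero_add]
          exact mul_ne_zero hl (neg_ne_zero.mpr one_ne_zero)
        exact htwo hf0 ho'0 hne2 hgf (smul_right_injective _ hz hgd)
      · subst hz
        rw [zero_smul, add_zero] at hxyz
        have hx : x ≠ 0 := fun h => hd (by rw [hxyz, h, zero_smul])
        rw [hxyz, tm_smul_left, Matrix.mulVec_smul] at hgd
        have hne2 : fs (o' + l • o) o ≠ 0 := by
          rw [C.s.refl.semi.add_left, C.s.refl.semi.smul_left, C.s.alt, mul_zero, add_zero, ho']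
          exact one_ne_zero
        exact htwo he ho hne2 hge (smul_right_injective _ hx hgd)
    refine ⟨x / y, z / y, ?_, ?_⟩
    · have := C.h2
      rw [hρ]; field_simp; linear_combination hq
    · rw [show (x / y) • e + n + (z / y) • f = y⁻¹ • d by rw [hxyz]; match_scalars <;> field_simp, tm_smul_left,
        Matrix.mulVec_smul, hgd]
  obtain ⟨l, hl0, hl2⟩ : ∃ l : F, l ≠ 0 ∧ l ^ 2 ≠ 1 := C.hex.resolve_right (by omega)
  have hroot : ∀ m : F, m ≠ 0 → ∀ a c : F, a * c = ρ →
      g ⬝ₘ (tm (a • e + n + c • f) (o' + m • o)) = tm (a • e + n + c • f) (o' + m • o) →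
      a ^ 2 * Ben + a * (D n + ρ * Bef) + ρ * Bnf = 0 := by
    intro m hm a c hac hx
    have e0 := hD0 (fun h => one_ne_zero (α := F) (by
      have := congrArg (fun z => fs z o) h
      simp only [C.s.refl.semi.add_left, C.s.refl.semi.smul_left, C.s.alt, ho', C.s.refl.zero_left] at this
      linear_combination this)) hx
    have := hquad a 1 c
    rw [one_smul, e0] at this
    linear_combination -a * this - (a * Bef + Bnf) * hac
  have hdist : ∀ m m' : F, m ≠ 0 → m ≠ m' → ∀ a c a' c' : F, a * c = ρ → a' * c' = ρ →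
      g ⬝ₘ (tm (a • e + n + c • f) (o' + m • o)) = tm (a • e + n + c • f) (o' + m • o) →
      g ⬝ₘ (tm (a' • e + n + c' • f) (o' + m' • o)) = tm (a' • e + n + c' • f) (o' + m' • o) → a ≠ a' := by
    intro m m' hm hmm a c a' c' hac hac' hx hx' heq
    subst heq
    have ha : a ≠ 0 := fun h => hnn (by
      rw [h, zero_mul] at hac
      have := (div_eq_zero_iff.mp (hρ ▸ hac.symm)).resolve_right C.h2
      exact neg_eq_zero.mp this)
    obtain rfl : c = c' := mul_left_cancel₀ ha (hac.trans hac'.symm)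
    refine htwo (a := a • e + n + c • f) ?_ (c := o' + m • o) (c' := o' + m' • o) ?_ ?_ hx hx'
    · intro h
      have := congrArg (fun z => fo z n) h
      simp only [C.add_left, C.smul_left, C.o.zero_left, C.symm n e, C.symm n f, hne', hnf] at this
      exact hnn (by linear_combination this)
    · intro h
      have := congrArg (fun z => fs z o) h
      simp only [C.s.refl.semi.add_left, C.s.refl.semi.smul_left, C.s.alt, ho', C.s.refl.zero_left] at this
      exact one_ne_zero (α := F) (by linear_combination this)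
    · simp only [C.s.refl.semi.add_left, C.s.refl.semi.add_right, C.s.refl.semi.smul_left, C.s.smul_right, C.s.alt,
        ho', C.s.swap o' o]
      intro h
      exact hmm (by linear_combination h)
  obtain ⟨a₁, c₁, hac₁, hx₁⟩ := hlam 1 one_ne_zero
  obtain ⟨a₂, c₂, hac₂, hx₂⟩ := hlam (-1) (neg_ne_zero.mpr one_ne_zero)
  obtain ⟨a₃, c₃, hac₃, hx₃⟩ := hlam l hl0
  have h11 : (1 : F) ≠ -1 := fun h => C.h2 (by linear_combination h)
  have d12 := hdist 1 (-1) one_ne_zero h11 _ _ _ _ hac₁ hac₂ hx₁ hx₂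
  have d13 := hdist 1 l one_ne_zero (fun h => hl2 (by rw [← h, one_pow])) _ _ _ _ hac₁ hac₃ hx₁ hx₃
  have d23 := hdist (-1) l (neg_ne_zero.mpr one_ne_zero) (fun h => hl2 (by rw [← h]; ring)) _ _ _ _ hac₂ hac₃ hx₂ hx₃
  have r1 := hroot 1 one_ne_zero _ _ hac₁ hx₁
  have r2 := hroot (-1) (neg_ne_zero.mpr one_ne_zero) _ _ hac₂ hx₂
  have r3 := hroot l hl0 _ _ hac₃ hx₃
  have s12 : (a₁ + a₂) * Ben + (D n + ρ * Bef) = 0 :=
    (mul_eq_zero.mp (show (a₁ - a₂) * ((a₁ + a₂) * Ben + (D n + ρ * Bef)) = 0 by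
      linear_combination r1 - r2)).resolve_left (sub_ne_zero.mpr d12)
  have s13 : (a₁ + a₃) * Ben + (D n + ρ * Bef) = 0 :=
    (mul_eq_zero.mp (show (a₁ - a₃) * ((a₁ + a₃) * Ben + (D n + ρ * Bef)) = 0 by
      linear_combination r1 - r3)).resolve_left (sub_ne_zero.mpr d13)
  have hBen0 : Ben = 0 :=
    (mul_eq_zero.mp (show (a₂ - a₃) * Ben = 0 by linear_combination s12 - s13)).resolve_left (sub_ne_zero.mpr d23)
  have hK : D n + ρ * Bef = 0 := by rw [hBen0, mul_zero, zero_add] at s12; exact s12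
  have hρ0 : ρ ≠ 0 := hρ ▸ div_ne_zero (neg_ne_zero.mpr hnn) C.h2
  have hBnf0 : Bnf = 0 :=
    (mul_eq_zero.mp (show ρ * Bnf = 0 by linear_combination r1 - a₁ ^ 2 * hBen0 - a₁ * hK)).resolve_left hρ0
  have hρ2 : 2 * ρ = -fo n n := by rw [hρ, mul_div_cancel₀ _ C.h2]
  -- the total is the norm of the negated space
  have hqu : 3 * Bef = 2 * fo u u := by
    have hY : ∀ Y : α × β → F,
        Y = tm e (pc fo f Y) + (fo n n)⁻¹ • tm n (pc fo n Y) + tm f (pc fo e Y) := fun Y => by
      funext p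
      have := congrFun (hdec (col Y p.2)) p.1
      simp only [Pi.add_apply, Pi.smul_apply, smul_eq_mul] at this
      simp only [Pi.add_apply, Pi.smul_apply, smul_eq_mul, tm_apply, pc]
      conv_lhs => rw [show Y p = col Y p.2 p.1 from rfl, this]
      ring
    have e1 := C.iso k H.kmem (tm u o') (tm u o)
    rw [C.tau, ho', mul_one, hY (k ⬝ₘ (tm u o')), (tf_semi C.data).add_left, (tf_semi C.data).add_left,
      (tf_semi C.data).smul_left, C.swap_tau (k ⬝ₘ (tm u o)), C.swap_tau (k ⬝ₘ (tm u o)) (tm n _),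
      C.swap_tau (k ⬝ₘ (tm u o)) (tm f _), C.tau_pc, C.tau_pc, C.tau_pc, ← hA, ← hA, ← hA, ← hA, ← hA, ← hA,
      ← C.s.swap, ← C.s.swap, ← C.s.swap, ← hD n] at e1
    have e2 : (fo n n)⁻¹ * fo n n = 1 := inv_mul_cancel₀ hnn
    linear_combination 2 * e1 + 2 * hBef - 2 * (fo n n)⁻¹ * hK + (fo n n)⁻¹ * Bef * hρ2 - Bef * e2
  obtain ⟨x, y, z, hxyz⟩ : ∃ x y z : F, t = x • e + y • n + z • f := ⟨_, _, _, hdec t⟩
  have htt : fo t t = y ^ 2 * fo n n + 2 * (x * z) := by
    rw [hxyz]
    simp only [C.add_left, C.add_right, C.smul_left, C.smul_right, hee, hne', hnf, hff, hef, C.symm e f,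
      C.symm n e, C.symm n f]
    ring
  rw [htt, hxyz, hquad, hBen0, hBnf0]
  refine mul_left_cancel₀ C.h2 ?_
  linear_combination 6 * y ^ 2 * hK + (2 * x * z + y ^ 2 * fo n n) * hqu + (-3) * y ^ 2 * Bef * hρ2

end Cfsg.Agent.Classical.TensorMax.SpO
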