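/-
A symplectic factor of dimension two: elements moving only the fibres over a plane.
-/
import Cfsg.Agent.Lib.Classical.TensorMax.SpO.TwoExotic

set_option autoImplicit false
set_option linter.unusedSectionVars false

namespace Cfsg.Agent.Classical.TensorMax.SpO

open Matrix Module Cfsg.Geo
open Cfsg.Agent.Classical Cfsg.Agent.Classical.TensorMax Cfsg.Agent.Classical.TensorMax.Form

variable {α β : Type} [Fintype α] [DecidableEq α] [Fintype β] [DecidableEq β] {F : Type*} [Field F]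
variable {fo : (α → F) → (α → F) → F} {fs : (β → F) → (β → F) → F} {X : Subgroup (GL (α × β) F)}

local notation:max g:max " ⬝ₘ " x:max => ((g : GL (α × β) F) : Matrix (α × β) (α × β) F) *ᵥ x
local notation "τ" => tf (RingEquiv.refl F) fo fs

variable (C : Ctx fo fs X)

include C

theorem Ctx.linIndep_orth {m : ℕ} {s : Fin m → α → F} (hq : ∀ i, fo (s i) (s i) ≠ 0)
    (ho : ∀ i j, i ≠ j → fo (s i) (s j) = 0) : LinearIndependent F s := by
  rw [Fintype.linearIndependent_iff]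
  intro c hc i
  have h := congrArg (fun z => fo z (s i)) hc
  simp only [C.o.zero_left] at h
  rw [show fo (∑ j, c j • s j) (s i) = ∑ j, fo (c j • s j) (s i) from
    map_sum (AddMonoidHom.mk' (fun x => fo x (s i)) fun a b => C.add_left a b (s i)) _ Finset.univ,
    Finset.sum_eq_single i (fun j _ hj => by rw [C.smul_left, ho j i hj, mul_zero]) (by simp), C.smul_left] at h
  exact (mul_eq_zero.mp h).resolve_right (hq i)

/-- An orthogonal family smaller than a basis extends. -/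
theorem Ctx.exists_orth {m : ℕ} (s : Fin m → α → F) (hq : ∀ i, fo (s i) (s i) ≠ 0)
    (ho : ∀ i j, i ≠ j → fo (s i) (s j) = 0) (hm : m < Fintype.card α) :
    ∃ v, fo v v ≠ 0 ∧ ∀ i, fo v (s i) = 0 := by
  classical
  by_contra hcon
  push Not at hcon
  have e1 := finrank_span_eq_card (C.linIndep_orth hq ho)
  have e2 := C.o.finrank_perp (Submodule.span F (Set.range s))
  rw [Fintype.card_fin] at e1
  obtain ⟨d, hd, hd0⟩ := Submodule.exists_mem_ne_zero_of_ne_bot (p := C.o.perp (Submodule.span F (Set.range s)))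
    fun e => by rw [e, finrank_bot] at e2; omega
  have hds : ∀ i, fo d (s i) = 0 := fun i => hd _ (Submodule.subset_span ⟨i, rfl⟩)
  have hzero : ∀ z, (∀ i, fo z (s i) = 0) → fo z z = 0 := fun z hz => by
    by_contra h
    obtain ⟨i, hi⟩ := hcon z h
    exact hi (hz i)
  obtain ⟨z, hz⟩ := (C.o.nondeg d hd0).2
  obtain ⟨z', hz'⟩ : ∃ z', z' = z - ∑ j, (fo z (s j) / fo (s j) (s j)) • s j := ⟨_, rfl⟩
  have hz's : ∀ i, fo z' (s i) = 0 := fun i => by
    rw [hz', C.sub_left, show fo (∑ j, (fo z (s j) / fo (s j) (s j)) • s j) (s i) =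
      ∑ j, fo ((fo z (s j) / fo (s j) (s j)) • s j) (s i) from
      map_sum (AddMonoidHom.mk' (fun x => fo x (s i)) fun a b => C.add_left a b (s i)) _ Finset.univ,
      Finset.sum_eq_single i (fun j _ hj => by rw [C.smul_left, ho j i hj, mul_zero]) (by simp), C.smul_left,
      div_mul_cancel₀ _ (hq i), sub_self]
  have hdz : fo d z' = fo d z := by
    rw [hz', C.sub_right, show fo d (∑ j, (fo z (s j) / fo (s j) (s j)) • s j) =
      ∑ j, fo d ((fo z (s j) / fo (s j) (s j)) • s j) from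
      map_sum (AddMonoidHom.mk' (fun x => fo d x) fun a b => C.add_right d a b) _ Finset.univ,
      Finset.sum_eq_zero (fun j _ => by rw [C.smul_right, hds, mul_zero]), sub_zero]
  have h := hzero (d + z') fun i => by rw [C.add_left, hds, hz's, add_zero]
  rw [C.add_left, C.add_right, C.add_right, hzero d hds, hzero z' hz's, C.symm d z', hdz, zero_add, add_zero,
    ← two_mul] at h
  exact hz ((mul_eq_zero.mp h).resolve_left C.h2)

/-- A binary form takes every value. -/
theorem Ctx.exists_norm [Finite F] {a b : α → F} (ha : fo a a ≠ 0) (hb : fo b b ≠ 0) (hab : fo a b = 0) (c : F) :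
    ∃ x y : F, fo (x • a + y • b) (x • a + y • b) = c := by
  classical
  haveI := Fintype.ofFinite F
  have hchar : ringChar F ≠ 2 := fun h => C.h2 (by rw [← Nat.cast_two, ← h]; exact ringChar.Nat.cast_ringChar)
  have hodd : Fintype.card F % 2 = 1 := FiniteField.odd_card_of_char_ne_two hchar
  obtain ⟨x, y, hxy⟩ := FiniteField.exists_root_sum_quadratic
    (f := Polynomial.C (fo a a) * Polynomial.X ^ 2)
    (g := Polynomial.C (fo b b) * Polynomial.X ^ 2 + Polynomial.C (-c))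
    (Polynomial.degree_C_mul_X_pow 2 ha)
    (by rw [Polynomial.degree_add_C (by rw [Polynomial.degree_C_mul_X_pow 2 hb]; norm_num)]
        exact Polynomial.degree_C_mul_X_pow 2 hb) hodd
  simp only [Polynomial.eval_mul, Polynomial.eval_C, Polynomial.eval_pow, Polynomial.eval_X, Polynomial.eval_add]
    at hxy
  refine ⟨x, y, ?_⟩
  simp only [C.add_left, C.add_right, C.smul_left, C.smul_right, hab, C.symm a b]
  linear_combination hxy

/-- In a non-degenerate plane the orthogonal of a vector is a line. -/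
theorem Ctx.line2 {p₁ p₂ : α → F} (h1 : fo p₁ p₁ ≠ 0) (h2 : fo p₂ p₂ ≠ 0) (h12 : fo p₁ p₂ = 0)
    {p w z : α → F} (hp : p ∈ Submodule.span F {p₁, p₂}) (hp0 : p ≠ 0) (hw : w ∈ Submodule.span F {p₁, p₂})
    (hw0 : w ≠ 0) (hz : z ∈ Submodule.span F {p₁, p₂}) (hpw : fo p w = 0) (hpz : fo p z = 0) :
    ∃ l : F, z = l • w := by
  obtain ⟨s, t, rfl⟩ := Submodule.mem_span_pair.mp hp
  obtain ⟨w₁, w₂, rfl⟩ := Submodule.mem_span_pair.mp hw
  obtain ⟨z₁, z₂, rfl⟩ := Submodule.mem_span_pair.mp hz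
  simp only [C.add_left, C.add_right, C.smul_left, C.smul_right, h12, C.symm p₁ p₂] at hpw hpz
  have hdet : w₁ * z₂ = w₂ * z₁ := by
    by_contra hne
    have hd : w₁ * z₂ - w₂ * z₁ ≠ 0 := sub_ne_zero.mpr hne
    have hs : s = 0 := (mul_eq_zero.mp (show (s * fo p₁ p₁) * (w₁ * z₂ - w₂ * z₁) = 0 by
      linear_combination z₂ * hpw - w₂ * hpz)).resolve_right hd |> mul_eq_zero.mp |>.resolve_right h1
    have ht : t = 0 := (mul_eq_zero.mp (show (t * fo p₂ p₂) * (w₁ * z₂ - w₂ * z₁) = 0 by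
      linear_combination w₁ * hpz - z₁ * hpw)).resolve_right hd |> mul_eq_zero.mp |>.resolve_right h2
    exact hp0 (by rw [hs, ht, zero_smul, zero_smul, add_zero])
  by_cases hw1 : w₁ = 0
  · have hw2 : w₂ ≠ 0 := fun h => hw0 (by rw [hw1, h, zero_smul, zero_smul, add_zero])
    have hz1 : z₁ = 0 := (mul_eq_zero.mp (show w₂ * z₁ = 0 by rw [← hdet, hw1, zero_mul])).resolve_left hw2
    exact ⟨z₂ / w₂, by rw [hw1, hz1]; match_scalars <;> field_simp <;> ring⟩
  · exact ⟨z₁ / w₁, by match_scalars <;> field_simp <;> linear_combination hdet⟩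

theorem kr_left_of_fix (h2 : Fintype.card β = 2) {k : GL (α × β) F} (hk : k ∈ Kr α β F) {a : α → F} (ha0 : a ≠ 0)
    (ha : ∀ x, k ⬝ₘ (tm a x) = tm a x) : Good k := by
  obtain ⟨r, t, rfl⟩ := hk
  obtain ⟨i⟩ : Nonempty β := Fintype.card_pos_iff.mp (by omega)
  obtain ⟨o, ho⟩ : ∃ o : β → F, o ≠ 0 := ⟨Pi.single i 1, by simp⟩
  simp only [kr_tm] at ha
  obtain ⟨s, hs⟩ : ∃ s : F, (t : Matrix β β F) = s • 1 := by
    by_contra hns
    push Not at hns
    obtain ⟨b, hb⟩ := exists_not_eigen C.s hns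
    have hb0 : b ≠ 0 := fun e => hb (by rw [e, Matrix.mulVec_zero]; exact zero_mem _)
    obtain ⟨c, -, -, hc⟩ := tm_inj (ha b).symm ha0 hb0
    exact hb (Submodule.mem_span_singleton.mpr ⟨c, hc.symm⟩)
  have hs0 : s ≠ 0 := fun e => ha0 ((tm_eq_zero (b := o) (by
    rw [← ha o, hs, e, zero_smul, Matrix.zero_mulVec, tm_zero_right])).resolve_right ho)
  refine ⟨⟨s • (r : Matrix α α F), s⁻¹ • ((r⁻¹ : GL α F) : Matrix α α F),
      by simp [Matrix.smul_mul, Matrix.mul_smul, smul_smul, hs0],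
      by simp [Matrix.smul_mul, Matrix.mul_smul, smul_smul, hs0]⟩, ?_⟩
  refine Units.ext ?_
  rw [kr_val, kr_val, hs, Matrix.kronecker_smul, Units.val_one, Matrix.smul_kronecker]

theorem Ctx.form2 (h2 : Fintype.card β = 2) (L : (β → F) →ₗ[F] β → F) :
    ∃ c : F, ∀ u v, fs (L u) v + fs u (L v) = 2 * c * fs u v := by
  obtain ⟨i⟩ : Nonempty β := Fintype.card_pos_iff.mp (by omega)
  obtain ⟨o, ho⟩ : ∃ o : β → F, o ≠ 0 := ⟨Pi.single i 1, by simp⟩
  obtain ⟨o', ho'⟩ := C.partner ho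
  refine ⟨(fs (L o') o + fs o' (L o)) / 2, fun u v => ?_⟩
  have h := C.h2
  rw [C.expand2 h2 ho' u, C.expand2 h2 ho' v]
  simp only [map_sub, map_smul, C.s.sub_left, C.s.sub_right, C.s.refl.semi.smul_left, C.s.smul_right, C.s.alt,
    C.s.swap o' o, ho', C.s.swap (L o') o, C.s.swap (L o) o']
  field_simp
  linear_combination (fs u o * fs v o) * (C.s.swap (L o') o') + (fs u o' * fs v o') * (C.s.swap (L o) o)

/-- The square of a skew operator of the plane is scalar. -/
theorem Ctx.skew_sq (h2 : Fintype.card β = 2) (S : (β → F) →ₗ[F] β → F)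
    (hS : ∀ u v, fs (S u) v = -fs u (S v)) : ∃ ν : F, ∀ u, S (S u) = ν • u := by
  obtain ⟨c, hc⟩ := C.form2 h2 (S ∘ₗ S)
  refine ⟨c, fun u => C.sext fun v => ?_⟩
  have := hc u v
  simp only [LinearMap.comp_apply] at this
  rw [C.s.refl.semi.smul_left]
  refine mul_left_cancel₀ C.h2 ?_
  linear_combination this + hS (S u) v - hS u (S v)

theorem Ctx.no_root {S : (β → F) →ₗ[F] β → F} {ν : F} (hSS : ∀ u, S (S u) = ν • u) {z : β → F} (hz : z ≠ 0)
    (hne : ∀ (z : β → F) (l : F), z ≠ 0 → S z ≠ l • z) (l : F) : ν ≠ l ^ 2 := fun h => by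
  by_cases hy : S z + l • z = 0
  · exact hne z (-l) hz (by rw [neg_smul]; exact eq_neg_of_add_eq_zero_left hy)
  · refine hne _ l hy ?_
    rw [map_add, map_smul, hSS, h, pow_two]
    module

/-- An element fixing the fibres over the orthogonal of a plane: a vector of the plane reproduces the plane. -/
theorem lemF [Finite F] (h2 : Fintype.card β = 2) (hab : Fintype.card α = 4 → Aniso fo) {p₁ p₂ : α → F} (h1 : fo p₁ p₁ ≠ 0)
    (h1' : fo p₂ p₂ ≠ 0) (h12 : fo p₁ p₂ = 0) {h : GL (α × β) F} (hh : h ∈ X)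
    (hT : ∀ a, fo a p₁ = 0 → fo a p₂ = 0 → ∀ x, h ⬝ₘ (tm a x) = tm a x) {w : α → F}
    (hw : w ∈ Submodule.span F {p₁, p₂}) :
    ∃ p ∈ Submodule.span F {p₁, p₂}, p ≠ 0 ∧ ∃ c : F, ∀ x, pc fo p (h ⬝ₘ (tm w x)) = c • x := by
  classical
  obtain ⟨w₁, w₂, hw12⟩ := Submodule.mem_span_pair.mp hw
  have hwT : ∀ a, fo a p₁ = 0 → fo a p₂ = 0 → fo a w = 0 := fun a e e' => by
    rw [← hw12, C.add_right, C.smul_right, C.smul_right, e, e']; ring
  have hdim := C.dim
  have key : ∀ v g₂, fo v p₁ = 0 → fo v p₂ = 0 → Conj fo fs X g₂ h (v + w) →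
      (∃ t ∈ fixSub g₂, fo t p₁ ≠ 0 ∨ fo t p₂ ≠ 0) →
      ∃ p ∈ Submodule.span F {p₁, p₂}, p ≠ 0 ∧ ∃ c : F, ∀ x, pc fo p (h ⬝ₘ (tm w x)) = c • x := by
    rintro v g₂ hv1 hv2 H ⟨t, ht, htp⟩
    obtain ⟨p, hp⟩ : ∃ p, p = (fo t p₁ / fo p₁ p₁) • p₁ + (fo t p₂ / fo p₂ p₂) • p₂ := ⟨_, rfl⟩
    have e1 : fo p p₁ = fo t p₁ := by
      rw [hp, C.add_left, C.smul_left, C.smul_left, C.symm p₁ p₂, h12, div_mul_cancel₀ _ h1, mul_zero, add_zero]
    have e2 : fo p p₂ = fo t p₂ := by
      rw [hp, C.add_left, C.smul_left, C.smul_left, h12, div_mul_cancel₀ _ h1', mul_zero, zero_add]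
    refine ⟨p, hp ▸ Submodule.mem_span_pair.mpr ⟨_, _, rfl⟩, fun h0 => ?_, -fo v t, fun x => ?_⟩
    · rw [h0, C.o.zero_left] at e1 e2
      rcases htp with h' | h'
      · exact h' e1.symm
      · exact h' e2.symm
    have hu1 : fo (t - p) p₁ = 0 := by rw [C.sub_left, e1, sub_self]
    have hu2 : fo (t - p) p₂ = 0 := by rw [C.sub_left, e2, sub_self]
    have hzero : pc fo (t - p) (h ⬝ₘ (tm w x)) = 0 := C.sext fun z => by
      rw [← C.tau_pc, ← hT _ hu1 hu2 z, C.iso h hh, C.tau, C.symm (t - p) w, hwT _ hu1 hu2, zero_mul,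
        C.s.refl.zero_left]
    have hpv : fo v p = 0 := by rw [hp, C.add_right, C.smul_right, C.smul_right, hv1, hv2]; ring
    have hY : h ⬝ₘ (tm (v + w) x) = tm v x + h ⬝ₘ (tm w x) := by
      rw [tm_add_left, Matrix.mulVec_add, hT v hv1 hv2]
    have e := H.pc_zero C ht x
    rw [hY, C.pc_add, C.pc_tm, show t = (t - p) + p by abel, C.pc_add_vec, hzero, zero_add,
      show t - p + p = t by abel] at e
    rw [neg_smul]
    exact eq_neg_of_add_eq_zero_right e
  have hTv : ∀ {v g₂}, fo v p₁ = 0 → fo v p₂ = 0 → Conj fo fs X g₂ h (v + w) → ∀ t ∈ fixSub g₂,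
      fo t p₁ = 0 → fo t p₂ = 0 → fo t v = 0 := fun {v g₂} hv1 hv2 H t ht ht1 ht2 => by
    obtain ⟨i⟩ : Nonempty β := Fintype.card_pos_iff.mp (by omega)
    obtain ⟨o, ho⟩ : ∃ o : β → F, o ≠ 0 := ⟨Pi.single i 1, by simp⟩
    obtain ⟨o', ho'⟩ := C.partner ho
    have e := H.orth C (ht o') o
    rw [tm_add_left, Matrix.mulVec_add, (tf_semi C.data).add_right, hT v hv1 hv2, C.tau, ho',
      ← hT t ht1 ht2 o', C.iso h hh, C.tau, hwT t ht1 ht2] at e
    linear_combination e
  rcases Nat.lt_or_ge (Fintype.card α) 4 with hlt | h4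
  · have h3 : Fintype.card α = 3 := by omega
    obtain ⟨n, hn, hn1, hn2⟩ := C.exists_third h1 h1' h12
    obtain ⟨a, ha, ha2⟩ := C.hex.resolve_right (by omega)
    obtain ⟨s, hs, hs2, hs3⟩ : ∃ s : F, s ≠ 0 ∧ fo w w ≠ 2 * s ^ 2 * fo n n ∧ fo w w ≠ -(s ^ 2) * fo n n := by
      by_contra hcon
      push Not at hcon
      have c1 := hcon 1 one_ne_zero
      have c2 := hcon a ha
      have c3 := hcon a⁻¹ (inv_ne_zero ha)
      have ha3 : a * a⁻¹ = 1 := mul_inv_cancel₀ ha
      by_cases k1 : fo w w = 2 * 1 ^ 2 * fo n n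
      · by_cases k2 : fo w w = 2 * a ^ 2 * fo n n
        · exact mul_ne_zero (mul_ne_zero C.h2 (sub_ne_zero.mpr ha2)) hn (by linear_combination k1 - k2)
        · have k2' := c2 k2
          have h2a : a ^ 2 = -2 := mul_right_cancel₀ hn (by linear_combination k2' - k1)
          have h3' : (3 : F) ≠ 0 := fun e => ha2 (by linear_combination h2a - e)
          by_cases k3 : fo w w = 2 * a⁻¹ ^ 2 * fo n n
          · exact mul_ne_zero (mul_ne_zero C.h2 h3') hn (by linear_combination -(a ^ 2) * (k3 - k1) - 2 * (a * a⁻¹ + 1) * fo n n * ha3 + 2 * fo n n * h2a)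
          · have k3' := c3 k3
            exact mul_ne_zero h3' hn (by linear_combination -(a ^ 2 * (k3' - k1)) + fo n n * (a * a⁻¹ + 1) * ha3 + 2 * fo n n * h2a)
      · have k1' := c1 k1
        by_cases k2 : fo w w = 2 * a ^ 2 * fo n n
        · have h2a : 2 * a ^ 2 = -1 := mul_right_cancel₀ hn (by linear_combination k1' - k2)
          have h3' : (3 : F) ≠ 0 := fun e => ha2 (by linear_combination a ^ 2 * e - h2a)
          by_cases k3 : fo w w = 2 * a⁻¹ ^ 2 * fo n n
          · exact mul_ne_zero h3' hn (by linear_combination -(2 * a ^ 2 * (k3 - k1') + 4 * fo n n * (a * a⁻¹ + 1) * ha3 + fo n n * h2a))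
          · have k3' := c3 k3
            exact mul_ne_zero h3' hn (by linear_combination 2 * a ^ 2 * (k3' - k1') - 2 * fo n n * (a * a⁻¹ + 1) * ha3 + fo n n * h2a)
        · have k2' := c2 k2
          exact mul_ne_zero (sub_ne_zero.mpr ha2) hn (by linear_combination k2' - k1')
    have hy : fo (s • n + w) (s • n + w) = s ^ 2 * fo n n + fo w w := by
      simp only [C.add_left, C.add_right, C.smul_left, C.smul_right, hwT n hn1 hn2, C.symm n w]; ring
    obtain ⟨g₂, r, H, -, -, -⟩ := exists_conj C hh (u := s • n + w) (by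
      rw [hy]; intro e; exact hs3 (by linear_combination e))
    have hv1 : fo (s • n) p₁ = 0 := by rw [C.smul_left, hn1, mul_zero]
    have hv2 : fo (s • n) p₂ = 0 := by rw [C.smul_left, hn2, mul_zero]
    refine key _ g₂ hv1 hv2 H ?_
    by_contra hcon
    push Not at hcon
    have hli : LinearIndependent F ![p₁, p₂, n] := C.linIndep_orth (fun i => by fin_cases i <;> assumption)
      (fun i j hij => by
        fin_cases i <;> fin_cases j <;>
          first
          | exact absurd rfl hij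
          | assumption
          | (change fo _ _ = 0; rw [C.symm]; assumption))
    have h0 : ∀ t ∈ fixSub g₂, t = 0 := fun t ht => by
      obtain ⟨ht1, ht2⟩ := hcon t ht
      have := hTv hv1 hv2 H t ht ht1 ht2
      rw [C.smul_right] at this
      exact C.perp_triv3 h3 hli ht1 ht2 ((mul_eq_zero.mp this).resolve_left hs)
    obtain ⟨i⟩ : Nonempty β := Fintype.card_pos_iff.mp (by omega)
    obtain ⟨o, ho⟩ : ∃ o : β → F, o ≠ 0 := ⟨Pi.single i 1, by simp⟩
    obtain ⟨o', ho'⟩ := C.partner ho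
    have e := exotic C h2 h3 H h0 ho' n
    have hA : ∀ x, pc fo n (h ⬝ₘ (tm (s • n + w) x)) = (s * fo n n) • x := fun x => C.sext fun z => by
      rw [← C.tau_pc, ← hT n hn1 hn2 z, C.iso h hh, C.tau, C.s.refl.semi.smul_left, C.add_left, C.smul_left,
        C.symm n w, hwT n hn1 hn2, add_zero]
    rw [hA, hA, C.s.refl.semi.smul_left, C.s.smul_right, ho', hy] at e
    exact hs2 (mul_right_cancel₀ hn (by linear_combination -e))
  obtain ⟨v, hv, hv1, hv2, hvw⟩ : ∃ v, fo v v ≠ 0 ∧ fo v p₁ = 0 ∧ fo v p₂ = 0 ∧ fo v v + fo w w ≠ 0 := by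
    obtain ⟨v, hv, hv1, hv2⟩ := C.exists_third h1 h1' h12
    by_cases hvw : fo v v + fo w w = 0
    · obtain ⟨v', hv', hperp⟩ := C.exists_orth ![p₁, p₂, v] (fun i => by fin_cases i <;> assumption)
        (fun i j hij => by
          fin_cases i <;> fin_cases j <;>
            first
            | exact absurd rfl hij
            | assumption
            | (change fo _ _ = 0; rw [C.symm]; assumption)) (by omega)
      have d1 : fo v' p₁ = 0 := hperp 0
      have d2 : fo v' p₂ = 0 := hperp 1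
      have d3 : fo v' v = 0 := hperp 2
      by_cases hvw' : fo v' v' + fo w w = 0
      · have hq : fo (v + v') (v + v') = fo v v + fo v' v' := by
          simp only [C.add_left, C.add_right, d3, C.symm v' v]; ring
        refine ⟨v + v', ?_, by rw [C.add_left, hv1, d1, add_zero], by rw [C.add_left, hv2, d2, add_zero], ?_⟩
        · rw [hq]; intro e
          exact mul_ne_zero C.h2 hv (by linear_combination e + hvw - hvw')
        · rw [hq]; intro e
          exact hv (by linear_combination e - hvw')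
      · exact ⟨v', hv', d1, d2, hvw'⟩
    · exact ⟨v, hv, hv1, hv2, hvw⟩
  obtain ⟨g₂, r, H, -, -, -⟩ := exists_conj C hh (u := v + w) (by
    simp only [C.add_left, C.add_right, hwT v hv1 hv2, C.symm v w]
    intro e; exact hvw (by linear_combination e))
  refine key v g₂ hv1 hv2 H ?_
  by_contra hcon
  push Not at hcon
  obtain ⟨U, hU, hmem⟩ := C.perp3 (C.linIndep_orth (s := ![p₁, p₂, v]) (fun i => by fin_cases i <;> assumption)
    (fun i j hij => by
      fin_cases i <;> fin_cases j <;>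
        first
        | exact absurd rfl hij
        | assumption
        | (change fo _ _ = 0; rw [C.symm]; assumption)))
  have hle : fixSub g₂ ≤ U := fun t ht => (hmem t).mpr
    ⟨(hcon t ht).1, (hcon t ht).2, hTv hv1 hv2 H t ht (hcon t ht).1 (hcon t ht).2⟩
  have := Submodule.finrank_mono hle
  have := fix_dim_four C h2 h4 hab H
  omega

/-- The two coordinates of an element moving a plane commute up to a scalar. -/
theorem lemG [Finite F] (h2 : Fintype.card β = 2) (hab : Fintype.card α = 4 → Aniso fo) {p₁ p₂ : α → F} (h1 : fo p₁ p₁ ≠ 0)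
    (h1' : fo p₂ p₂ ≠ 0) (h12 : fo p₁ p₂ = 0) {k : GL (α × β) F} (hk : k ∈ X)
    (hT : ∀ a, fo a p₁ = 0 → fo a p₂ = 0 → ∀ x, k ⬝ₘ (tm a x) = tm a x) {A B : (α → F) → α → F}
    (hA : ∀ a ∈ Submodule.span F {p₁, p₂}, A a ∈ Submodule.span F {p₁, p₂})
    (hB : ∀ a ∈ Submodule.span F {p₁, p₂}, B a ∈ Submodule.span F {p₁, p₂}) {κ : F} (hκ : κ ≠ 0)
    (hBB : ∀ a ∈ Submodule.span F {p₁, p₂}, B (B a) = κ • a) {S : (β → F) →ₗ[F] β → F}
    (hS : ∀ u v, fs (S u) v = -fs u (S v)) (hne : ∀ (z : β → F) (l : F), z ≠ 0 → S z ≠ l • z)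
    (hk' : ∀ a ∈ Submodule.span F {p₁, p₂}, ∀ x, k ⬝ₘ (tm a x) = tm (A a) x + tm (B a) (S x))
    {w : α → F} (hw : w ∈ Submodule.span F {p₁, p₂}) (hw0 : w ≠ 0) : ∃ l : F, B (A w) = l • w := by
  classical
  obtain ⟨i⟩ : Nonempty β := Fintype.card_pos_iff.mp (by omega)
  obtain ⟨o, ho⟩ : ∃ o : β → F, o ≠ 0 := ⟨Pi.single i 1, by simp⟩
  obtain ⟨o', ho'⟩ := C.partner ho
  obtain ⟨ν, hν⟩ := C.skew_sq h2 S hS
  obtain ⟨t, -, htiso, hR⟩ := exists_rt (α := α) C.data (o := o) (c := (1 : F)) (C.s.alt o) (by rw [map_one]; ring)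
  have ht : ∀ x, (t : Matrix β β F) *ᵥ x = x + fs x o • o := fun x => by
    refine sub_eq_zero.mp ((tm_eq_zero (a := p₁) ?_).resolve_left fun e => h1 (by rw [e, C.o.zero_left]))
    have e := hR (tm p₁ x)
    rw [kr_tm, C.ctr_tm', Units.val_one, Matrix.one_mulVec, one_smul, tm_smul_left, ← tm_smul_right] at e
    rw [tm_sub_right, tm_add_right, e, sub_self]
  obtain ⟨S', hS'⟩ : ∃ S' : (β → F) → β → F, ∀ x,
      S' x = (t : Matrix β β F) *ᵥ S (((t⁻¹ : GL β F) : Matrix β β F) *ᵥ x) := ⟨_, fun _ => rfl⟩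
  obtain ⟨k', hk'def⟩ : ∃ k', k' = kr (1 : GL α F) t * k * (kr (1 : GL α F) t)⁻¹ := ⟨_, rfl⟩
  have hk'X : k' ∈ X := hk'def ▸ mul_mem (mul_mem (C.right_mem htiso) hk) (inv_mem (C.right_mem htiso))
  have hk'T : ∀ a, fo a p₁ = 0 → fo a p₂ = 0 → ∀ x, k' ⬝ₘ (tm a x) = tm a x := fun a e e' x => by
    rw [hk'def, gl_mul_mulVec, gl_mul_mulVec, kr_inv, kr_tm, inv_one, Units.val_one, Matrix.one_mulVec, hT a e e',
      kr_tm, Units.val_one, Matrix.one_mulVec, gl_mulVec_inv_cancel]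
  have hk'P : ∀ a ∈ Submodule.span F {p₁, p₂}, ∀ x, k' ⬝ₘ (tm a x) = tm (A a) x + tm (B a) (S' x) := fun a ha x => by
    rw [hk'def, gl_mul_mulVec, gl_mul_mulVec, kr_inv, kr_tm, inv_one, Units.val_one, Matrix.one_mulVec, hk' a ha,
      Matrix.mulVec_add, kr_tm, kr_tm, Units.val_one, Matrix.one_mulVec, Matrix.one_mulVec, gl_mulVec_inv_cancel,
      hS']
  obtain ⟨p, hp, hp0, c, hc⟩ := lemF C h2 hab h1 h1' h12 (mul_mem hk hk'X)
    (fun a e e' x => by rw [gl_mul_mulVec, hk'T a e e', hT a e e']) hw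
  obtain ⟨ca, hca⟩ : ∃ ca, ca = fo (A (A w)) p - c := ⟨_, rfl⟩
  obtain ⟨cb, hcb⟩ : ∃ cb, cb = fo (B (A w)) p := ⟨_, rfl⟩
  obtain ⟨cc, hcc⟩ : ∃ cc, cc = fo (A (B w)) p := ⟨_, rfl⟩
  obtain ⟨cd, hcd⟩ : ∃ cd, cd = fo (B (B w)) p := ⟨_, rfl⟩
  have hrel : ∀ x, ca • x + cb • S x + cc • S' x + cd • S (S' x) = 0 := fun x => by
    have e := hc x
    rw [gl_mul_mulVec, hk'P w hw, Matrix.mulVec_add, hk' _ (hA w hw), hk' _ (hB w hw), C.pc_add, C.pc_add, C.pc_add,
      C.pc_tm, C.pc_tm, C.pc_tm, C.pc_tm, ← hcb, ← hcc, ← hcd] at e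
    rw [hca]
    linear_combination (norm := module) e
  have hnosq := C.no_root hν ho hne
  have hden : cb = 0 ∧ cd = 0 := by
    by_cases hcd0 : cc ^ 2 - cd ^ 2 * ν = 0
    · have hd0 : cd = 0 := by
        by_contra hd
        exact hnosq (cc / cd) (by field_simp; linear_combination -hcd0)
      have hc0 : cc = 0 := by
        rw [hd0] at hcd0
        exact sq_eq_zero_iff.mp (by linear_combination hcd0)
      refine ⟨by_contra fun hb => ?_, hd0⟩
      refine hne o (-(ca / cb)) ho ?_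
      have e := hrel o
      rw [hd0, hc0, zero_smul, zero_smul, add_zero, add_zero] at e
      have : S o = cb⁻¹ • (cb • S o) := by rw [smul_smul, inv_mul_cancel₀ hb, one_smul]
      rw [this, eq_neg_of_add_eq_zero_right e, smul_neg, smul_smul, neg_smul, div_eq_inv_mul]
    exfalso
    obtain ⟨e, f, hef⟩ : ∃ e f : F, ∀ x, S' x = e • x + f • S x := by
      refine ⟨-(cc * ca - cd * cb * ν) / (cc ^ 2 - cd ^ 2 * ν), -(cc * cb - cd * ca) / (cc ^ 2 - cd ^ 2 * ν),
        fun x => ?_⟩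
      have e1 := hrel x
      have e2 := congrArg S e1
      simp only [map_add, map_smul, map_zero, hν] at e2
      refine smul_right_injective _ hcd0 ?_
      change (cc ^ 2 - cd ^ 2 * ν) • S' x = (cc ^ 2 - cd ^ 2 * ν) • (_ + _)
      rw [smul_add, smul_smul, smul_smul, mul_div_cancel₀ _ hcd0, mul_div_cancel₀ _ hcd0]
      linear_combination (norm := module) cc • e1 - cd • e2
    have hsk : ∀ u v, fs (S' u) v = -fs u (S' v) := fun u v => by
      rw [hS', hS']
      conv_lhs => rw [show v = (t : Matrix β β F) *ᵥ ((t⁻¹ : GL β F) : Matrix β β F) *ᵥ v from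
        (gl_mulVec_inv_cancel t v).symm, htiso, hS]
      conv_rhs => rw [show u = (t : Matrix β β F) *ᵥ ((t⁻¹ : GL β F) : Matrix β β F) *ᵥ u from
        (gl_mulVec_inv_cancel t u).symm, htiso]
    have he : e = 0 := by
      have e1 := hsk o' o
      rw [hef, hef, C.s.refl.semi.add_left, C.s.refl.semi.add_right, C.s.refl.semi.smul_left,
        C.s.refl.semi.smul_left, C.s.smul_right, C.s.smul_right, ho', hS o' o] at e1
      refine (mul_eq_zero.mp (show (2 : F) * e = 0 from ?_)).resolve_left C.h2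
      linear_combination e1
    have e1 := hS' o
    have hto : ((t⁻¹ : GL β F) : Matrix β β F) *ᵥ o = o := by
      conv_lhs => rw [show o = (t : Matrix β β F) *ᵥ o by rw [ht, C.s.alt, zero_smul, add_zero]]
      rw [gl_inv_mulVec_cancel]
    rw [hto, ht, hef, he, zero_smul, zero_add] at e1
    have hso : fs (S o) o ≠ 0 := fun h => by
      obtain ⟨l, hl⟩ := C.perp2 h2 ho h
      exact hne o l ho hl
    have hf1 : f = 1 := by
      have e2 := congrArg (fun z => fs z o) e1
      simp only [C.s.refl.semi.add_left, C.s.refl.semi.smul_left, C.s.alt, RingEquiv.refl_apply, mul_zero,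
        add_zero] at e2
      exact mul_right_cancel₀ hso (by rw [e2, one_mul])
    rw [hf1, one_smul] at e1
    exact hso ((smul_eq_zero.mp (left_eq_add.mp e1)).resolve_right ho)
  obtain ⟨hb, hd⟩ := hden
  refine C.line2 h1 h1' h12 hp hp0 hw hw0 (hB _ (hA w hw)) ?_ (by rw [C.symm, ← hcb, hb])
  rw [C.symm]
  rw [hcd, hBB w hw, C.smul_left] at hd
  exact (mul_eq_zero.mp hd).resolve_left hκ

end Cfsg.Agent.Classical.TensorMax.SpO
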