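/-
A symplectic factor of dimension two: no conjugate of a reflection lives on a plane.
-/
import Cfsg.Agent.Lib.Classical.TensorMax.SpO.TwoTools

set_option autoImplicit false
set_option linter.unusedSectionVars false

namespace Cfsg.Agent.Classical.TensorMax.SpO

open Matrix Module Cfsg.Geo
open Cfsg.Agent.Classical Cfsg.Agent.Classical.TensorMax Cfsg.Agent.Classical.TensorMax.Form

variable {α β : Type} [Fintype α] [DecidableEq α] [Fintype β] [DecidableEq β] {F : Type*} [Field F]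
variable {fo : (α → F) → (α → F) → F} {fs : (β → F) → (β → F) → F} {X : Subgroup (GL (α × β) F)}

local notation:max g:max " ⬝ₘ " x:max => ((g : GL (α × β) F) : Matrix (α × β) (α × β) F) *ᵥ x
local notation "τ" => tf (RingEquiv.refl F) fo fs

variable (C : Ctx fo fs X)

include C

theorem Ctx.plane_perp {p₁ p₂ v : α → F} (h1 : fo p₁ p₁ ≠ 0) (h1' : fo p₂ p₂ ≠ 0) (h12 : fo p₁ p₂ = 0)
    (h : ∀ a, fo a p₁ = 0 → fo a p₂ = 0 → fo v a = 0) :
    v = (fo v p₁ / fo p₁ p₁) • p₁ + (fo v p₂ / fo p₂ p₂) • p₂ := by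
  refine C.ext_o fun z => ?_
  have h' := h (z - (fo z p₁ / fo p₁ p₁) • p₁ - (fo z p₂ / fo p₂ p₂) • p₂)
    (by simp only [C.sub_left, C.smul_left, C.symm p₁ p₂, h12]; field_simp; ring)
    (by simp only [C.sub_left, C.smul_left, h12]; field_simp; ring)
  simp only [C.sub_right, C.smul_right] at h'
  simp only [C.add_left, C.smul_left, C.symm z p₁, C.symm z p₂]
  linear_combination h'

theorem Ctx.expand4 (h4 : Fintype.card α = 4) {p q r t : α → F} (hp : fo p p ≠ 0) (hq : fo q q ≠ 0)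
    (hr : fo r r ≠ 0) (ht : fo t t ≠ 0) (hpq : fo p q = 0) (hrp : fo r p = 0) (hrq : fo r q = 0) (htp : fo t p = 0)
    (htq : fo t q = 0) (hrt : fo r t = 0) (b : α → F) :
    b = (fo b p / fo p p) • p + (fo b q / fo q q) • q + (fo b r / fo r r) • r + (fo b t / fo t t) • t := by
  have hli : LinearIndependent F ![p, q, r, t] := C.linIndep_orth (fun i => by fin_cases i <;> assumption)
    (fun i j hij => by
      fin_cases i <;> fin_cases j <;>
        first
        | exact absurd rfl hij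
        | assumption
        | (change fo _ _ = 0; rw [C.symm]; assumption))
  have e1 := finrank_span_eq_card hli
  have htop : Submodule.span F (Set.range ![p, q, r, t]) = ⊤ := Submodule.eq_top_of_finrank_eq (by
    rw [e1, Fintype.card_fin, Module.finrank_fintype_fun_eq_card, h4])
  obtain ⟨d, hd⟩ : ∃ d, d = b - ((fo b p / fo p p) • p + (fo b q / fo q q) • q + (fo b r / fo r r) • r +
      (fo b t / fo t t) • t) := ⟨_, rfl⟩
  have d1 : fo d p = 0 := by
    simp only [hd, C.sub_left, C.add_left, C.smul_left, C.symm p q, hpq, hrp, htp]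
    field_simp
    ring
  have d2 : fo d q = 0 := by
    simp only [hd, C.sub_left, C.add_left, C.smul_left, hpq, hrq, htq]
    field_simp
    ring
  have d3 : fo d r = 0 := by
    simp only [hd, C.sub_left, C.add_left, C.smul_left, C.symm r p, C.symm r q, C.symm r t, hrp, hrq, hrt]
    field_simp
    ring
  have d4 : fo d t = 0 := by
    simp only [hd, C.sub_left, C.add_left, C.smul_left, C.symm t p, C.symm t q, htp, htq, hrt]
    field_simp
    ring
  have hperp : ∀ i, fo d (![p, q, r, t] i) = 0 := fun i => by fin_cases i <;> assumption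
  by_contra hne
  obtain ⟨z, hz⟩ := (C.o.nondeg d (hd ▸ sub_ne_zero.mpr hne)).1
  have hmem : z ∈ Submodule.span F (Set.range ![p, q, r, t]) := htop ▸ Submodule.mem_top
  suffices fo z d = 0 from hz this
  clear hz
  induction hmem using Submodule.span_induction with
  | mem y hy =>
    obtain ⟨i, rfl⟩ := hy
    rw [C.symm]; exact hperp i
  | zero => exact C.o.zero_left d
  | add u w _ _ hu hw => rw [C.add_left, hu, hw, add_zero]
  | smul c u _ hu => rw [C.smul_left, hu, mul_zero]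

/-- Without a totally isotropic plane, one of two perpendicular planes has a singular vector. -/
theorem plane_singular [Fintype F] (hn : Aniso fo) {p q r t : α → F} (hp : fo p p ≠ 0) (hq : fo q q ≠ 0)
    (hr : fo r r ≠ 0) (ht : fo t t ≠ 0) (hpq : fo p q = 0) (hrp : fo r p = 0) (hrq : fo r q = 0) (htp : fo t p = 0)
    (htq : fo t q = 0) (hrt : fo r t = 0) :
    (∃ x y : F, x • p + y • q ≠ 0 ∧ fo (x • p + y • q) (x • p + y • q) = 0) ∨
      ∃ x y : F, x • r + y • t ≠ 0 ∧ fo (x • r + y • t) (x • r + y • t) = 0 := by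
  classical
  have sq : ∀ {p q : α → F}, fo p p ≠ 0 → fo q q ≠ 0 → fo p q = 0 → IsSquare (-(fo p p * fo q q)) →
      ∃ x y : F, x • p + y • q ≠ 0 ∧ fo (x • p + y • q) (x • p + y • q) = 0 := by
    intro p q hp hq hpq ⟨m, hm⟩
    refine ⟨m, fo p p, fun e => ?_, ?_⟩
    · have := congrArg (fun z => fo z q) e
      simp only [C.add_left, C.smul_left, hpq, C.o.zero_left, mul_zero, zero_add] at this
      exact mul_ne_zero hp hq this
    · simp only [C.add_left, C.add_right, C.smul_left, C.smul_right, hpq, C.symm p q]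
      linear_combination -(fo p p) * hm
  by_cases s1 : IsSquare (-(fo p p * fo q q))
  · exact Or.inl (sq hp hq hpq s1)
  by_cases s2 : IsSquare (-(fo r r * fo t t))
  · exact Or.inr (sq hr ht hrt s2)
  exfalso
  have hchar : ringChar F ≠ 2 := fun h => C.h2 (by
    have := ringChar.Nat.cast_ringChar (R := F)
    rw [h] at this
    exact_mod_cast this)
  obtain ⟨δ, hδ⟩ : IsSquare ((-(fo p p * fo q q)) * -(fo r r * fo t t)) := by
    have n1 := neg_ne_zero.mpr (mul_ne_zero hp hq)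
    have n2 := neg_ne_zero.mpr (mul_ne_zero hr ht)
    refine (quadraticChar_one_iff_isSquare (mul_ne_zero n1 n2)).mp ?_
    rw [map_mul, quadraticChar_neg_one_iff_not_isSquare.mpr s1, quadraticChar_neg_one_iff_not_isSquare.mpr s2]
    norm_num
  obtain ⟨x, y, hxy⟩ := C.exists_norm hp hq hpq (-fo r r)
  simp only [C.add_left, C.add_right, C.smul_left, C.smul_right, hpq, C.symm p q] at hxy
  obtain ⟨e₁, he₁⟩ : ∃ e, e = x • p + y • q + r := ⟨_, rfl⟩
  obtain ⟨e₂, he₂⟩ : ∃ e, e = (-(y * fo q q)) • p + (x * fo p p) • q + (δ / fo t t) • t := ⟨_, rfl⟩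
  have h11 : fo e₁ e₁ = 0 := by
    simp only [he₁, C.add_left, C.add_right, C.smul_left, C.smul_right, hpq, C.symm p q, hrp, C.symm r p, hrq,
      C.symm r q]
    linear_combination hxy
  have h22 : fo e₂ e₂ = 0 := by
    simp only [he₂, C.add_left, C.add_right, C.smul_left, C.smul_right, hpq, C.symm p q, htp, C.symm t p, htq,
      C.symm t q]
    field_simp
    linear_combination (fo p p * fo q q * fo t t) * hxy - hδ
  have h12' : fo e₁ e₂ = 0 := by
    simp only [he₁, he₂, C.add_left, C.add_right, C.smul_left, C.smul_right, hpq, C.symm p q, htp, C.symm t p, htq,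
      C.symm t q, hrp, hrq, hrt]
    ring
  have hδ0 : δ ≠ 0 := fun e => mul_ne_zero (neg_ne_zero.mpr (mul_ne_zero hp hq))
    (neg_ne_zero.mpr (mul_ne_zero hr ht)) (by rw [hδ, e, mul_zero])
  have hli : LinearIndependent F ![e₁, e₂] := LinearIndependent.pair_iff.mpr fun a b h => by
    have u1 := congrArg (fun z => fo z r) h
    have u2 := congrArg (fun z => fo z t) h
    simp only [he₁, he₂, C.add_left, C.smul_left, C.o.zero_left, C.symm r p, C.symm r q, C.symm r t, C.symm t p,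
      C.symm t q, hrp, hrq, hrt, htp, htq, mul_zero, add_zero, zero_add] at u1 u2
    refine ⟨(mul_eq_zero.mp u1).resolve_right hr, ?_⟩
    rw [div_mul_cancel₀ _ ht] at u2
    exact (mul_eq_zero.mp u2).resolve_right hδ0
  have h3 := hn (Submodule.span F (Set.range ![e₁, e₂])) fun a ha b hb => by
    rw [show Set.range ![e₁, e₂] = {e₁, e₂} from by simp [Matrix.range_cons, Set.union_comm, Set.pair_comm]]
      at ha hb
    obtain ⟨s, t, rfl⟩ := Submodule.mem_span_pair.mp ha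
    obtain ⟨s', t', rfl⟩ := Submodule.mem_span_pair.mp hb
    simp only [C.add_left, C.add_right, C.smul_left, C.smul_right, h11, h22, h12', C.symm e₁ e₂]
    ring
  rw [finrank_span_eq_card hli, Fintype.card_fin] at h3
  omega

/-- Shearing a scalar-free twist of a plane by a singular vector. -/
theorem shear [Finite F] (h2 : Fintype.card β = 2) (hab : Fintype.card α = 4 → Aniso fo) {p₁ p₂ e : α → F}
    (h1 : fo p₁ p₁ ≠ 0) (h1' : fo p₂ p₂ ≠ 0) (h12 : fo p₁ p₂ = 0) (he0 : e ≠ 0) (hee : fo e e = 0)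
    (he1 : fo e p₁ = 0) (he2 : fo e p₂ = 0) {σ : GL (α × β) F} (hσ : σ ∈ X)
    (hT : ∀ a, fo a p₁ = 0 → fo a p₂ = 0 → ∀ x, σ ⬝ₘ (tm a x) = tm a x) {s : GL β F}
    (hP : ∀ x, σ ⬝ₘ (tm p₁ x) = tm p₁ ((s : Matrix β β F) *ᵥ x) ∧
      σ ⬝ₘ (tm p₂ x) = tm p₂ ((s : Matrix β β F) *ᵥ x)) :
    ∃ l : F, ∀ x, ((s⁻¹ : GL β F) : Matrix β β F) *ᵥ x = l • x := by
  classical
  obtain ⟨E, hE⟩ : ∃ E : (α → F) → (α → F) → F → (α → F),
      ∀ x v c, E x v c = x + (c * fo x p₁ / fo p₁ p₁) • v - (c * fo x v / fo p₁ p₁) • p₁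
        - (c ^ 2 * fo x v / (2 * fo p₁ p₁)) • v := ⟨_, fun _ _ _ => rfl⟩
  have hadd : ∀ x y c, E (x + y) e c = E x e c + E y e c := fun x y c => by
    rw [hE, hE, hE, C.add_left, C.add_left]; match_scalars <;> ring
  have hsmul : ∀ (r : F) x c, E (r • x) e c = r • E x e c := fun r x c => by
    rw [hE, hE, C.smul_left, C.smul_left]; match_scalars <;> ring
  have hcomp : ∀ x, E (E x e (-1)) e 1 = x := fun x => by
    rw [hE (E x e (-1)), hE x]
    simp only [C.add_left, C.sub_left, C.smul_left, hee, he1, C.symm e p₁]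
    have := C.h2
    match_scalars <;> field_simp <;> ring
  have hcomp' : ∀ x, E (E x e 1) e (-1) = x := fun x => by
    rw [hE (E x e 1), hE x]
    simp only [C.add_left, C.sub_left, C.smul_left, hee, he1, C.symm e p₁]
    have := C.h2
    match_scalars <;> field_simp <;> ring
  obtain ⟨L, hL⟩ : ∃ L : F → ((α → F) →ₗ[F] (α → F)), ∀ c x, L c x = E x e c :=
    ⟨fun c => { toFun := fun x => E x e c, map_add' := fun x y => hadd x y c,
                map_smul' := fun r x => hsmul r x c }, fun _ _ => rfl⟩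
  obtain ⟨r, hr⟩ : ∃ r : GL α F, ∀ x, (r : Matrix α α F) *ᵥ x = E x e 1 := by
    refine ⟨⟨LinearMap.toMatrix' (L 1), LinearMap.toMatrix' (L (-1)), ?_, ?_⟩, fun x => ?_⟩
    · rw [← LinearMap.toMatrix'_comp, ← LinearMap.toMatrix'_id]
      exact congrArg _ (LinearMap.ext fun x => by rw [LinearMap.comp_apply, hL, hL, hcomp, LinearMap.id_apply])
    · rw [← LinearMap.toMatrix'_comp, ← LinearMap.toMatrix'_id]
      exact congrArg _ (LinearMap.ext fun x => by rw [LinearMap.comp_apply, hL, hL, hcomp', LinearMap.id_apply])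
    · rw [← Matrix.toLin'_apply, Matrix.toLin'_toMatrix', hL]
  have hriso : ∀ x y, fo ((r : Matrix α α F) *ᵥ x) ((r : Matrix α α F) *ᵥ y) = fo x y := fun x y => by
    rw [hr, hr, hE, hE]
    simp only [C.add_left, C.add_right, C.sub_left, C.sub_right, C.smul_left, C.smul_right, hee, he1, C.symm e p₁,
      C.symm y e, C.symm y p₁]
    have := C.h2
    field_simp
    ring
  have hre : (r : Matrix α α F) *ᵥ e = e := by
    rw [hr, hE, he1, hee]
    match_scalars <;> simp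
  have hrp : (r : Matrix α α F) *ᵥ p₁ = p₁ + e := by
    rw [hr, hE, C.symm e p₁, he1]
    match_scalars <;> field_simp <;> ring
  have hrfix : ∀ a, fo a e = 0 → fo a p₁ = 0 → (r : Matrix α α F) *ᵥ a = a := fun a h h' => by
    rw [hr, hE, h, h']
    match_scalars <;> ring
  obtain ⟨σ', hσ'⟩ : ∃ σ', σ' = kr r (1 : GL β F) * σ⁻¹ * (kr r (1 : GL β F))⁻¹ := ⟨_, rfl⟩
  obtain ⟨k, hk⟩ : ∃ k, k = σ * σ' := ⟨_, rfl⟩
  have hkX : k ∈ X := hk ▸ mul_mem hσ (hσ' ▸ mul_mem (mul_mem (C.left_mem hriso) (inv_mem hσ))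
    (inv_mem (C.left_mem hriso)))
  have hinvT : ∀ a, fo a p₁ = 0 → fo a p₂ = 0 → ∀ x, σ⁻¹ ⬝ₘ (tm a x) = tm a x := fun a h h' x => by
    conv_lhs => rw [← hT a h h' x, gl_inv_mulVec_cancel]
  have hinvP : ∀ x, σ⁻¹ ⬝ₘ (tm p₁ x) = tm p₁ (((s⁻¹ : GL β F) : Matrix β β F) *ᵥ x) ∧
      σ⁻¹ ⬝ₘ (tm p₂ x) = tm p₂ (((s⁻¹ : GL β F) : Matrix β β F) *ᵥ x) := fun x => by
    constructor <;> refine gl_mulVec_injective σ ?_ <;> change σ ⬝ₘ _ = σ ⬝ₘ _
    · rw [gl_mulVec_inv_cancel, (hP _).1, gl_mulVec_inv_cancel]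
    · rw [gl_mulVec_inv_cancel, (hP _).2, gl_mulVec_inv_cancel]
  have hσ'r : ∀ a x, σ' ⬝ₘ (tm ((r : Matrix α α F) *ᵥ a) x) = (kr r (1 : GL β F)) ⬝ₘ (σ⁻¹ ⬝ₘ (tm a x)) := fun a x => by
    rw [hσ', gl_mul_mulVec, gl_mul_mulVec, kr_inv, kr_tm, gl_inv_mulVec_cancel, inv_one, Units.val_one,
      Matrix.one_mulVec]
  have hk2 : ∀ x, k ⬝ₘ (tm p₂ x) = tm p₂ x := fun x => by
    have hr2 := hrfix p₂ (by rw [C.symm, he2]) (by rw [C.symm, h12])
    rw [hk, gl_mul_mulVec]
    conv_lhs => enter [2, 2, 1]; rw [← hr2]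
    rw [hσ'r, (hinvP x).2, kr_tm, hr2, Units.val_one, Matrix.one_mulVec, (hP _).2, gl_mulVec_inv_cancel]
  have hkfix : ∀ a, fo a e = 0 → fo a p₁ = 0 → ∀ x, k ⬝ₘ (tm a x) = tm a x := fun a ha ha' x => by
    obtain ⟨l, hl⟩ : ∃ l, l = fo a p₂ / fo p₂ p₂ := ⟨_, rfl⟩
    obtain ⟨a', ha''⟩ : ∃ a', a' = a - l • p₂ := ⟨_, rfl⟩
    have e1 : fo a' p₁ = 0 := by rw [ha'', C.sub_left, C.smul_left, C.symm p₁ p₂, h12, ha', mul_zero, sub_zero]
    have e2 : fo a' p₂ = 0 := by rw [ha'', hl, C.sub_left, C.smul_left, div_mul_cancel₀ _ h1', sub_self]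
    have e3 : fo a' e = 0 := by rw [ha'', C.sub_left, C.smul_left, C.symm e p₂, he2, ha, mul_zero, sub_zero]
    have e4 : k ⬝ₘ (tm a' x) = tm a' x := by
      have hr' := hrfix a' e3 e1
      rw [hk, gl_mul_mulVec]
      conv_lhs => enter [2, 2, 1]; rw [← hr']
      rw [hσ'r, hinvT a' e1 e2, kr_tm, hr', Units.val_one, Matrix.one_mulVec, hT a' e1 e2]
    rw [show a = a' + l • p₂ by rw [ha'']; abel, tm_add_left, tm_smul_left, Matrix.mulVec_add, Matrix.mulVec_smul, e4,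
      hk2]
  have hk1 : ∀ x, k ⬝ₘ (tm p₁ x) = tm p₁ x + tm e (((s⁻¹ : GL β F) : Matrix β β F) *ᵥ x - x) := fun x => by
    have e1 : σ' ⬝ₘ (tm (p₁ + e) x) = tm (p₁ + e) (((s⁻¹ : GL β F) : Matrix β β F) *ᵥ x) := by
      rw [← hrp, hσ'r, (hinvP x).1, kr_tm, Units.val_one, Matrix.one_mulVec]
    have e2 : σ' ⬝ₘ (tm e x) = tm e x := by
      conv_lhs => enter [2, 1]; rw [← hre]
      rw [hσ'r, hinvT e he1 he2, kr_tm, hre, Units.val_one, Matrix.one_mulVec]
    rw [hk, gl_mul_mulVec, show tm p₁ x = tm (p₁ + e) x - tm e x by rw [tm_add_left]; abel, Matrix.mulVec_sub, e1, e2,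
      Matrix.mulVec_sub, tm_add_left, Matrix.mulVec_add, (hP _).1, gl_mulVec_inv_cancel, hT e he1 he2, hT e he1 he2,
      tm_sub_right, tm_add_left]
    abel
  -- the shears form a group of bounded unipotence
  obtain ⟨W, hW⟩ : ∃ W, W = Submodule.span F ({e, p₁} : Set (α → F)) := ⟨_, rfl⟩
  have heE : ∀ a ∈ Submodule.span F {e}, fo a e = 0 ∧ fo a p₁ = 0 := fun a ha => by
    obtain ⟨l, rfl⟩ := Submodule.mem_span_singleton.mp ha
    exact ⟨by rw [C.smul_left, hee, mul_zero], by rw [C.smul_left, he1, mul_zero]⟩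
  let G : Subgroup (GL (α × β) F) :=
    { carrier := {h | h ∈ X ∧ (∀ a, fo a e = 0 → fo a p₁ = 0 → ∀ x, h ⬝ₘ (tm a x) = tm a x) ∧
        ∀ x l, col (h ⬝ₘ (tm p₁ x) - tm p₁ x) l ∈ Submodule.span F {e}}
      mul_mem' := fun {a b} ha hb => ⟨mul_mem ha.1 hb.1,
        fun c hc hc' x => by rw [gl_mul_mulVec, hb.2.1 c hc hc', ha.2.1 c hc hc'], fun x l => by
        have e : a ⬝ₘ (b ⬝ₘ (tm p₁ x) - tm p₁ x) = b ⬝ₘ (tm p₁ x) - tm p₁ x := by
          conv_lhs => rw [sum_cols (b ⬝ₘ (tm p₁ x) - tm p₁ x), Matrix.mulVec_sum]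
          conv_rhs => rw [sum_cols (b ⬝ₘ (tm p₁ x) - tm p₁ x)]
          exact Finset.sum_congr rfl fun j _ => ha.2.1 _ (heE _ (hb.2.2 x j)).1 (heE _ (hb.2.2 x j)).2 _
        rw [gl_mul_mulVec, show a ⬝ₘ (b ⬝ₘ (tm p₁ x)) - tm p₁ x =
          (b ⬝ₘ (tm p₁ x) - tm p₁ x) + (a ⬝ₘ (tm p₁ x) - tm p₁ x) by
            rw [Matrix.mulVec_sub] at e; linear_combination (norm := module) e, col_add]
        exact add_mem (hb.2.2 x l) (ha.2.2 x l)⟩
      one_mem' := ⟨one_mem X, fun a _ _ x => by simp, fun x l => by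
        rw [Units.val_one, Matrix.one_mulVec, sub_self]; exact Submodule.zero_mem _⟩
      inv_mem' := fun {a} ha => by
        have h1 : ∀ c, fo c e = 0 → fo c p₁ = 0 → ∀ x, a⁻¹ ⬝ₘ (tm c x) = tm c x := fun c hc hc' x => by
          conv_lhs => rw [← ha.2.1 c hc hc' x, gl_inv_mulVec_cancel]
        refine ⟨inv_mem ha.1, h1, fun x l => ?_⟩
        have e : a⁻¹ ⬝ₘ (a ⬝ₘ (tm p₁ x) - tm p₁ x) = a ⬝ₘ (tm p₁ x) - tm p₁ x := by
          conv_lhs => rw [sum_cols (a ⬝ₘ (tm p₁ x) - tm p₁ x), Matrix.mulVec_sum]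
          conv_rhs => rw [sum_cols (a ⬝ₘ (tm p₁ x) - tm p₁ x)]
          exact Finset.sum_congr rfl fun j _ => h1 _ (heE _ (ha.2.2 x j)).1 (heE _ (ha.2.2 x j)).2 _
        rw [Matrix.mulVec_sub, gl_inv_mulVec_cancel] at e
        rw [show a⁻¹ ⬝ₘ (tm p₁ x) - tm p₁ x = -(a ⬝ₘ (tm p₁ x) - tm p₁ x) by
          linear_combination (norm := module) -e]
        exact Submodule.neg_mem _ (ha.2.2 x l) }
  obtain ⟨i⟩ : Nonempty β := Fintype.card_pos_iff.mp (by omega)
  obtain ⟨o, ho⟩ : ∃ o : β → F, o ≠ 0 := ⟨Pi.single i 1, by simp⟩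
  obtain ⟨t, -, htiso, hR⟩ := exists_rt (α := α) C.data (o := o) (c := (1 : F)) (C.s.alt o) (by rw [map_one]; ring)
  have hGK : G ≤ Kr α β F := by
    refine unip_le C (fun h4 => Or.inr (hab h4)) (fun h hh => hh.1) ?_ (z := kr (1 : GL α F) t)
      ⟨o, 1, ho, one_ne_zero, hR⟩ ?_
    · rintro h ⟨hhX, hfix, hmid⟩ y
      obtain ⟨d, hd⟩ : ∃ d, d = h ⬝ₘ y - y := ⟨_, rfl⟩
      have hdW : ∀ l, col d l ∈ W := fun l => by
        have hperp : col d l ∈ C.o.perp (C.o.perp W) := by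
          intro a ha
          have ha1 : fo a e = 0 := ha e (hW ▸ Submodule.subset_span (Set.mem_insert _ _))
          have ha2 : fo a p₁ = 0 := ha p₁ (hW ▸ Submodule.subset_span (Set.mem_insert_of_mem _ rfl))
          have e : pc fo a d = 0 := C.sext fun x => by
            rw [← C.tau_pc, hd, sub_eq_add_neg, (tf_semi C.data).add_left, (reflex C.data).neg_left,
              C.s.refl.zero_left]
            conv_lhs => enter [1]; rw [← hfix a ha1 ha2 x, C.iso h hhX]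
            exact add_neg_cancel _
          exact congrFun e l
        rwa [C.o.perp_perp] at hperp
      have hfE : ∀ z, (∀ l, col z l ∈ Submodule.span F {e}) → h ⬝ₘ z = z := fun z hz => by
        conv_lhs => rw [sum_cols z, Matrix.mulVec_sum]
        conv_rhs => rw [sum_cols z]
        exact Finset.sum_congr rfl fun l _ => hfix _ (heE _ (hz l)).1 (heE _ (hz l)).2 _
      obtain ⟨c, hc⟩ : ∃ c, c = (fo p₁ p₁)⁻¹ • pc fo p₁ d := ⟨_, rfl⟩
      have hdc : ∀ l, col (d - tm p₁ c) l ∈ Submodule.span F {e} := fun l => by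
        obtain ⟨x, y, hxy⟩ := Submodule.mem_span_pair.mp (hW ▸ hdW l)
        refine Submodule.mem_span_singleton.mpr ⟨x, ?_⟩
        rw [col_sub, col_tm, hc, Pi.smul_apply, smul_eq_mul, pc, ← hxy, C.add_left, C.smul_left, C.smul_left, he1]
        match_scalars <;> field_simp <;> ring
      rw [← hd, show h ⬝ₘ d - d = h ⬝ₘ (tm p₁ c) - tm p₁ c by
        conv_lhs => rw [show d = tm p₁ c + (d - tm p₁ c) by abel, Matrix.mulVec_add, hfE _ hdc]
        abel]
      exact hfE _ (hmid c)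
    · rintro h ⟨hhX, hfix, hmid⟩
      refine ⟨mul_mem (mul_mem (C.right_mem htiso) hhX) (inv_mem (C.right_mem htiso)), fun a ha ha' x => ?_,
        fun x l => ?_⟩
      · rw [gl_mul_mulVec, gl_mul_mulVec, kr_inv, kr_tm, inv_one, Units.val_one, Matrix.one_mulVec, hfix a ha ha', kr_tm,
          Units.val_one, Matrix.one_mulVec, gl_mulVec_inv_cancel]
      · rw [gl_mul_mulVec, gl_mul_mulVec, kr_inv, kr_tm, inv_one, Units.val_one, Matrix.one_mulVec]
        have e : tm p₁ x = (kr (1 : GL α F) t) ⬝ₘ (tm p₁ (((t⁻¹ : GL β F) : Matrix β β F) *ᵥ x)) := by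
          rw [kr_tm, Units.val_one, Matrix.one_mulVec, gl_mulVec_inv_cancel]
        conv => enter [2, 1, 2]; rw [e]
        rw [← Matrix.mulVec_sub]
        exact kr_one_right_col t _ l (hmid _)
  have hkG : k ∈ G := ⟨hkX, hkfix, fun x l => by
    rw [hk1, add_sub_cancel_left, col_tm]
    exact Submodule.smul_mem _ _ (Submodule.mem_span_singleton_self e)⟩
  obtain ⟨r', hr'⟩ := kr_left_of_fix C h2 (hGK hkG) (fun h => h1' (by rw [h, C.o.zero_left])) hk2
  obtain ⟨z, hz⟩ := (C.o.nondeg e he0).2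
  obtain ⟨z', hz'⟩ : ∃ z', z' = z - (fo z p₁ / fo p₁ p₁) • p₁ := ⟨_, rfl⟩
  have hz1 : fo p₁ z' = 0 := by
    rw [C.symm, hz', C.sub_left, C.smul_left, div_mul_cancel₀ _ h1, sub_self]
  have hz2 : fo e z' = fo e z := by rw [hz', C.sub_right, C.smul_right, he1, mul_zero, sub_zero]
  refine ⟨1 + fo ((r' : Matrix α α F) *ᵥ p₁) z' / fo e z, fun x => ?_⟩
  have e1 := hk1 x
  rw [hr', kr_tm, Units.val_one, Matrix.one_mulVec] at e1
  have e2 := congrArg (pc fo z') e1
  rw [C.pc_add, C.pc_tm, C.pc_tm, C.pc_tm, hz1, hz2, zero_smul, zero_add] at e2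
  refine smul_right_injective _ hz ?_
  change fo e z • _ = fo e z • _
  rw [smul_smul, mul_add, mul_div_cancel₀ _ hz, add_smul, e2, mul_one]
  module

/-- A scalar-free twist of the middle line is impossible in dimension three. -/
theorem bend [Finite F] (h2 : Fintype.card β = 2) (hab : Fintype.card α = 4 → Aniso fo) (h3 : Fintype.card α = 3)
    {p₁ p₂ : α → F} (h1 : fo p₁ p₁ ≠ 0) (h1' : fo p₂ p₂ ≠ 0) (h12 : fo p₁ p₂ = 0) {h : GL (α × β) F} (hh : h ∈ X)
    (hP : ∀ x, h ⬝ₘ (tm p₁ x) = tm p₁ x ∧ h ⬝ₘ (tm p₂ x) = tm p₂ x) {n : α → F} (hn : fo n n ≠ 0)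
    (hn1 : fo n p₁ = 0) (hn2 : fo n p₂ = 0) {s : GL β F}
    (hsiso : ∀ u v, fs ((s : Matrix β β F) *ᵥ u) ((s : Matrix β β F) *ᵥ v) = fs u v)
    (hN : ∀ x, h ⬝ₘ (tm n x) = tm n ((s : Matrix β β F) *ᵥ x)) :
    ∃ l : F, ∀ x, (s : Matrix β β F) *ᵥ x = l • x := by
  classical
  by_contra hns
  push Not at hns
  obtain ⟨c, hc⟩ := C.form2 h2 (Matrix.toLin' (s : Matrix β β F))
  simp only [Matrix.toLin'_apply] at hc
  obtain ⟨Y, hY⟩ : ∃ Y : (β → F) →ₗ[F] β → F, ∀ x, Y x = (s : Matrix β β F) *ᵥ x - c • x :=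
    ⟨Matrix.toLin' (s : Matrix β β F) - c • LinearMap.id, fun x => by simp⟩
  have hYs : ∀ u v, fs (Y u) v = -fs u (Y v) := fun u v => by
    rw [hY, hY, C.s.sub_left, C.s.sub_right, C.s.refl.semi.smul_left, C.s.smul_right]
    linear_combination hc u v
  have hinv : ∀ x, ((s⁻¹ : GL β F) : Matrix β β F) *ᵥ x = (2 * c) • x - (s : Matrix β β F) *ᵥ x := fun x =>
    C.sext fun v => by
      rw [C.s.sub_left, C.s.refl.semi.smul_left]
      have e1 := hsiso (((s⁻¹ : GL β F) : Matrix β β F) *ᵥ x) v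
      rw [gl_mulVec_inv_cancel] at e1
      linear_combination hc x v - e1
  have hli : LinearIndependent F ![p₁, p₂, n] := C.linIndep_orth (fun i => by fin_cases i <;> assumption)
    (fun i j hij => by
      fin_cases i <;> fin_cases j <;>
        first
        | exact absurd rfl hij
        | assumption
        | (change fo _ _ = 0; rw [C.symm]; assumption))
  have hdecomp : ∀ a, ∃ u v l : F, a = u • p₁ + v • p₂ + l • n := fun a => by
    refine ⟨fo a p₁ / fo p₁ p₁, fo a p₂ / fo p₂ p₂, fo a n / fo n n, sub_eq_zero.mp (C.perp_triv3 h3 hli ?_ ?_ ?_)⟩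
      <;>
    · simp only [C.sub_left, C.add_left, C.smul_left, h12, C.symm p₁ p₂, hn1, hn2, C.symm n p₁, C.symm n p₂]
      field_simp
      ring
  have hgen : ∀ a x, h ⬝ₘ (tm a x) = tm a x + tm ((fo a n / fo n n) • n) ((s : Matrix β β F) *ᵥ x - x) := fun a x => by
    obtain ⟨u, v, l, rfl⟩ := hdecomp a
    have e : fo (u • p₁ + v • p₂ + l • n) n / fo n n = l := by
      simp only [C.add_left, C.smul_left, C.symm n p₁, C.symm n p₂, hn1, hn2]
      field_simp
      ring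
    rw [e]
    simp only [tm_add_left, tm_smul_left, Matrix.mulVec_add, Matrix.mulVec_smul, (hP x).1, (hP x).2, hN, tm_sub_right]
    module
  have hne : ∀ (z : β → F) (l : F), z ≠ 0 → Y z ≠ l • z := by
    intro z l hz hl
    have hsz : (s : Matrix β β F) *ᵥ z = (c + l) • z := by
      rw [hY] at hl
      linear_combination (norm := module) hl
    have hK := stab C hz hh fun a => ⟨a + (c + l - 1) • ((fo a n / fo n n) • n), by
      rw [hgen, hsz, show (c + l) • z - z = (c + l - 1) • z by module, tm_smul_right, tm_add_left]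
      simp only [tm_smul_left]⟩
    obtain ⟨r, hr⟩ := kr_left_of_fix C h2 hK (fun e => h1 (by rw [e, C.o.zero_left])) fun x => (hP x).1
    obtain ⟨x, hx⟩ := hns (fo ((r : Matrix α α F) *ᵥ n) n / fo n n)
    refine hx ?_
    have e := congrArg (pc fo n) (hN x)
    rw [hr, kr_tm, Units.val_one, Matrix.one_mulVec, C.pc_tm, C.pc_tm] at e
    rw [div_eq_inv_mul, ← smul_smul, e, smul_smul, inv_mul_cancel₀ hn, one_smul]
  obtain ⟨γ, hγ, hγ2⟩ := C.hex.resolve_right (by omega)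
  obtain ⟨x₀, y₀, hp⟩ := C.exists_norm h1 h1' h12 ((1 - γ ^ 2) * fo n n)
  obtain ⟨p, hpdef⟩ : ∃ p, p = x₀ • p₁ + y₀ • p₂ := ⟨_, rfl⟩
  rw [← hpdef] at hp
  have hγ0 : (1 - γ ^ 2 : F) ≠ 0 := sub_ne_zero.mpr (Ne.symm hγ2)
  have hpp : fo p p ≠ 0 := by rw [hp]; exact mul_ne_zero hγ0 hn
  have hpn : fo p n = 0 := by
    rw [hpdef, C.add_left, C.smul_left, C.smul_left, C.symm n p₁, C.symm n p₂, hn1, hn2]; ring
  obtain ⟨v', hv'⟩ : ∃ v', v' = γ • n + p := ⟨_, rfl⟩
  have hnv : fo n v' = γ * fo n n := by rw [hv', C.add_right, C.smul_right, C.symm p n, hpn, add_zero]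
  have hvv : fo v' v' = fo n n := by
    simp only [hv', C.add_left, C.add_right, C.smul_left, C.smul_right, hpn, C.symm p n, hp]; ring
  obtain ⟨d, hd⟩ : ∃ d, d = n - v' := ⟨_, rfl⟩
  have hdd : fo d d = 2 * (1 - γ) * fo n n := by
    rw [hd, C.sub_left, C.sub_right, C.sub_right, hnv, hvv, C.symm n v', hnv]; ring
  have hd0 : fo d d ≠ 0 := by
    rw [hdd]
    exact mul_ne_zero (mul_ne_zero C.h2 (sub_ne_zero.mpr fun e => hγ2 (by rw [← e, one_pow]))) hn
  obtain ⟨r, hr, -, hriso⟩ := C.exists_rf hd0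
  have hrn : (r : Matrix α α F) *ᵥ n = v' := by
    have e : fo n d = (1 - γ) * fo n n := by rw [hd, C.sub_right, hnv]; ring
    rw [hr, e, ← mul_assoc, ← hdd, div_self hd0, one_smul, hd]
    abel
  have hrr : r * r = 1 := gl_ext_mulVec fun a => by
    rw [gl_mul_mulVec, hr a, Matrix.mulVec_sub, Matrix.mulVec_smul, hr, hr d, Units.val_one, Matrix.one_mulVec]
    match_scalars <;> field_simp <;> ring
  obtain ⟨π, hπ⟩ : ∃ π : (α → F) → α → F, ∀ a, π a = (fo a n / fo n n) • n := ⟨_, fun _ => rfl⟩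
  obtain ⟨π', hπ'⟩ : ∃ π' : (α → F) → α → F, ∀ a, π' a = (fo a v' / fo n n) • v' := ⟨_, fun _ => rfl⟩
  obtain ⟨k, hk⟩ : ∃ k, k = h * (kr r (1 : GL β F) * h⁻¹ * kr r 1) := ⟨_, rfl⟩
  have hkX : k ∈ X :=
    hk ▸ mul_mem hh (mul_mem (mul_mem (C.left_mem hriso) (inv_mem hh)) (C.left_mem hriso))
  have hhinv : ∀ a x, h⁻¹ ⬝ₘ (tm a x) = tm a x + tm (π a) (((s⁻¹ : GL β F) : Matrix β β F) *ᵥ x - x) := fun a x => by
    refine gl_mulVec_injective h ?_
    change h ⬝ₘ _ = h ⬝ₘ _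
    rw [gl_mulVec_inv_cancel, Matrix.mulVec_add, hgen, hgen, hπ, C.smul_left, div_mul_cancel₀ _ hn, Matrix.mulVec_sub,
      gl_mulVec_inv_cancel]
    simp only [tm_sub_right, tm_smul_left]
    module
  have hrev : ∀ a x, (kr r (1 : GL β F) * h⁻¹ * kr r 1) ⬝ₘ (tm a x) =
      tm a x + tm (π' a) (((s⁻¹ : GL β F) : Matrix β β F) *ᵥ x - x) := fun a x => by
    have hrv : (r : Matrix α α F) *ᵥ ((r : Matrix α α F) *ᵥ a) = a := by
      rw [← gl_mul_mulVec, hrr, Units.val_one, Matrix.one_mulVec]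
    have e : fo ((r : Matrix α α F) *ᵥ a) n = fo a v' := by
      conv_rhs => rw [← hrn, ← hrv, hriso]
    rw [gl_mul_mulVec, gl_mul_mulVec, kr_tm, Units.val_one, Matrix.one_mulVec, hhinv, Matrix.mulVec_add, kr_tm, kr_tm,
      Units.val_one, Matrix.one_mulVec, Matrix.one_mulVec, hrv, hπ, e, Matrix.mulVec_smul, hrn, ← hπ']
  have hkgen : ∀ a x, k ⬝ₘ (tm a x) =
      tm (a + (c - 1) • (π a + π' a) + (2 - 2 * c) • π (π' a)) x + tm (π a - π' a) (Y x) := fun a x => by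
    rw [hk, gl_mul_mulVec, hrev, Matrix.mulVec_add, hgen, hgen, ← hπ, ← hπ]
    have e2 : (s : Matrix β β F) *ᵥ (((s⁻¹ : GL β F) : Matrix β β F) *ᵥ x - x) -
        (((s⁻¹ : GL β F) : Matrix β β F) *ᵥ x - x) = (2 - 2 * c) • x := by
      rw [Matrix.mulVec_sub, gl_mulVec_inv_cancel, hinv]; module
    rw [e2, hinv, hY]
    simp only [tm_add_left, tm_sub_left, tm_smul_left, tm_sub_right, tm_smul_right]
    module
  obtain ⟨P', hP'⟩ : ∃ P', P' = Submodule.span F ({n, p} : Set (α → F)) := ⟨_, rfl⟩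
  have hnP : n ∈ P' := hP' ▸ Submodule.subset_span (Set.mem_insert _ _)
  have hpP : p ∈ P' := hP' ▸ Submodule.subset_span (Set.mem_insert_of_mem _ rfl)
  have hvP : v' ∈ P' := hv' ▸ add_mem (P'.smul_mem _ hnP) hpP
  have hπP : ∀ a, π a ∈ P' := fun a => hπ a ▸ P'.smul_mem _ hnP
  have hπ'P : ∀ a, π' a ∈ P' := fun a => hπ' a ▸ P'.smul_mem _ hvP
  obtain ⟨A, hA⟩ : ∃ A : (α → F) → α → F, ∀ a, A a = a + (c - 1) • (π a + π' a) + (2 - 2 * c) • π (π' a) :=
    ⟨_, fun _ => rfl⟩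
  obtain ⟨B, hB⟩ : ∃ B : (α → F) → α → F, ∀ a, B a = π a - π' a := ⟨_, fun _ => rfl⟩
  have hv0 : v' ≠ 0 := fun e => hn (by rw [← hvv, e, C.o.zero_left])
  obtain ⟨l, hl⟩ := lemG C h2 hab hn hpp (by rw [C.symm, hpn]) hkX
    (fun a ha ha' x => by
      have e : fo a v' = 0 := by rw [hv', C.add_right, C.smul_right, ha, ha', mul_zero, add_zero]
      rw [hkgen, hπ, hπ', hπ, ha, e]
      simp only [zero_div, zero_smul, C.o.zero_left, add_zero, sub_zero, smul_zero, tm_zero_left])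
    (A := A) (B := B)
    (fun a ha => hP' ▸ (hA a ▸ add_mem (add_mem (hP' ▸ ha) (P'.smul_mem _ (add_mem (hπP a) (hπ'P a))))
      (P'.smul_mem _ (hπP _))))
    (fun a _ => hP' ▸ (hB a ▸ sub_mem (hπP a) (hπ'P a)))
    hγ0
    (fun a ha => by
      obtain ⟨u, v, rfl⟩ := Submodule.mem_span_pair.mp ha
      rw [hB, hB]
      simp only [hπ, hπ', C.sub_left, C.add_left, C.smul_left, hpn, C.symm n v', hnv, hvv,
        show fo p v' = fo p p by rw [hv', C.add_right, C.smul_right, hpn, mul_zero, zero_add], hp]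
      rw [hv']
      match_scalars <;> field_simp <;> ring)
    (S := Y) hYs hne
    (fun a _ x => by rw [hkgen, hA, hB]) (w := v') (hP' ▸ hvP) hv0
  simp only [hB, hA, hπ, hπ', C.add_left, C.smul_left, hnv, hvv, C.symm n v'] at hl
  have e1 := congrArg (fun z => fo z n) hl
  have e2 := congrArg (fun z => fo z p) hl
  simp only [C.sub_left, C.add_left, C.smul_left, hnv, hvv, C.symm n v', hv', hpn, C.symm p n] at e1 e2
  field_simp at e1 e2
  have e3 : γ * fo n n * fo p p = 0 := by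
    linear_combination (fo p p) * e1 - γ * fo n n * e2
  exact mul_ne_zero (mul_ne_zero hγ hn) hpp e3

/-- No conjugate of a reflection lives on a plane. -/
theorem no_plane [Finite F] (h2 : Fintype.card β = 2) (hab : Fintype.card α = 4 → Aniso fo) {g k : GL (α × β) F} {u : α → F}
    (H : Conj fo fs X g k u) {p₁ p₂ : α → F} (h1 : fo p₁ p₁ ≠ 0) (h1' : fo p₂ p₂ ≠ 0) (h12 : fo p₁ p₂ = 0)
    (hfix : ∀ a, a ∈ fixSub g ↔ fo a p₁ = 0 ∧ fo a p₂ = 0) : False := by
  classical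
  have hT : ∀ a, fo a p₁ = 0 → fo a p₂ = 0 → ∀ x, g ⬝ₘ (tm a x) = tm a x := fun a e e' =>
    (hfix a).mpr ⟨e, e'⟩
  obtain ⟨v, hv, hv1, hv2⟩ := C.exists_third h1 h1' h12
  obtain ⟨i⟩ : Nonempty β := Fintype.card_pos_iff.mp (by omega)
  obtain ⟨o, ho⟩ : ∃ o : β → F, o ≠ 0 := ⟨Pi.single i 1, by simp⟩
  obtain ⟨o', ho'⟩ := C.partner ho
  obtain ⟨H₁, hH₁⟩ : ∃ L : (β → F) →ₗ[F] β → F, ∀ w, L w = (fo p₁ p₁)⁻¹ • pc fo p₁ (k ⬝ₘ (tm u w)) :=
    ⟨{ toFun := fun w => (fo p₁ p₁)⁻¹ • pc fo p₁ (k ⬝ₘ (tm u w))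
       map_add' := fun a b => by rw [tm_add_right, Matrix.mulVec_add, C.pc_add, smul_add]
       map_smul' := fun r a => by rw [tm_smul_right, Matrix.mulVec_smul, C.pc_smul, smul_comm, RingHom.id_apply] },
      fun _ => rfl⟩
  obtain ⟨H₂, hH₂⟩ : ∃ L : (β → F) →ₗ[F] β → F, ∀ w, L w = (fo p₂ p₂)⁻¹ • pc fo p₂ (k ⬝ₘ (tm u w)) :=
    ⟨{ toFun := fun w => (fo p₂ p₂)⁻¹ • pc fo p₂ (k ⬝ₘ (tm u w))
       map_add' := fun a b => by rw [tm_add_right, Matrix.mulVec_add, C.pc_add, smul_add]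
       map_smul' := fun r a => by rw [tm_smul_right, Matrix.mulVec_smul, C.pc_smul, smul_comm, RingHom.id_apply] },
      fun _ => rfl⟩
  have hneg : ∀ w, k ⬝ₘ (tm u w) = tm p₁ (H₁ w) + tm p₂ (H₂ w) := fun w => by
    funext q
    have hcol := C.plane_perp h1 h1' h12 (v := col (k ⬝ₘ (tm u w)) q.2)
      fun a ha ha' => congrFun (H.pc_zero C ((hfix a).mpr ⟨ha, ha'⟩) w) q.2
    have e := congrFun hcol q.1
    simp only [Pi.add_apply, Pi.smul_apply, smul_eq_mul] at e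
    rw [Pi.add_apply, tm_apply, tm_apply, hH₁, hH₂, Pi.smul_apply, Pi.smul_apply, smul_eq_mul, smul_eq_mul, pc, pc,
      show (k ⬝ₘ (tm u w)) q = col (k ⬝ₘ (tm u w)) q.2 q.1 from rfl, e]
    ring
  have hnofix : ∀ (a : α → F) (z : β → F), z ≠ 0 → (fo a p₁ ≠ 0 ∨ fo a p₂ ≠ 0) → g ⬝ₘ (tm a z) ≠ tm a z :=
    fun a z hz ha hx => by
      have := (hfix a).mp (fix_extend C h2 hab H.gmem H.inv hv ((hfix v).mpr ⟨hv1, hv2⟩) hz hx)
      rcases ha with h' | h'
      · exact h' this.1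
      · exact h' this.2
  have horth : ∀ (c₁ c₂ : F) (z : β → F),
      (∀ w, c₁ * fo p₁ p₁ * fs z (H₁ w) + c₂ * fo p₂ p₂ * fs z (H₂ w) = 0) →
      g ⬝ₘ (tm (c₁ • p₁ + c₂ • p₂) z) = tm (c₁ • p₁ + c₂ • p₂) z := fun c₁ c₂ z h => H.fix _ fun w => by
    rw [hneg, (tf_semi C.data).add_right, C.tau, C.tau]
    simp only [C.add_left, C.smul_left, h12, C.symm p₁ p₂]
    linear_combination h w
  have hH₁inj : Function.Injective H₁ := by
    rw [← LinearMap.ker_eq_bot]
    by_contra hker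
    obtain ⟨w₀, hw₀, hw₀0⟩ := Submodule.exists_mem_ne_zero_of_ne_bot hker
    have hw₀' : H₁ w₀ = 0 := hw₀
    obtain ⟨w₁, hw₁⟩ := C.partner hw₀0
    obtain ⟨z, hz0, hz⟩ : ∃ z, z ≠ 0 ∧ fs z (H₁ w₁) = 0 := by
      by_cases h : H₁ w₁ = 0
      · exact ⟨o, ho, by rw [h, C.s.refl.zero_right]⟩
      · exact ⟨H₁ w₁, h, C.s.alt _⟩
    refine hnofix p₁ z hz0 (Or.inl h1) ?_
    have := horth 1 0 z fun w => by
      rw [C.expand2 h2 hw₁ w, map_sub, map_smul, map_smul, hw₀', C.s.sub_right, C.s.smul_right, C.s.smul_right, hz,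
        C.s.refl.zero_right]
      ring
    simpa using this
  have hH₁surj : Function.Surjective H₁ := LinearMap.injective_iff_surjective.mp hH₁inj
  obtain ⟨M, hM⟩ : ∃ M : (β → F) →ₗ[F] β → F, ∀ w, M (H₁ w) = H₂ w := by
    refine ⟨H₂ ∘ₗ (LinearEquiv.ofBijective H₁ ⟨hH₁inj, hH₁surj⟩).symm.toLinearMap, fun w => ?_⟩
    rw [LinearMap.comp_apply, LinearEquiv.coe_coe]
    exact congrArg H₂ ((LinearEquiv.ofBijective H₁ ⟨hH₁inj, hH₁surj⟩).symm_apply_apply w)
  obtain ⟨c, hc⟩ := C.form2 h2 M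
  obtain ⟨S, hS⟩ : ∃ S : (β → F) →ₗ[F] β → F, ∀ x, M x = c • x + S x :=
    ⟨M - c • LinearMap.id, fun x => by simp⟩
  have hSk : ∀ a b, fs (S a) b = -fs a (S b) := fun a b => by
    have := hc a b
    rw [hS, hS, C.s.refl.semi.add_left, C.s.refl.semi.add_right, C.s.refl.semi.smul_left, C.s.smul_right] at this
    linear_combination this
  obtain ⟨ν, hν⟩ := C.skew_sq h2 S hSk
  have hne : ∀ (z : β → F) (l : F), z ≠ 0 → S z ≠ l • z := fun z l hz hl => by
    refine hnofix ((l - c) • ((fo p₁ p₁)⁻¹ • p₁) + (1 : F) • ((fo p₂ p₂)⁻¹ • p₂)) z hz (Or.inr ?_) ?_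
    · simp only [C.add_left, C.smul_left, h12, mul_zero, zero_add, inv_mul_cancel₀ h1', one_mul, ne_eq, one_ne_zero,
        not_false_eq_true]
    · rw [smul_smul, smul_smul]
      refine horth _ _ z fun w => ?_
      rw [← hM, hS, C.s.refl.semi.add_right, C.s.smul_right]
      have e : fs z (S (H₁ w)) = -(l * fs z (H₁ w)) := by
        have := hSk z (H₁ w)
        rw [hl, C.s.refl.semi.smul_left] at this
        linear_combination this
      rw [e]
      have e1 := inv_mul_cancel₀ h1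
      have e2 := inv_mul_cancel₀ h1'
      linear_combination (l - c) * fs z (H₁ w) * e1 + (c - l) * fs z (H₁ w) * e2
  have hν0 : ν ≠ 0 := fun e => C.no_root hν ho hne 0 (by rw [e]; ring)
  -- the negated space and the coordinates
  obtain ⟨N, hN⟩ : ∃ N : (β → F) → α × β → F, ∀ x, N x = tm p₁ x + tm p₂ (M x) := ⟨_, fun _ => rfl⟩
  have hgN : ∀ x, g ⬝ₘ (N x) = -N x := fun x => by
    obtain ⟨w, rfl⟩ := hH₁surj x
    rw [hN, hM, ← hneg, H.neg]
  have hfixN : ∀ y, (∀ x, τ y (N x) = 0) → g ⬝ₘ y = y := fun y hy => H.fix y fun w => by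
    rw [hneg, ← hM, ← hN, hy]
  obtain ⟨D, hD⟩ : ∃ D, D = fo p₁ p₁ + fo p₂ p₂ * (c ^ 2 - ν) := ⟨_, rfl⟩
  have hpair : ∀ (a : α → F) z x, τ (tm a z) (N x) =
      (fo a p₁ + c * fo a p₂) * fs z x + fo a p₂ * fs z (S x) := fun a z x => by
    rw [hN, (tf_semi C.data).add_right, C.tau, C.tau, hS, C.s.refl.semi.add_right, C.s.smul_right]; ring
  have hSS : ∀ a b, fs (S a) (S b) = -(ν * fs a b) := fun a b => by
    rw [hSk, hν, C.s.smul_right]
  have hnorm : ∀ x y, τ (N x) (N y) = D * fs x y := fun x y => by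
    rw [show N x = tm p₁ x + tm p₂ (M x) from hN x, (tf_semi C.data).add_left, hpair, hpair, hS,
      C.s.refl.semi.add_left, C.s.refl.semi.add_left, C.s.refl.semi.smul_left, C.s.refl.semi.smul_left, hSS,
      C.symm p₁ p₂, h12, hD]
    linear_combination c * fo p₂ p₂ * hSk x y
  have hD0 : D ≠ 0 := fun h => by
    have h0 : N o = 0 := by
      have e := hfixN (N o) fun x => by rw [hnorm, h, zero_mul]
      rw [hgN] at e
      have : (2 : F) • N o = 0 := by linear_combination (norm := module) -e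
      exact (smul_eq_zero.mp this).resolve_left C.h2
    have e2 := congrArg (pc fo p₁) h0
    rw [hN, C.pc_add, C.pc_tm, C.pc_tm, C.symm p₁ p₂, h12, zero_smul, add_zero] at e2
    refine ho ((smul_eq_zero.mp ?_).resolve_left h1)
    rw [e2]
    exact funext fun l => C.o.zero_left _
  have hdec : ∀ (y : α × β → F) z, (∀ x, τ y (N x) = D * fs z x) → g ⬝ₘ y = y - (2 : F) • N z := fun y z h => by
    have e := hfixN (y - N z) fun x => by
      rw [sub_eq_add_neg, (tf_semi C.data).add_left, (reflex C.data).neg_left, h, hnorm, add_neg_cancel]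
    rw [Matrix.mulVec_sub, hgN] at e
    linear_combination (norm := module) e
  have hg1 : ∀ x, g ⬝ₘ (tm p₁ x) = tm p₁ x - (2 : F) • N ((fo p₁ p₁ / D) • x) := fun x => hdec _ _ fun y => by
    rw [hpair, h12, C.s.refl.semi.smul_left]
    field_simp
    ring
  have hg2 : ∀ x, g ⬝ₘ (tm p₂ x) = tm p₂ x - (2 : F) • N ((fo p₂ p₂ / D) • (c • x - S x)) := fun x =>
    hdec _ _ fun y => by
      rw [hpair, C.symm p₁ p₂, h12, C.s.refl.semi.smul_left, C.s.sub_left, C.s.refl.semi.smul_left, hSk]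
      field_simp
      ring
  obtain ⟨P, hP⟩ : ∃ P, P = Submodule.span F ({p₁, p₂} : Set (α → F)) := ⟨_, rfl⟩
  have hp1P : p₁ ∈ P := hP ▸ Submodule.subset_span (Set.mem_insert _ _)
  have hp2P : p₂ ∈ P := hP ▸ Submodule.subset_span (Set.mem_insert_of_mem _ rfl)
  obtain ⟨A, hA⟩ : ∃ A : (α → F) → α → F, ∀ a, A a =
      (fo a p₁ / fo p₁ p₁) • ((1 - 2 * fo p₁ p₁ / D) • p₁ - (2 * fo p₁ p₁ * c / D) • p₂) +
      (fo a p₂ / fo p₂ p₂) • (-(2 * fo p₂ p₂ * c / D) • p₁ + (1 - 2 * fo p₂ p₂ * (c ^ 2 - ν) / D) • p₂) :=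
    ⟨_, fun _ => rfl⟩
  obtain ⟨B, hB⟩ : ∃ B : (α → F) → α → F, ∀ a, B a =
      (fo a p₁ / fo p₁ p₁) • (-(2 * fo p₁ p₁ / D) • p₂) + (fo a p₂ / fo p₂ p₂) • ((2 * fo p₂ p₂ / D) • p₁) :=
    ⟨_, fun _ => rfl⟩
  have hcoord : ∀ a ∈ Submodule.span F {p₁, p₂}, a = (fo a p₁ / fo p₁ p₁) • p₁ + (fo a p₂ / fo p₂ p₂) • p₂ :=
    fun a ha => C.plane_perp h1 h1' h12 fun b hb hb' => by
      obtain ⟨s, t, rfl⟩ := Submodule.mem_span_pair.mp ha
      rw [C.add_left, C.smul_left, C.smul_left, C.symm b p₁, C.symm b p₂, hb, hb']; ring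
  have hgP : ∀ a ∈ Submodule.span F {p₁, p₂}, ∀ x, g ⬝ₘ (tm a x) = tm (A a) x + tm (B a) (S x) := fun a ha x => by
    conv_lhs => rw [hcoord a ha]
    rw [tm_add_left, tm_smul_left, tm_smul_left, Matrix.mulVec_add, Matrix.mulVec_smul, Matrix.mulVec_smul, hg1, hg2,
      hA, hB]
    simp only [hN, hS, map_smul, map_sub, hν, tm_add_left, tm_sub_left, tm_smul_left, tm_add_right, tm_sub_right,
      tm_smul_right]
    match_scalars <;> ring
  have hmemP : ∀ x y : F, x • p₁ + y • p₂ ∈ Submodule.span F {p₁, p₂} := fun x y =>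
    Submodule.mem_span_pair.mpr ⟨x, y, rfl⟩
  have hκ : -(4 * fo p₁ p₁ * fo p₂ p₂ / D ^ 2) ≠ 0 :=
    neg_ne_zero.mpr (div_ne_zero (mul_ne_zero (mul_ne_zero (by
      rw [show (4 : F) = 2 * 2 by norm_num]; exact mul_ne_zero C.h2 C.h2) h1) h1') (pow_ne_zero 2 hD0))
  have hG := fun {w : α → F} => lemG C h2 hab h1 h1' h12 H.gmem hT (A := A) (B := B)
    (fun a _ => by
      rw [hA, ← hP]
      exact add_mem (P.smul_mem _ (sub_mem (P.smul_mem _ hp1P) (P.smul_mem _ hp2P)))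
        (P.smul_mem _ (add_mem (P.smul_mem _ hp1P) (P.smul_mem _ hp2P))))
    (fun a _ => by
      rw [hB, ← hP]
      exact add_mem (P.smul_mem _ (P.smul_mem _ hp2P)) (P.smul_mem _ (P.smul_mem _ hp1P)))
    hκ
    (fun a ha => by
      conv_rhs => rw [hcoord a ha]
      rw [hB (B a), hB a]
      simp only [C.add_left, C.smul_left, h12, C.symm p₁ p₂]
      match_scalars <;> field_simp <;> ring)
    (S := S) hSk hne hgP (w := w)
  obtain ⟨ε, hε⟩ : ∃ ε, ε = 1 - 2 * fo p₁ p₁ / D := ⟨_, rfl⟩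
  obtain ⟨l₁, hl₁⟩ := hG (w := p₁) (hP ▸ hp1P) (fun h => h1 (by rw [h, C.o.zero_left]))
  have e12 := congrArg (fun z => fo z p₂) hl₁
  simp only [hB, hA, C.add_left, C.sub_left, C.smul_left, h12, C.symm p₁ p₂] at e12
  field_simp at e12
  have hD2 : D = 2 * fo p₁ p₁ := by
    have : (2 : F) * (fo p₁ p₁ * fo p₁ p₁ * fo p₂ p₂) * (D - 2 * fo p₁ p₁) = 0 := by
      linear_combination -(fo p₁ p₁) * e12
    exact sub_eq_zero.mp ((mul_eq_zero.mp this).resolve_left (mul_ne_zero C.h2 (mul_ne_zero (mul_ne_zero h1 h1) h1')))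
  obtain ⟨l₂, hl₂⟩ := hG (w := (1 : F) • p₁ + (1 : F) • p₂) (hmemP 1 1) (fun h => h1 (by
    have := congrArg (fun z => fo z p₁) h
    simpa only [C.add_left, C.smul_left, C.o.zero_left, C.symm p₁ p₂, h12, one_mul, add_zero] using this))
  have f1 := congrArg (fun z => fo z p₁) hl₂
  have f2 := congrArg (fun z => fo z p₂) hl₂
  simp only [hB, hA, C.add_left, C.sub_left, C.smul_left, h12, C.symm p₁ p₂] at f1 f2
  simp only [mul_zero, zero_mul, add_zero, zero_add, sub_zero, zero_sub, one_mul, div_self h1, div_self h1'] at f1 f2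
  field_simp at f1 f2
  have hδ : fo p₂ p₂ * (c ^ 2 - ν) = fo p₁ p₁ := by linear_combination hD2 - hD
  have h4 : (4 : F) ≠ 0 := by rw [show (4 : F) = 2 * 2 by norm_num]; exact mul_ne_zero C.h2 C.h2
  have hc0 : c = 0 := by
    by_contra hc0
    have g1 : (4 : F) * 2 * fo p₁ p₁ * fo p₂ p₂ * c = 0 := by
      linear_combination f2 - f1 + (2 * fo p₁ p₁ + 2 * fo p₂ p₂) * hD2 - 4 * fo p₂ p₂ * hδ
    exact mul_ne_zero (mul_ne_zero (mul_ne_zero (mul_ne_zero h4 C.h2) h1) h1') hc0 g1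
  subst hc0
  have hq : fo p₂ p₂ * ν = -fo p₁ p₁ := by linear_combination -hδ
  have hg1' : ∀ x, g ⬝ₘ (tm p₁ x) = -tm p₂ (S x) := fun x => by
    rw [hg1, hN, hS, hD2]
    simp only [map_smul, zero_smul, zero_add, tm_smul_right]
    have := C.h2
    match_scalars <;> field_simp <;> ring
  have hg2' : ∀ x, g ⬝ₘ (tm p₂ x) = -(ν⁻¹ • tm p₁ (S x)) := fun x => by
    have e : fo p₂ p₂ / D = -(2 * ν)⁻¹ := by
      rw [hD2, inv_eq_one_div, neg_div', div_eq_div_iff (mul_ne_zero C.h2 h1) (mul_ne_zero C.h2 hν0)]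
      linear_combination 2 * hq
    rw [hg2, hN, hS, e]
    simp only [zero_smul, zero_sub, zero_add, map_smul, map_neg, hν, tm_smul_right, ← neg_one_smul F (S x)]
    have := C.h2
    match_scalars <;> field_simp <;> ring
  obtain ⟨t, -, htiso, hR⟩ := exists_rt (α := α) C.data (o := o) (c := (1 : F)) (C.s.alt o) (by rw [map_one]; ring)
  have ht : ∀ x, (t : Matrix β β F) *ᵥ x = x + fs x o • o := fun x => by
    refine sub_eq_zero.mp ((tm_eq_zero (a := p₁) ?_).resolve_left fun e => h1 (by rw [e, C.o.zero_left]))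
    have e := hR (tm p₁ x)
    rw [kr_tm, C.ctr_tm', Units.val_one, Matrix.one_mulVec, one_smul, tm_smul_left, ← tm_smul_right] at e
    rw [tm_sub_right, tm_add_right, e, sub_self]
  obtain ⟨S', hS'⟩ : ∃ S' : (β → F) →ₗ[F] β → F, ∀ x,
      S' x = (t : Matrix β β F) *ᵥ S (((t⁻¹ : GL β F) : Matrix β β F) *ᵥ x) :=
    ⟨Matrix.toLin' (t : Matrix β β F) ∘ₗ S ∘ₗ Matrix.toLin' ((t⁻¹ : GL β F) : Matrix β β F),
      fun x => by simp [Matrix.toLin'_apply]⟩
  have hν' : ∀ x, S' (S' x) = ν • x := fun x => by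
    rw [hS', hS', gl_inv_mulVec_cancel, hν, Matrix.mulVec_smul, gl_mulVec_inv_cancel]
  have hSk' : ∀ a b, fs (S' a) (S' b) = -(ν * fs a b) := fun a b => by
    rw [hS', hS', htiso, hSS]
    conv_rhs => rw [← gl_mulVec_inv_cancel t a, ← gl_mulVec_inv_cancel t b, htiso]
  obtain ⟨s, hs, hsi⟩ : ∃ s : GL β F, (∀ x, (s : Matrix β β F) *ᵥ x = ν⁻¹ • S (S' x)) ∧
      ∀ x, ((s⁻¹ : GL β F) : Matrix β β F) *ᵥ x = ν⁻¹ • S' (S x) := by
    refine ⟨⟨LinearMap.toMatrix' (ν⁻¹ • (S ∘ₗ S')), LinearMap.toMatrix' (ν⁻¹ • (S' ∘ₗ S)), ?_, ?_⟩,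
      fun x => ?_, fun x => ?_⟩
    · rw [← LinearMap.toMatrix'_comp, ← LinearMap.toMatrix'_id]
      refine congrArg _ (LinearMap.ext fun x => ?_)
      simp only [LinearMap.comp_apply, LinearMap.smul_apply, map_smul, hν', hν, smul_smul, LinearMap.id_apply]
      rw [show ν⁻¹ * (ν⁻¹ * (ν * ν)) = (1 : F) by field_simp, one_smul]
    · rw [← LinearMap.toMatrix'_comp, ← LinearMap.toMatrix'_id]
      refine congrArg _ (LinearMap.ext fun x => ?_)
      simp only [LinearMap.comp_apply, LinearMap.smul_apply, map_smul, hν', hν, smul_smul, LinearMap.id_apply]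
      rw [show ν⁻¹ * (ν⁻¹ * (ν * ν)) = (1 : F) by field_simp, one_smul]
    · rw [← Matrix.toLin'_apply, Matrix.toLin'_toMatrix']; rfl
    · change LinearMap.toMatrix' _ *ᵥ x = _
      rw [← Matrix.toLin'_apply, Matrix.toLin'_toMatrix']; rfl
  have hsiso : ∀ a b, fs ((s : Matrix β β F) *ᵥ a) ((s : Matrix β β F) *ᵥ b) = fs a b := fun a b => by
    rw [hs, hs, C.s.refl.semi.smul_left, C.s.smul_right, hSS, hSk']
    field_simp
  have hscal : ∀ l : F, ¬∀ x, ((s⁻¹ : GL β F) : Matrix β β F) *ᵥ x = l • x := by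
    intro l h
    have hl0 : l ≠ 0 := fun e => ho (by
      have := congrArg (fun z => (s : Matrix β β F) *ᵥ z) (h o)
      simp only [gl_mulVec_inv_cancel, e, zero_smul, Matrix.mulVec_zero] at this
      exact this)
    have hS'S : ∀ x, S' x = l • S x := fun x => by
      have e := h (ν⁻¹ • S x)
      rw [hsi, map_smul, map_smul, hν, map_smul, smul_smul, smul_smul, smul_smul, mul_assoc,
        inv_mul_cancel₀ hν0, mul_one] at e
      have e2 := congrArg (fun z => ν • z) e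
      simp only [smul_smul, mul_inv_cancel₀ hν0, one_smul] at e2
      rw [e2, show ν * (l * ν⁻¹) = l by field_simp]
    have hto : ((t⁻¹ : GL β F) : Matrix β β F) *ᵥ o = o := by
      conv_lhs => rw [show o = (t : Matrix β β F) *ᵥ o by rw [ht, C.s.alt, zero_smul, add_zero]]
      rw [gl_inv_mulVec_cancel]
    have e1 := hS' o
    rw [hto, ht, hS'S] at e1
    have hso : fs (S o) o ≠ 0 := fun h' => by
      obtain ⟨l', hl'⟩ := C.perp2 h2 ho h'
      exact hne o l' ho hl'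
    have hl1 : l = 1 := by
      have e2 := congrArg (fun z => fs z o) e1
      simp only [C.s.refl.semi.add_left, C.s.refl.semi.smul_left, C.s.alt, RingEquiv.refl_apply, mul_zero,
        add_zero] at e2
      exact mul_right_cancel₀ hso (by rw [e2, one_mul])
    rw [hl1, one_smul] at e1
    exact hso ((smul_eq_zero.mp (left_eq_add.mp e1)).resolve_right ho)
  obtain ⟨σ, hσ⟩ : ∃ σ, σ = g * (kr (1 : GL α F) t * g * (kr (1 : GL α F) t)⁻¹) := ⟨_, rfl⟩
  have hσX : σ ∈ X :=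
    hσ ▸ mul_mem H.gmem (mul_mem (mul_mem (C.right_mem htiso) H.gmem) (inv_mem (C.right_mem htiso)))
  have hσT : ∀ a, fo a p₁ = 0 → fo a p₂ = 0 → ∀ x, σ ⬝ₘ (tm a x) = tm a x := fun a e e' x => by
    rw [hσ, gl_mul_mulVec, gl_mul_mulVec, gl_mul_mulVec, kr_inv, kr_tm, inv_one, Units.val_one, Matrix.one_mulVec,
      hT a e e', kr_tm, Units.val_one, Matrix.one_mulVec, gl_mulVec_inv_cancel, hT a e e']
  have hσP : ∀ x, σ ⬝ₘ (tm p₁ x) = tm p₁ ((s : Matrix β β F) *ᵥ x) ∧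
      σ ⬝ₘ (tm p₂ x) = tm p₂ ((s : Matrix β β F) *ᵥ x) := fun x => by
    constructor
    · rw [hσ, gl_mul_mulVec, gl_mul_mulVec, gl_mul_mulVec, kr_inv, kr_tm, inv_one, Units.val_one, Matrix.one_mulVec,
        hg1', Matrix.mulVec_neg, kr_tm, Units.val_one, Matrix.one_mulVec, ← hS', Matrix.mulVec_neg, hg2', neg_neg, hs,
        tm_smul_right]
    · rw [hσ, gl_mul_mulVec, gl_mul_mulVec, gl_mul_mulVec, kr_inv, kr_tm, inv_one, Units.val_one, Matrix.one_mulVec,
        hg2', Matrix.mulVec_neg, Matrix.mulVec_smul, kr_tm, Units.val_one, Matrix.one_mulVec, ← hS', Matrix.mulVec_neg,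
        Matrix.mulVec_smul, hg1', smul_neg, neg_neg, hs, tm_smul_right]
  by_cases h4 : Fintype.card α = 4
  · obtain ⟨a, ha, hap⟩ := C.exists_orth ![p₁, p₂, v] (fun i => by fin_cases i <;> assumption)
      (fun i j hij => by
        fin_cases i <;> fin_cases j <;>
          first
          | exact absurd rfl hij
          | assumption
          | (change fo _ _ = 0; rw [C.symm]; assumption)) (by omega)
    have a1 : fo a p₁ = 0 := hap 0
    have a2 : fo a p₂ = 0 := hap 1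
    have a3 : fo a v = 0 := hap 2
    have h21 : fo p₂ p₁ = 0 := by rw [C.symm]; exact h12
    have hva : fo v a = 0 := by rw [C.symm]; exact a3
    haveI : Fintype F := Fintype.ofFinite F
    -- a singular vector in one of the two planes
    rcases plane_singular C (hab h4) h1 h1' hv ha h12 hv1 hv2 a1 a2 hva with
      ⟨x, y, he0, hee⟩ | ⟨x, y, he0, hee⟩
    · have hsiiso : ∀ a b, fs (((s⁻¹ : GL β F) : Matrix β β F) *ᵥ a) (((s⁻¹ : GL β F) : Matrix β β F) *ᵥ b) =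
          fs a b := fun a b => by rw [← hsiso, gl_mulVec_inv_cancel, gl_mulVec_inv_cancel]
      obtain ⟨w, hw⟩ : ∃ w, w = σ * kr (1 : GL α F) s⁻¹ := ⟨_, rfl⟩
      have hwP : ∀ z, w ⬝ₘ (tm v z) = tm v (((s⁻¹ : GL β F) : Matrix β β F) *ᵥ z) ∧
          w ⬝ₘ (tm a z) = tm a (((s⁻¹ : GL β F) : Matrix β β F) *ᵥ z) := fun z =>
        ⟨by rw [hw, gl_mul_mulVec, kr_tm, Units.val_one, Matrix.one_mulVec, hσT v hv1 hv2],
          by rw [hw, gl_mul_mulVec, kr_tm, Units.val_one, Matrix.one_mulVec, hσT a a1 a2]⟩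
      have hwT : ∀ b, fo b v = 0 → fo b a = 0 → ∀ z, w ⬝ₘ (tm b z) = tm b z := fun b hbv hba z => by
        have hb := C.expand4 h4 h1 h1' hv ha h12 hv1 hv2 a1 a2 hva b
        rw [hbv, hba, zero_div, zero_div, zero_smul, zero_smul, add_zero, add_zero] at hb
        rw [hb, hw, gl_mul_mulVec, kr_tm, Units.val_one, Matrix.one_mulVec, tm_add_left, tm_smul_left, tm_smul_left,
          Matrix.mulVec_add, Matrix.mulVec_smul, Matrix.mulVec_smul, (hσP _).1, (hσP _).2, gl_mulVec_inv_cancel,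
          tm_add_left, tm_smul_left, tm_smul_left]
      have hwX : w ∈ X := hw ▸ mul_mem hσX (C.right_mem hsiiso)
      obtain ⟨l, hl⟩ := shear C h2 hab hv ha hva he0 hee
        (by rw [C.add_left, C.smul_left, C.smul_left, C.symm v p₁, C.symm v p₂, hv1, hv2]; ring)
        (by rw [C.add_left, C.smul_left, C.smul_left, C.symm a p₁, C.symm a p₂, a1, a2]; ring) hwX hwT hwP
      rw [inv_inv] at hl
      refine hscal l⁻¹ fun z => ?_
      have hl0 : l ≠ 0 := fun e => ho (by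
        have := hl (((s⁻¹ : GL β F) : Matrix β β F) *ᵥ o)
        rw [gl_mulVec_inv_cancel, e, zero_smul] at this
        exact this)
      have e := hl (((s⁻¹ : GL β F) : Matrix β β F) *ᵥ z)
      rw [gl_mulVec_inv_cancel] at e
      conv_rhs => rw [e]
      rw [smul_smul, inv_mul_cancel₀ hl0, one_smul]
    · obtain ⟨l, hl⟩ := shear C h2 hab h1 h1' h12 he0 hee
        (by rw [C.add_left, C.smul_left, C.smul_left, hv1, a1]; ring)
        (by rw [C.add_left, C.smul_left, C.smul_left, hv2, a2]; ring) hσX hσT hσP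
      exact hscal l hl
  rcases Nat.lt_or_ge (Fintype.card α) 5 with hlt | h5
  · have h3 : Fintype.card α = 3 := by have := C.dim; omega
    have hsiiso : ∀ a b, fs (((s⁻¹ : GL β F) : Matrix β β F) *ᵥ a) (((s⁻¹ : GL β F) : Matrix β β F) *ᵥ b) = fs a b :=
      fun a b => by rw [← hsiso, gl_mulVec_inv_cancel, gl_mulVec_inv_cancel]
    obtain ⟨l, hl⟩ := bend C h2 hab h3 h1 h1' h12 (h := σ * kr (1 : GL α F) s⁻¹)
      (mul_mem hσX (C.right_mem hsiiso))
      (fun x => ⟨by rw [gl_mul_mulVec, kr_tm, Units.val_one, Matrix.one_mulVec, (hσP _).1, gl_mulVec_inv_cancel],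
        by rw [gl_mul_mulVec, kr_tm, Units.val_one, Matrix.one_mulVec, (hσP _).2, gl_mulVec_inv_cancel]⟩)
      hv hv1 hv2 hsiiso (fun x => by rw [gl_mul_mulVec, kr_tm, Units.val_one, Matrix.one_mulVec, hσT v hv1 hv2])
    exact hscal l hl
  · obtain ⟨a, ha, hap⟩ := C.exists_orth ![p₁, p₂, v] (fun i => by fin_cases i <;> assumption)
      (fun i j hij => by
        fin_cases i <;> fin_cases j <;>
          first
          | exact absurd rfl hij
          | assumption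
          | (change fo _ _ = 0; rw [C.symm]; assumption)) (by omega)
    have a1 : fo a p₁ = 0 := hap 0
    have a2 : fo a p₂ = 0 := hap 1
    have a3 : fo a v = 0 := hap 2
    obtain ⟨b, hb, hbp⟩ := C.exists_orth ![p₁, p₂, v, a] (fun i => by fin_cases i <;> assumption)
      (fun i j hij => by
        fin_cases i <;> fin_cases j <;>
          first
          | exact absurd rfl hij
          | assumption
          | (change fo _ _ = 0; rw [C.symm]; assumption)) (by simp; omega)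
    have b1 : fo b p₁ = 0 := hbp 0
    have b2 : fo b p₂ = 0 := hbp 1
    have b3 : fo b v = 0 := hbp 2
    have b4 : fo b a = 0 := hbp 3
    obtain ⟨e, he0, hee, heperp, -⟩ := C.exists_iso3 hv ha hb (by rw [C.symm]; exact a3) (by rw [C.symm]; exact b3)
      (by rw [C.symm]; exact b4)
    obtain ⟨l, hl⟩ := shear C h2 hab h1 h1' h12 he0 hee (heperp p₁ hv1 a1 b1) (heperp p₂ hv2 a2 b2) hσX hσT hσP
    exact hscal l hl

end Cfsg.Agent.Classical.TensorMax.SpO
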