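/-
A symmetric factor and a symplectic plane: the group consists of Kronecker products.
-/
import Cfsg.Agent.Lib.Classical.TensorMax.SpO.TwoPlane

set_option autoImplicit false
set_option linter.unusedSectionVars false

namespace Cfsg.Agent.Classical.TensorMax.SpO

open Matrix Module Cfsg.Geo
open Cfsg.Agent.Classical Cfsg.Agent.Classical.TensorMax Cfsg.Agent.Classical.TensorMax.Form

variable {α β : Type} [Fintype α] [DecidableEq α] [Fintype β] [DecidableEq β] {F : Type*} [Field F]
variable {fo : (α → F) → (α → F) → F} {fs : (β → F) → (β → F) → F} {X : Subgroup (GL (α × β) F)}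

local notation:max g:max " ⬝ₘ " x:max => ((g : GL (α × β) F) : Matrix (α × β) (α × β) F) *ᵥ x
local notation "τ" => tf (RingEquiv.refl F) fo fs

variable (C : Ctx fo fs X)

include C

/-- If the involution acts on the first factor only, its negated space is a fibre. -/
theorem Conj.good_fibre {g k : GL (α × β) F} {u : α → F} (H : Conj fo fs X g k u) (hG : Good g) :
    ∃ a, ∀ z, ∃ w, k ⬝ₘ (tm u z) = tm a w := by
  classical
  obtain ⟨r, rfl⟩ := hG
  have hu0 : u ≠ 0 := fun e => H.nonsing (by rw [e, C.o.zero_left])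
  rcases isEmpty_or_nonempty β with hβ | ⟨⟨i⟩⟩
  · exact ⟨u, fun z => ⟨z, funext fun p => isEmptyElim p.2⟩⟩
  obtain ⟨Z, hZ⟩ : ∃ Z, Z = k ⬝ₘ (tm u (Pi.single i 1)) := ⟨_, rfl⟩
  have hZ0 : Z ≠ 0 := fun h0 => by
    have h1 : tm u (Pi.single i (1 : F)) = 0 := gl_mulVec_injective k (by
      change k ⬝ₘ _ = k ⬝ₘ _
      rw [← hZ, h0, Matrix.mulVec_zero])
    have h2 := (tm_eq_zero h1).resolve_left hu0
    simpa using congrFun h2 i
  obtain ⟨j, hj⟩ : ∃ j, col Z j ≠ 0 := by
    by_contra hcon
    push Not at hcon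
    exact hZ0 (funext fun p => congrFun (hcon p.2) p.1)
  have hra : (r : Matrix α α F) *ᵥ col Z j = -col Z j := by
    rw [← kr_one_col, hZ, H.neg]
    rfl
  have hneg : ∀ w, (kr r (1 : GL β F)) ⬝ₘ (tm (col Z j) w) = -tm (col Z j) w := fun w => by
    rw [kr_tm, hra, Units.val_one, Matrix.one_mulVec, ← neg_one_smul F (col Z j), tm_smul_left, neg_one_smul]
  -- negated vectors lie in the image of the fibre
  have hmem : ∀ w, ∃ z, k ⬝ₘ (tm u z) = tm (col Z j) w := fun w => by
    obtain ⟨y, hy⟩ : ∃ y, y = k⁻¹ ⬝ₘ (tm (col Z j) w) := ⟨_, rfl⟩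
    refine ⟨(fo u u)⁻¹ • pc fo u y, ?_⟩
    obtain ⟨z, hz⟩ : ∃ z, z = (fo u u)⁻¹ • pc fo u y := ⟨_, rfl⟩
    have e := H.fix (tm (col Z j) w - k ⬝ₘ (tm u z)) fun x => by
      rw [sub_eq_add_neg, (tf_semi C.data).add_left, (reflex C.data).neg_left,
        show tm (col Z j) w = k ⬝ₘ y by rw [hy, gl_mulVec_inv_cancel], C.iso k H.kmem, C.iso k H.kmem, C.tau_pc,
        C.tau, hz, C.s.refl.semi.smul_left, ← mul_assoc, mul_inv_cancel₀ H.nonsing, one_mul,
        add_neg_cancel]
    rw [Matrix.mulVec_sub, hneg, H.neg] at e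
    rw [← hz]
    have e2 : (2 : F) • (tm (col Z j) w - k ⬝ₘ (tm u z)) = 0 := by linear_combination (norm := module) -e
    exact (sub_eq_zero.mp ((smul_eq_zero.mp e2).resolve_left C.h2)).symm
  obtain ⟨S, hS⟩ : ∃ S : (β → F) →ₗ[F] β → F, ∀ w, S w = (fo u u)⁻¹ • pc fo u (k⁻¹ ⬝ₘ (tm (col Z j) w)) :=
    ⟨{ toFun := fun w => (fo u u)⁻¹ • pc fo u (k⁻¹ ⬝ₘ (tm (col Z j) w))
       map_add' := fun a b => by rw [tm_add_right, Matrix.mulVec_add, C.pc_add, smul_add]
       map_smul' := fun r a => by rw [tm_smul_right, Matrix.mulVec_smul, C.pc_smul, smul_comm, RingHom.id_apply] },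
      fun _ => rfl⟩
  have hS' : ∀ w, k ⬝ₘ (tm u (S w)) = tm (col Z j) w := fun w => by
    obtain ⟨z, hz⟩ := hmem w
    rw [hS, ← hz, gl_inv_mulVec_cancel, C.pc_tm, smul_smul, inv_mul_cancel₀ H.nonsing, one_smul]
  have hinj : Function.Injective S := fun w w' h => by
    have e : tm (col Z j) (w - w') = 0 := by rw [tm_sub_right, ← hS', ← hS', h, sub_self]
    exact sub_eq_zero.mp ((tm_eq_zero e).resolve_left hj)
  refine ⟨col Z j, fun z => ?_⟩
  obtain ⟨w, rfl⟩ := LinearMap.injective_iff_surjective.mp hinj z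
  exact ⟨w, hS' w⟩

/-- In dimension three every conjugate of a reflection fixes a fibre. -/
theorem not_exotic [Finite F] (h2 : Fintype.card β = 2) (h3 : Fintype.card α = 3) {g k : GL (α × β) F} {u : α → F}
    (H : Conj fo fs X g k u) (h0 : ∀ t ∈ fixSub g, t = 0) : False := by
  classical
  have hab : Fintype.card α = 4 → Aniso fo := fun e => absurd e (by omega)
  obtain ⟨v, hv⟩ := C.exists_nonsing
  obtain ⟨i⟩ : Nonempty β := Fintype.card_pos_iff.mp (by omega)
  obtain ⟨o, ho⟩ : ∃ o : β → F, o ≠ 0 := ⟨Pi.single i 1, by simp⟩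
  obtain ⟨o', ho'⟩ := C.partner ho
  have h33 : (3 : F) ≠ 0 := fun e => mul_ne_zero H.nonsing hv (by rw [← exotic C h2 h3 H h0 ho', e, zero_mul])
  obtain ⟨A, hA⟩ : ∃ A : (β → F) →ₗ[F] β → F, ∀ w, A w = pc fo v (k ⬝ₘ (tm u w)) :=
    ⟨{ toFun := fun w => pc fo v (k ⬝ₘ (tm u w))
       map_add' := fun a b => by rw [tm_add_right, Matrix.mulVec_add, C.pc_add]
       map_smul' := fun r a => by rw [tm_smul_right, Matrix.mulVec_smul, C.pc_smul, RingHom.id_apply] },
      fun _ => rfl⟩
  obtain ⟨d, hd⟩ : ∃ d, d = fo u u * fo v v / 3 := ⟨_, rfl⟩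
  have hd0 : d ≠ 0 := hd ▸ div_ne_zero (mul_ne_zero H.nonsing hv) h33
  have hdoo : fs (A o') (A o) = d := by
    rw [hd, hA, hA, eq_div_iff h33]; linear_combination exotic C h2 h3 H h0 ho' v
  have hAA : ∀ a b, fs (A a) (A b) = d * fs a b := fun a b => by
    rw [C.expand2 h2 ho' a, C.expand2 h2 ho' b]
    simp only [map_sub, map_smul, C.s.sub_left, C.s.sub_right, C.s.refl.semi.smul_left, C.s.smul_right, C.s.alt,
      hdoo, C.s.swap (A o') (A o), C.s.swap o' o, ho']
    ring
  have hAs : Function.Surjective A := by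
    refine LinearMap.injective_iff_surjective.mp fun a b h => C.sext fun x => mul_left_cancel₀ hd0 ?_
    rw [← hAA, ← hAA, h]
  have hg : ∀ z, g ⬝ₘ (tm v (A z)) = tm v (A z) - (2 : F) • k ⬝ₘ (tm u ((d / fo u u) • z)) := fun z => by
    have e := H.fix (tm v (A z) - k ⬝ₘ (tm u ((d / fo u u) • z))) fun x => by
      rw [sub_eq_add_neg, (tf_semi C.data).add_left, (reflex C.data).neg_left, C.iso k H.kmem, C.tau,
        C.swap_tau (k ⬝ₘ (tm u x)), C.tau_pc, ← hA, ← C.s.swap, hAA, C.s.refl.semi.smul_left,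
        ← mul_assoc, mul_div_cancel₀ _ H.nonsing, add_neg_cancel]
    rw [Matrix.mulVec_sub, H.neg] at e
    linear_combination (norm := module) e
  have hpcv : ∀ x, pc fo v (g ⬝ₘ (tm v x)) = (fo v v / 3) • x := fun x => by
    obtain ⟨z, rfl⟩ := hAs x
    rw [hg, C.pc_sub, C.pc_smul, C.pc_tm, ← hA, map_smul, smul_smul, ← sub_smul, hd]
    congr 1
    have := H.nonsing
    field_simp
    ring
  obtain ⟨g₂, r₂, H₂, -, -, -⟩ := exists_conj C H.gmem hv
  have hne₂ : ∃ t ∈ fixSub g₂, t ≠ 0 := by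
    by_contra hcon
    push Not at hcon
    have e := exotic C h2 h3 H₂ hcon ho' v
    rw [hpcv, hpcv, C.s.refl.semi.smul_left, C.s.smul_right, ho'] at e
    field_simp at e
    exact C.h2 (by linear_combination -e)
  have hgood : Good g₂ := by
    obtain ⟨t, ht, ht0⟩ := hne₂
    have hpos : 1 ≤ finrank F (fixSub g₂) := Submodule.one_le_finrank_iff.mpr fun e => ht0 (by
      rw [e] at ht; exact (Submodule.mem_bot F).mp ht)
    rcases classify C h2 hab H₂ (by omega) with hG | ⟨p₁, p₂, h1, h1', h12, hp⟩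
    · exact hG
    · exact (no_plane C h2 hab H₂ h1 h1' h12 hp).elim
  obtain ⟨a, ha⟩ := H₂.good_fibre C hgood
  -- the orthogonal of the image fibre is too small
  have hall : ∀ c, fo a c = 0 → ∃ s : F, c = s • v := fun c hc => by
    refine ⟨fo v c / (2 * fo v v / 3), sub_eq_zero.mp (h0 _ fun w => ?_)⟩
    refine H.fixed_of C fun z => ?_
    obtain ⟨w', hw'⟩ := ha (A z)
    have e := congrArg (pc fo c) hw'
    rw [hg, C.pc_sub, C.pc_smul, C.pc_tm, C.pc_tm, hc, zero_smul, tm_smul_right, Matrix.mulVec_smul,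
      C.pc_smul] at e
    have e2 : pc fo c (k ⬝ₘ (tm u z)) = (fo v c / (2 * fo v v / 3)) • A z := by
      have hh := H.nonsing
      have e3 : (2 * d / fo u u) • pc fo c (k ⬝ₘ (tm u z)) = fo v c • A z := by
        rw [show 2 * d / fo u u = 2 * (d / fo u u) by ring, ← smul_smul]
        exact (sub_eq_zero.mp e).symm
      have e4 : 2 * d / fo u u = 2 * fo v v / 3 := by rw [hd]; field_simp
      rw [e4] at e3
      have hne : 2 * fo v v / 3 ≠ 0 := div_ne_zero (mul_ne_zero C.h2 hv) h33
      rw [div_eq_inv_mul, ← smul_smul, ← e3, smul_smul, inv_mul_cancel₀ hne, one_smul]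
    rw [show c - (fo v c / (2 * fo v v / 3)) • v = c + (-(fo v c / (2 * fo v v / 3))) • v by
      rw [neg_smul, sub_eq_add_neg], C.pc_add_vec, C.pc_smul_vec, e2, ← hA, ← add_smul, add_neg_cancel, zero_smul,
      C.s.refl.zero_right]
  have hd' := C.o.finrank_perp (Submodule.span F {a})
  have h1' : finrank F (Submodule.span F ({a} : Set (α → F))) ≤ 1 := by
    have := finrank_span_le_card (R := F) ({a} : Set (α → F))
    simpa using this
  have hle : C.o.perp (Submodule.span F {a}) ≤ Submodule.span F {v} := fun c hc => by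
    obtain ⟨s, rfl⟩ := hall c (by rw [C.symm]; exact hc a (Submodule.mem_span_singleton_self a))
    exact Submodule.smul_mem _ _ (Submodule.mem_span_singleton_self v)
  have h2' := Submodule.finrank_mono hle
  have h3' : finrank F (Submodule.span F ({v} : Set (α → F))) ≤ 1 := by
    have := finrank_span_le_card (R := F) ({v} : Set (α → F))
    simpa using this
  omega

/-- Every element maps fibres over non-singular vectors to fibres. -/
theorem fibre_img [Finite F] (h2 : Fintype.card β = 2) (hab : Fintype.card α = 4 → Aniso fo) {k : GL (α × β) F} (hk : k ∈ X)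
    {u : α → F} (hu : fo u u ≠ 0) : ∃ a, ∀ z, ∃ w, k ⬝ₘ (tm u z) = tm a w := by
  obtain ⟨g, r, H, -, -, -⟩ := exists_conj C hk hu
  refine H.good_fibre C ?_
  have hdim := C.dim
  have hT : Fintype.card α ≤ finrank F (fixSub g) + 2 := by
    by_cases h4 : 4 ≤ Fintype.card α
    · exact fix_dim_four C h2 h4 hab H
    · by_contra hlt
      refine not_exotic C h2 (by omega) H fun t ht => ?_
      have h0 : finrank F (fixSub g) = 0 := by omega
      rw [Submodule.finrank_eq_zero.mp h0] at ht
      exact (Submodule.mem_bot F).mp ht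
  rcases classify C h2 hab H hT with hG | ⟨p₁, p₂, h1, h1', h12, hp⟩
  · exact hG
  · exact (no_plane C h2 hab H h1 h1' h12 hp).elim

/-- A symplectic plane: the group consists of Kronecker products. -/
theorem le_kr_two [Finite F] (h2 : Fintype.card β = 2) (hab : Fintype.card α = 4 → Aniso fo) : X ≤ Kr α β F := by
  classical
  intro k hk
  obtain ⟨i⟩ : Nonempty β := Fintype.card_pos_iff.mp (by omega)
  obtain ⟨o, ho⟩ : ∃ o : β → F, o ≠ 0 := ⟨Pi.single i 1, by simp⟩
  obtain ⟨u₀, hu₀⟩ := C.exists_nonsing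
  obtain ⟨a₀, ha₀⟩ := fibre_img C h2 hab hk hu₀
  obtain ⟨d, hd⟩ := ha₀ o
  have htm0 : ∀ {u : α → F}, fo u u ≠ 0 → k ⬝ₘ (tm u o) ≠ 0 := fun {u} hu h => by
    have h1 : tm u o = 0 := gl_mulVec_injective k (by
      change k ⬝ₘ _ = k ⬝ₘ _
      rw [h, Matrix.mulVec_zero])
    rcases tm_eq_zero h1 with h' | h'
    · exact hu (by rw [h', C.o.zero_left])
    · exact ho h'
  have hd0 : d ≠ 0 := fun e => htm0 hu₀ (by rw [hd, e, tm_zero_right])
  let P : Submodule F (α → F) :=
    { carrier := {v | ∃ a, k ⬝ₘ (tm v o) = tm a d}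
      zero_mem' := ⟨0, by simp⟩
      add_mem' := by
        rintro x y ⟨a, ha⟩ ⟨b, hb⟩
        exact ⟨a + b, by rw [tm_add_left, Matrix.mulVec_add, ha, hb, tm_add_left]⟩
      smul_mem' := by
        rintro c x ⟨a, ha⟩
        exact ⟨c • a, by rw [tm_smul_left, Matrix.mulVec_smul, ha, tm_smul_left]⟩ }
  have step : ∀ u v, fo u u ≠ 0 → fo v v ≠ 0 → fo (u + v) (u + v) ≠ 0 → u ∈ P → v ∈ P := by
    rintro u v hu hv huv ⟨a, ha⟩
    obtain ⟨a', hfu⟩ := fibre_img C h2 hab hk hu
    obtain ⟨b, hfv⟩ := fibre_img C h2 hab hk hv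
    obtain ⟨c, hfw⟩ := fibre_img C h2 hab hk huv
    obtain ⟨du, hdu⟩ := hfu o
    obtain ⟨d', hd'⟩ := hfv o
    obtain ⟨d'', hd''⟩ := hfw o
    have hdu0 : du ≠ 0 := fun e => htm0 hu (by rw [hdu, e, tm_zero_right])
    have ha'0 : a' ≠ 0 := fun e => htm0 hu (by rw [hdu, e, tm_zero_left])
    have hd'0 : d' ≠ 0 := fun e => htm0 hv (by rw [hd', e, tm_zero_right])
    have hb0 : b ≠ 0 := fun e => htm0 hv (by rw [hd', e, tm_zero_left])
    -- the three fibres are collinear or the middle entries agree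
    by_cases hprop : ∃ l : F, b = l • a'
    · obtain ⟨l, hl⟩ := hprop
      have hsurj : ∃ z, k ⬝ₘ (tm u z) = tm a' (l • d') := by
        obtain ⟨S, hS⟩ : ∃ S : (β → F) →ₗ[F] β → F, ∀ z, k ⬝ₘ (tm u z) = tm a' (S z) := by
          obtain ⟨j, hj⟩ := Function.ne_iff.mp ha'0
          refine ⟨{ toFun := fun z k' => (a' j)⁻¹ * (k ⬝ₘ (tm u z)) (j, k')
                    map_add' := fun x y => by funext k'; rw [tm_add_right, Matrix.mulVec_add]; simp [mul_add]
                    map_smul' := fun r x => by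
                      funext k'; rw [tm_smul_right, Matrix.mulVec_smul]; simp; ring }, fun z => ?_⟩
          obtain ⟨w, hw⟩ := hfu z
          rw [hw]
          congr 1
          funext k'
          change w k' = (a' j)⁻¹ * _
          rw [hw, tm_apply, ← mul_assoc, inv_mul_cancel₀ hj, one_mul]
        have hinj : Function.Injective S := fun x y h => by
          have e : tm u (x - y) = 0 := gl_mulVec_injective k (by
            change k ⬝ₘ _ = k ⬝ₘ _
            rw [tm_sub_right, Matrix.mulVec_sub, hS, hS, h, sub_self, Matrix.mulVec_zero])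
          exact sub_eq_zero.mp ((tm_eq_zero e).resolve_left fun e' => hu (by rw [e', C.o.zero_left]))
        obtain ⟨z, hz⟩ := LinearMap.injective_iff_surjective.mp hinj (l • d')
        exact ⟨z, by rw [hS, hz]⟩
      obtain ⟨z, hz⟩ := hsurj
      have e : tm v o = tm u z := gl_mulVec_injective k (by
        change k ⬝ₘ _ = k ⬝ₘ _
        rw [hd', hz, hl, tm_smul_left, tm_smul_right])
      obtain ⟨s, -, hs, -⟩ := tm_inj e (fun e' => hv (by rw [e', C.o.zero_left])) ho
      rw [hs]
      exact P.smul_mem _ ⟨a, ha⟩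
    push Not at hprop
    have hsum : tm a' du + tm b d' = tm c d'' := by
      rw [← hdu, ← hd', ← hd'', tm_add_left, Matrix.mulVec_add]
    obtain ⟨z₁, hz₁, hz₁'⟩ : ∃ z, fo a' z = 0 ∧ fo b z ≠ 0 := by
      by_contra hcon
      push Not at hcon
      obtain ⟨z, hz⟩ := (C.o.nondeg a' ha'0).2
      refine hprop (fo b z / fo a' z) (C.ext_o fun x => ?_)
      have h := hcon (x - (fo a' x / fo a' z) • z) (by
        rw [C.sub_right, C.smul_right, div_mul_cancel₀ _ hz, sub_self])
      rw [C.sub_right, C.smul_right] at h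
      rw [C.smul_left]
      linear_combination h
    obtain ⟨z₂, hz₂, hz₂'⟩ : ∃ z, fo b z = 0 ∧ fo a' z ≠ 0 := by
      by_contra hcon
      push Not at hcon
      obtain ⟨z, hz⟩ := (C.o.nondeg b hb0).2
      have hprop' : a' = (fo a' z / fo b z) • b := C.ext_o fun x => by
        have h := hcon (x - (fo b x / fo b z) • z) (by
          rw [C.sub_right, C.smul_right, div_mul_cancel₀ _ hz, sub_self])
        rw [C.sub_right, C.smul_right] at h
        rw [C.smul_left]
        linear_combination h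
      have hne : fo a' z / fo b z ≠ 0 := fun e' => ha'0 (by rw [hprop', e', zero_smul])
      obtain ⟨l, hl⟩ : ∃ l, l = fo a' z / fo b z := ⟨_, rfl⟩
      rw [← hl] at hprop' hne
      exact hprop l⁻¹ (by rw [hprop', smul_smul, inv_mul_cancel₀ hne, one_smul])
    have e1 := congrArg (pc fo z₁) hsum
    have e2 := congrArg (pc fo z₂) hsum
    rw [C.pc_add, C.pc_tm, C.pc_tm, C.pc_tm, hz₁, zero_smul, zero_add] at e1
    rw [C.pc_add, C.pc_tm, C.pc_tm, C.pc_tm, hz₂, zero_smul, add_zero] at e2
    have hcz₂ : fo c z₂ ≠ 0 := fun h => by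
      rw [h, zero_smul] at e2
      exact hdu0 ((smul_eq_zero.mp e2).resolve_left hz₂')
    have e3 : d'' = ((fo c z₂)⁻¹ * fo a' z₂) • du := by
      rw [← smul_smul, e2, smul_smul, inv_mul_cancel₀ hcz₂, one_smul]
    have e4 : d' = ((fo b z₁)⁻¹ * fo c z₁) • d'' := by
      rw [← smul_smul, ← e1, smul_smul, inv_mul_cancel₀ hz₁', one_smul]
    obtain ⟨m, hm⟩ : ∃ m : F, du = m • d := by
      have e' : tm a' du = tm a d := hdu.symm.trans ha
      obtain ⟨j, hj⟩ := Function.ne_iff.mp ha'0
      refine ⟨(a' j)⁻¹ * a j, funext fun l => ?_⟩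
      have := congrFun e' (j, l)
      simp only [tm_apply] at this
      rw [Pi.smul_apply, smul_eq_mul, mul_assoc, ← this, ← mul_assoc, inv_mul_cancel₀ hj, one_mul]
    refine ⟨(((fo b z₁)⁻¹ * fo c z₁) * ((fo c z₂)⁻¹ * fo a' z₂) * m) • b, ?_⟩
    rw [hd', tm_smul_left, ← tm_smul_right]
    congr 1
    rw [e4, e3, hm, smul_smul, smul_smul]
  have hns : ∀ v, fo v v ≠ 0 → v ∈ P := by
    intro v hv
    by_cases h1 : fo (u₀ + v) (u₀ + v) = 0
    · by_cases h3 : fo (u₀ + -v) (u₀ + -v) = 0
      · obtain ⟨h1', h3'⟩ := And.intro h1 h3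
        simp only [C.add_left, C.add_right, C.o.neg_left, C.symm u₀ v] at h1'
        rw [← neg_one_smul F v] at h3'
        simp only [C.add_left, C.add_right, C.smul_left, C.smul_right, C.symm u₀ v] at h3'
        have hB : fo u₀ v = 0 :=
          (mul_eq_zero.mp (show (2 * 2 : F) * fo u₀ v = 0 by linear_combination h1' - h3')).resolve_left
            (mul_ne_zero C.h2 C.h2)
        obtain ⟨w, hw, hwu, hwv⟩ := C.exists_third hu₀ hv hB
        have hsum0 : fo u₀ u₀ + fo v v = 0 := by linear_combination h1' - 2 * hB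
        by_cases hwu2 : fo u₀ u₀ + fo w w = 0
        · have q : fo (w + v) (w + v) = fo w w + fo v v := by
            simp only [C.add_left, C.add_right, hwv, C.symm w v]; ring
          have hw2 : fo (w + v) (w + v) ≠ 0 := fun e => hv
            ((mul_eq_zero.mp (show (2 : F) * fo v v = 0 by linear_combination e - q - hwu2 + hsum0)).resolve_left C.h2)
          have hm : w + v ∈ P := by
            refine step u₀ _ hu₀ hw2 ?_ ⟨a₀, hd⟩
            simp only [C.add_left, C.add_right, C.symm w u₀, C.symm u₀ v, hwu, hB, C.symm w v, hwv]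
            intro e; exact hv (by linear_combination e - hwu2)
          have hnv : fo (-v) (-v) ≠ 0 := by rw [C.o.neg_left, C.symm, C.o.neg_left, neg_neg]; exact hv
          have := P.neg_mem (step _ (-v) hw2 hnv (by rw [add_neg_cancel_right]; exact hw) hm)
          rwa [neg_neg] at this
        · have hwP : w ∈ P := by
            refine step u₀ w hu₀ hw ?_ ⟨a₀, hd⟩
            simp only [C.add_left, C.add_right, C.symm w u₀, hwu]
            intro e; exact hwu2 (by linear_combination e)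
          by_cases hwv2 : fo w w + fo v v = 0
          · have q : fo (w + u₀) (w + u₀) = fo w w + fo u₀ u₀ := by
              simp only [C.add_left, C.add_right, hwu, C.symm w u₀]; ring
            refine step (w + u₀) v (by rw [q, add_comm]; exact hwu2) hv ?_ (add_mem hwP ⟨a₀, hd⟩)
            simp only [C.add_left, C.add_right, hwu, C.symm w u₀, hwv, C.symm w v, hB, C.symm u₀ v]
            intro e; exact hu₀ (by linear_combination e - hwv2)
          · refine step w v hw hv ?_ hwP
            simp only [C.add_left, C.add_right, C.symm w v, hwv]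
            intro e; exact hwv2 (by linear_combination e)
      · have := P.neg_mem (step u₀ (-v) hu₀ (by
          rw [C.o.neg_left, C.symm, C.o.neg_left, neg_neg]; exact hv) h3 ⟨a₀, hd⟩)
        rwa [neg_neg] at this
    · exact step u₀ v hu₀ hv h1 ⟨a₀, hd⟩
  refine stab' C ho hd0 hk fun a => ?_
  by_cases haa : fo a a = 0
  · by_cases h1 : fo (a + u₀) (a + u₀) = 0
    · have h3 : fo (a - u₀) (a - u₀) ≠ 0 := fun h3 => by
        rw [C.sub_left, C.sub_right, C.sub_right, haa, C.symm a u₀] at h3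
        rw [C.add_left, C.add_right, C.add_right, haa, C.symm a u₀] at h1
        exact hu₀ ((mul_eq_zero.mp (show (2 : F) * fo u₀ u₀ = 0 by linear_combination h1 + h3)).resolve_left C.h2)
      have := add_mem (hns _ h3) (hns _ hu₀)
      rwa [sub_add_cancel] at this
    · have := sub_mem (hns _ h1) (hns _ hu₀)
      rwa [add_sub_cancel_right] at this
  · exact hns a haa

/-- Both shapes of the alternating factor. -/
theorem le_kr [Finite F] (hb : Fintype.card β = 2 ∧ (Fintype.card α = 4 → Aniso fo) ∨ 4 ≤ Fintype.card β) :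
    X ≤ Kr α β F := by
  rcases hb with ⟨h2, hab⟩ | h4
  · exact le_kr_two C h2 hab
  · exact le_kr_big C h4

end Cfsg.Agent.Classical.TensorMax.SpO
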