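/-
The stabiliser of a symplectic-by-orthogonal tensor decomposition is maximal in the symplectic group.
-/
import Cfsg.Agent.Lib.Classical.TensorMax.SpO.TwoGlobal
import Cfsg.Agent.Lib.Classical.TensorMax.Form.OFinal
import Cfsg.Agent.Lib.Classical.SpOvergroup
import Cfsg.Agent.Lib.Classical.TensorTrans

set_option autoImplicit false
set_option linter.unusedSectionVars false

namespace Cfsg.Agent.Classical.TensorMax.SpO

open Matrix Module Cfsg.Geo
open Cfsg.Agent.Classical Cfsg.Agent.Classical.TensorMax Cfsg.Agent.Classical.TensorMax.Form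
open scoped _root_.Classical

section Grow

variable {ι : Type} [Fintype ι] [DecidableEq ι] {F : Type*} [Field F]
variable {f : (ι → F) → (ι → F) → F}

/-- A set closed under transvections through a connected spanning part is everything. -/
theorem grow (B : SForm f) (h2 : (2 : F) ≠ 0) {T S : (ι → F) → Prop} (h0 : T 0)
    (hsm : ∀ (c : F) v, T v → T (c • v)) (hP : ∀ u v, T u → T v → f u v ≠ 0 → ∀ c : F, T (u + c • v))
    (hST : ∀ v, S v → T v) (hS0 : ∀ d, (∀ v, S v → f d v = 0) → d = 0)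
    (hSc : ∀ u v, S u → S v → ∃ w, S w ∧ f u w ≠ 0 ∧ f v w ≠ 0) : ∀ v, T v := by
  classical
  have hPs : ∀ u v, T u → T v → f u v ≠ 0 → T (u + v) := fun u v hu hv h => by
    simpa using hP u v hu hv h 1
  have step : ∀ U : Submodule F (ι → F), U ≠ ⊥ → (∀ u ∈ U, T u) → IsNondegenerateOn f U → U ≠ ⊤ →
      ∃ U' : Submodule F (ι → F), U < U' ∧ U' ≠ ⊥ ∧ (∀ u ∈ U', T u) ∧ IsNondegenerateOn f U' := by
    intro U hU hUT hUn hUtop
    have hdisj : ∀ x ∈ U, x ∈ B.refl.perp U → x = 0 := fun x hx hx' => by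
      by_contra hx0
      obtain ⟨y, hy, hxy⟩ := (hUn x hx hx0).2
      exact hxy (hx' y hy)
    have hsup : U ⊔ B.refl.perp U = ⊤ := by
      refine Submodule.eq_top_of_finrank_eq ?_
      have h1 := Submodule.finrank_sup_add_finrank_inf_eq U (B.refl.perp U)
      have h3 : U ⊓ B.refl.perp U = ⊥ := (Submodule.eq_bot_iff _).mpr fun x hx => hdisj x hx.1 hx.2
      have h4 := B.refl.finrank_perp U
      rw [h3, finrank_bot] at h1
      rw [Module.finrank_fintype_fun_eq_card]
      omega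
    have hdec : ∀ x, ∃ u ∈ U, ∃ w ∈ B.refl.perp U, u + w = x := fun x =>
      Submodule.mem_sup.mp (hsup ▸ Submodule.mem_top)
    have hzero : ∀ u ∈ U, ∀ w ∈ B.refl.perp U, f u w = 0 := fun u hu w hw => by
      rw [B.swap w u, hw u hu, neg_zero]
    obtain ⟨s, hs, hsU, hsP⟩ : ∃ s, S s ∧ s ∉ U ∧ s ∉ B.refl.perp U := by
      by_contra hcon
      push Not at hcon
      obtain ⟨s, hs, hsU⟩ : ∃ s, S s ∧ s ∉ U := by
        by_contra h
        push Not at h
        obtain ⟨x, -, hx⟩ := SetLike.exists_of_lt (lt_top_iff_ne_top.mpr hUtop)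
        obtain ⟨u, hu, w, hw, rfl⟩ := hdec x
        rw [hS0 w fun v hv => hw v (h v hv), add_zero] at hx
        exact hx hu
      obtain ⟨s', hs', hsP'⟩ : ∃ s', S s' ∧ s' ∉ B.refl.perp U := by
        by_contra h
        push Not at h
        obtain ⟨u, hu, hu0⟩ := Submodule.exists_mem_ne_zero_of_ne_bot hU
        exact hu0 (hS0 u fun v hv => hzero u hu v (h v hv))
      obtain ⟨z, hz, hsz, hs'z⟩ := hSc s s' hs hs'
      by_cases hzU : z ∈ U
      · exact hsz (hcon s hs hsU z hzU)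
      · exact hs'z (hzero s' (by_contra fun h => hsP' (hcon s' hs' h)) z (hcon z hz hzU))
    obtain ⟨u₀, hu₀, v₀, hv₀, rfl⟩ := hdec s
    have hu₀0 : u₀ ≠ 0 := fun h => hsP (by rw [h, zero_add]; exact hv₀)
    have hv₀0 : v₀ ≠ 0 := fun h => hsU (by rw [h, add_zero]; exact hu₀)
    -- shifts of the new vectors by the old space
    have shift : ∀ u ∈ U, ∀ v ∈ B.refl.perp U, u ≠ 0 → T (u + v) →
        ∀ y ∈ U, y ≠ 0 → ∀ c : F, c ≠ 0 → T (y + c • v) := by
      intro u hu v hv hu0 huv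
      have gen : ∀ y ∈ U, f y u ≠ 0 → ∀ c : F, T (y + c • v) := fun y hy hyu c => by
        have e : f (y - c • u) (u + v) = f y u := by
          rw [B.refl.semi.add_right, hzero (y - c • u) (sub_mem hy (U.smul_mem c hu)) v hv, B.sub_left,
            B.refl.semi.smul_left, B.alt, mul_zero, sub_zero, add_zero]
        have := hP _ _ (hUT _ (sub_mem hy (U.smul_mem c hu))) huv (by rwa [e]) c
        rwa [show y - c • u + c • (u + v) = y + c • v by module] at this
      intro y hy hy0 c _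
      by_cases hyu : f y u = 0
      swap
      · exact gen y hy hyu c
      obtain ⟨z, hz, hzu, hzy⟩ : ∃ z ∈ U, f z u ≠ 0 ∧ f z y ≠ 0 := by
        obtain ⟨a, ha, hau⟩ := (hUn u hu hu0).1
        obtain ⟨b, hb, hby⟩ := (hUn y hy hy0).1
        by_cases h : f a y = 0
        · by_cases h' : f b u = 0
          · refine ⟨a + b, add_mem ha hb, ?_, ?_⟩
            · rw [B.refl.semi.add_left, h', add_zero]; exact hau
            · rw [B.refl.semi.add_left, h, zero_add]; exact hby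
          · exact ⟨b, hb, h', hby⟩
        · exact ⟨a, ha, hau, h⟩
      have e : f (z + c • v) (y - z) = f z y := by
        rw [B.refl.semi.add_left, B.refl.semi.smul_left, hv (y - z) (sub_mem hy hz), B.sub_right, B.alt, mul_zero,
          add_zero, sub_zero]
      have := hPs _ _ (gen z hz hzu c) (hUT _ (sub_mem hy hz)) (by rwa [e])
      rwa [show z + c • v + (y - z) = y + c • v by module] at this
    have hv := shift u₀ hu₀ v₀ hv₀ hu₀0 (hST _ hs)
    obtain ⟨t, ht, htv⟩ : ∃ t, S t ∧ f v₀ t ≠ 0 := by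
      by_contra h
      push Not at h
      exact hv₀0 (hS0 v₀ h)
    obtain ⟨u₁, hu₁, w₀, hw₀, rfl⟩ := hdec t
    have hvw : f v₀ w₀ ≠ 0 := by rwa [B.refl.semi.add_right, hv₀ u₁ hu₁, zero_add] at htv
    have three : ∀ y ∈ U, y ≠ 0 → ∀ a b : F, a ≠ 0 → b ≠ 0 → T (y + a • v₀ + b • w₀) := by
      intro y hy hy0 a b ha hb
      by_cases hu₁0 : u₁ = 0
      · have hw : T w₀ := by simpa [hu₁0] using hST _ ht
        refine hP _ _ (hv y hy hy0 a ha) hw ?_ b
        rw [B.refl.semi.add_left, B.refl.semi.smul_left, hzero y hy w₀ hw₀, zero_add]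
        exact mul_ne_zero ha hvw
      · have h2y : (2 : F) • y ≠ 0 := smul_ne_zero h2 hy0
        have hny : -y ≠ 0 := neg_ne_zero.mpr hy0
        have := hPs _ _ (hv _ (U.smul_mem 2 hy) h2y a ha)
          (shift u₁ hu₁ w₀ hw₀ hu₁0 (hST _ ht) _ (U.neg_mem hy) hny b hb) ?_
        · rwa [show (2 : F) • y + a • v₀ + (-y + b • w₀) = y + a • v₀ + b • w₀ by module] at this
        rw [B.refl.semi.add_left, B.refl.semi.add_right, B.refl.semi.add_right, B.refl.semi.smul_left,
          B.refl.semi.smul_left, B.refl.semi.smul_left, B.smul_right, B.smul_right, hzero y hy w₀ hw₀,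
          hv₀ (-y) (U.neg_mem hy), ← neg_one_smul F y, B.smul_right, B.alt]
        simp [ha, hb, hvw, B.refl.semi.smul_left]
    obtain ⟨y, hy, hy0⟩ := Submodule.exists_mem_ne_zero_of_ne_bot hU
    have hnv : f w₀ v₀ ≠ 0 := by rw [B.swap v₀ w₀]; exact neg_ne_zero.mpr hvw
    have hny : -y ∈ U := U.neg_mem hy
    have hTv : T v₀ := by
      have := hsm (2 : F)⁻¹ _ (hPs _ _ (three _ hny (neg_ne_zero.mpr hy0) 1 1 one_ne_zero one_ne_zero)
        (three y hy hy0 1 (-1) one_ne_zero (neg_ne_zero.mpr one_ne_zero)) ?_)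
      · convert this using 1
        match_scalars <;> field_simp <;> ring
      rw [← neg_one_smul F y]
      simp only [B.refl.semi.add_left, B.refl.semi.add_right, B.refl.semi.smul_left, B.smul_right, B.alt,
        hzero y hy w₀ hw₀, hzero y hy v₀ hv₀, hv₀ y hy, hw₀ y hy, B.swap v₀ w₀]
      intro e
      exact mul_ne_zero h2 hvw (by linear_combination -e)
    have hTw : T w₀ := by
      have := hsm (2 : F)⁻¹ _ (hPs _ _ (three _ hy hy0 1 1 one_ne_zero one_ne_zero)
        (three _ hny (neg_ne_zero.mpr hy0) (-1) 1 (neg_ne_zero.mpr one_ne_zero) one_ne_zero) ?_)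
      · convert this using 1
        match_scalars <;> field_simp <;> ring
      rw [← neg_one_smul F y]
      simp only [B.refl.semi.add_left, B.refl.semi.add_right, B.refl.semi.smul_left, B.smul_right, B.alt,
        hzero y hy w₀ hw₀, hzero y hy v₀ hv₀, hv₀ y hy, hw₀ y hy, B.swap v₀ w₀]
      intro e
      exact mul_ne_zero h2 hvw (by linear_combination e)
    have hplane : ∀ a b : F, T (a • v₀ + b • w₀) := fun a b => by
      by_cases ha : a = 0
      · rw [ha, zero_smul, zero_add]; exact hsm b _ hTw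
      · refine hP _ _ (hsm a _ hTv) hTw ?_ b
        rw [B.refl.semi.smul_left]
        exact mul_ne_zero ha hvw
    refine ⟨U ⊔ Submodule.span F {v₀, w₀}, lt_of_le_of_ne le_sup_left fun e => hv₀0 (hdisj v₀ ?_ hv₀), ?_, ?_, ?_⟩
    · rw [e]; exact Submodule.mem_sup_right (Submodule.subset_span (by simp))
    · exact fun e => hU (le_bot_iff.mp (le_sup_left.trans e.le))
    · rintro x hx
      obtain ⟨u, hu, p, hp, rfl⟩ := Submodule.mem_sup.mp hx
      obtain ⟨a, b, rfl⟩ := Submodule.mem_span_pair.mp hp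
      by_cases hu0 : u = 0
      · rw [hu0, zero_add]; exact hplane a b
      by_cases ha : a = 0
      · by_cases hb : b = 0
        · simpa [ha, hb] using hUT u hu
        have := hP _ _ (three u hu hu0 1 b one_ne_zero hb) hTv ?_ (-1)
        · convert this using 1
          rw [ha]; module
        simp only [B.refl.semi.add_left, B.refl.semi.smul_left, B.alt, hzero u hu v₀ hv₀]
        simp [hb, hnv]
      by_cases hb : b = 0
      · have := hv u hu hu0 a ha
        simpa [hb] using this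
      · rw [← add_assoc]; exact three u hu hu0 a b ha hb
    · intro x hx hx0
      obtain ⟨u, hu, p, hp, rfl⟩ := Submodule.mem_sup.mp hx
      obtain ⟨a, b, rfl⟩ := Submodule.mem_span_pair.mp hp
      suffices h : ∃ z ∈ U ⊔ Submodule.span F {v₀, w₀}, f (u + (a • v₀ + b • w₀)) z ≠ 0 by
        obtain ⟨z, hz, hxz⟩ := h
        exact ⟨⟨z, hz, fun e => hxz (B.refl.eq_zero_swap e)⟩, z, hz, hxz⟩
      by_cases hu0 : u = 0
      · have hab : a ≠ 0 ∨ b ≠ 0 := by
          by_contra h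
          push Not at h
          exact hx0 (by simp [hu0, h.1, h.2])
        rcases hab with ha | hb
        · refine ⟨w₀, Submodule.mem_sup_right (Submodule.subset_span (by simp)), ?_⟩
          simp only [hu0, zero_add, B.refl.semi.add_left, B.refl.semi.smul_left, B.alt, mul_zero, add_zero]
          exact mul_ne_zero ha hvw
        · refine ⟨v₀, Submodule.mem_sup_right (Submodule.subset_span (by simp)), ?_⟩
          simp only [hu0, zero_add, B.refl.semi.add_left, B.refl.semi.smul_left, B.alt, mul_zero]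
          exact mul_ne_zero hb hnv
      · obtain ⟨z, hz, huz⟩ := (hUn u hu hu0).2
        refine ⟨z, Submodule.mem_sup_left hz, ?_⟩
        simp only [B.refl.semi.add_left, B.refl.semi.smul_left, hv₀ z hz, hw₀ z hz, mul_zero, add_zero]
        exact huz
  intro v
  by_cases hv : v = 0
  · rw [hv]; exact h0
  obtain ⟨s, hs, hvs⟩ : ∃ s, S s ∧ f v s ≠ 0 := by
    by_contra h
    push Not at h
    exact hv (hS0 v h)
  obtain ⟨w, hw, hsw, -⟩ := hSc s s hs hs
  -- the starting plane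
  obtain ⟨U₀, hU₀⟩ : ∃ U₀, U₀ = Submodule.span F ({s, w} : Set (ι → F)) := ⟨_, rfl⟩
  have h0T : ∀ u ∈ U₀, T u := fun u hu => by
    obtain ⟨a, b, rfl⟩ := Submodule.mem_span_pair.mp (hU₀ ▸ hu)
    by_cases ha : a = 0
    · rw [ha, zero_smul, zero_add]; exact hsm b _ (hST _ hw)
    · refine hP _ _ (hsm a _ (hST _ hs)) (hST _ hw) ?_ b
      rw [B.refl.semi.smul_left]
      exact mul_ne_zero ha hsw
  have h0n : IsNondegenerateOn f U₀ := fun u hu hu0 => by
    obtain ⟨a, b, rfl⟩ := Submodule.mem_span_pair.mp (hU₀ ▸ hu)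
    suffices h : ∃ z ∈ U₀, f (a • s + b • w) z ≠ 0 by
      obtain ⟨z, hz, hxz⟩ := h
      exact ⟨⟨z, hz, fun e => hxz (B.refl.eq_zero_swap e)⟩, z, hz, hxz⟩
    by_cases ha : a = 0
    · have hb : b ≠ 0 := fun h => hu0 (by simp [ha, h])
      refine ⟨s, hU₀ ▸ Submodule.subset_span (by simp), ?_⟩
      simp only [ha, zero_smul, zero_add, B.refl.semi.smul_left, B.swap s w]
      exact mul_ne_zero hb (neg_ne_zero.mpr hsw)
    · refine ⟨w, hU₀ ▸ Submodule.subset_span (by simp), ?_⟩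
      simp only [B.refl.semi.add_left, B.refl.semi.smul_left, B.alt, mul_zero, add_zero]
      exact mul_ne_zero ha hsw
  have h0b : U₀ ≠ ⊥ := fun e => hsw (by
    have : s = 0 := (Submodule.mem_bot F).mp (e ▸ hU₀ ▸ Submodule.subset_span (by simp))
    rw [this, B.refl.zero_left])
  suffices key : ∀ k (U : Submodule F (ι → F)), Fintype.card ι ≤ finrank F U + k → U ≠ ⊥ → (∀ u ∈ U, T u) →
      IsNondegenerateOn f U → T v from key _ U₀ (Nat.le_add_left _ _) h0b h0T h0n
  intro k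
  induction k with
  | zero =>
    intro U hk _ hUT _
    have : U = ⊤ := Submodule.eq_top_of_finrank_eq (le_antisymm (Submodule.finrank_le _)
      (by rw [Module.finrank_fintype_fun_eq_card]; omega))
    exact hUT v (this ▸ Submodule.mem_top)
  | succ k ih =>
    intro U hk hU hUT hUn
    by_cases htop : U = ⊤
    · exact hUT v (htop ▸ Submodule.mem_top)
    obtain ⟨U', hlt, hU', hUT', hUn'⟩ := step U hU hUT hUn htop
    have := Submodule.finrank_lt_finrank_of_lt hlt
    exact ih U' (by omega) hU' hUT' hUn'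

end Grow

section Sing

variable {α : Type} [Fintype α] [DecidableEq α] {F : Type*} [Field F] {fo : (α → F) → (α → F) → F}

theorem symm_of (O : IsReflexForm (RingEquiv.refl F) 1 fo) (u v : α → F) : fo v u = fo u v := by
  rw [O.swap u v, one_mul]; rfl

/-- Reflections, for a bare symmetric space. -/
theorem exists_refl (O : IsReflexForm (RingEquiv.refl F) 1 fo) {v : α → F} (hv : fo v v ≠ 0) :
    ∃ r : GL α F, (∀ x, (r : Matrix α α F) *ᵥ x = x - (2 * fo x v / fo v v) • v) ∧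
      ∀ x y, fo ((r : Matrix α α F) *ᵥ x) ((r : Matrix α α F) *ᵥ y) = fo x y := by
  have hsl : ∀ u w z, fo (u - w) z = fo u z - fo w z := fun u w z => by
    rw [sub_eq_add_neg, O.semi.add_left, O.neg_left, sub_eq_add_neg]
  have hsr : ∀ u w z, fo z (u - w) = fo z u - fo z w := fun u w z => by
    rw [symm_of O (u - w) z, hsl, symm_of O u z, symm_of O w z]
  have hmr : ∀ (c : F) u w, fo u (c • w) = c * fo u w := fun c u w => by rw [O.semi.smul_right]; rfl
  let L : (α → F) →ₗ[F] (α → F) :=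
    { toFun := fun x => x - (2 * fo x v / fo v v) • v
      map_add' := fun x y => by rw [O.semi.add_left, mul_add, add_div, add_smul]; abel
      map_smul' := fun c x => by
        rw [O.semi.smul_left, RingHom.id_apply, smul_sub, smul_smul]
        congr 2
        ring }
  have hM : ∀ x, LinearMap.toMatrix' L *ᵥ x = x - (2 * fo x v / fo v v) • v := fun x => by
    rw [← Matrix.toLin'_apply, Matrix.toLin'_toMatrix']; rfl
  have hinv : LinearMap.toMatrix' L * LinearMap.toMatrix' L = 1 :=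
    Matrix.toLin'.injective (LinearMap.ext fun x => by
      simp only [Matrix.toLin'_apply, ← Matrix.mulVec_mulVec, hM, Matrix.one_mulVec, hsl, O.semi.smul_left]
      match_scalars <;> field_simp <;> ring)
  refine ⟨⟨_, _, hinv, hinv⟩, hM, fun x y => ?_⟩
  simp only [hM, hsl, hsr, O.semi.smul_left, hmr, symm_of O y v]
  field_simp
  ring

/-- The orthogonal group moves a singular vector to one not orthogonal to it. -/
theorem refl_move (O : IsReflexForm (RingEquiv.refl F) 1 fo) (h2 : (2 : F) ≠ 0) {e e' : α → F}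
    (he : fo e e = 0) (he' : fo e' e' = 0) (hee : fo e e' ≠ 0) :
    ∃ r : GL α F, (r : Matrix α α F) *ᵥ e = e' ∧
      ∀ x y, fo ((r : Matrix α α F) *ᵥ x) ((r : Matrix α α F) *ᵥ y) = fo x y := by
  have hs : ∀ u w z, fo (u - w) z = fo u z - fo w z := fun u w z => by
    rw [sub_eq_add_neg, O.semi.add_left, O.neg_left, sub_eq_add_neg]
  have hd : fo e (e - e') = -fo e e' := by
    rw [symm_of O (e - e') e, hs, he, symm_of O e e', zero_sub]
  have hdd : fo (e - e') (e - e') = 2 * -fo e e' := by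
    rw [hs, hd, symm_of O (e - e') e', hs, he', sub_zero]; ring
  obtain ⟨r, hr, hri⟩ := exists_refl O (v := e - e') (by rw [hdd]; exact mul_ne_zero h2 (neg_ne_zero.mpr hee))
  refine ⟨r, ?_, hri⟩
  rw [hr, hd, hdd, div_self (mul_ne_zero h2 (neg_ne_zero.mpr hee)), one_smul, sub_sub_cancel]

/-- Common non-orthogonal singular vectors. -/
theorem sing_nbr (O : IsReflexForm (RingEquiv.refl F) 1 fo) (h2 : (2 : F) ≠ 0) (hd : 3 ≤ Fintype.card α)
    {e e' : α → F} (he0 : e ≠ 0) (he'0 : e' ≠ 0) (he : fo e e = 0) (he' : fo e' e' = 0) :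
    ∃ z, fo z z = 0 ∧ fo e z ≠ 0 ∧ fo e' z ≠ 0 := by
  have hmr : ∀ (c : F) u w, fo u (c • w) = c * fo u w := fun c u w => by rw [O.semi.smul_right]; rfl
  by_cases hee : fo e e' = 0
  · obtain ⟨a, ha⟩ := (O.nondeg e he0).2
    obtain ⟨b, hb⟩ := (O.nondeg e' he'0).2
    obtain ⟨z, hz, hz'⟩ : ∃ z, fo e z ≠ 0 ∧ fo e' z ≠ 0 := by
      by_cases h : fo e' a = 0
      · by_cases h' : fo e b = 0
        · refine ⟨a + b, ?_, ?_⟩
          · rw [O.semi.add_right, h', add_zero]; exact ha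
          · rw [O.semi.add_right, h, zero_add]; exact hb
        · exact ⟨b, h', hb⟩
      · exact ⟨a, ha, h⟩
    refine ⟨z + (-(fo z z) / (2 * fo e z)) • e, ?_, ?_, ?_⟩
    · simp only [O.semi.add_left, O.semi.add_right, O.semi.smul_left, hmr, he, symm_of O e z]
      field_simp
      ring
    · rw [O.semi.add_right, hmr, he, mul_zero, add_zero]; exact hz
    · rw [O.semi.add_right, hmr, symm_of O e e', hee, mul_zero, add_zero]; exact hz'
  obtain ⟨n, hn, hnn⟩ : ∃ n, (fo n e = 0 ∧ fo n e' = 0) ∧ fo n n ≠ 0 := by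
    by_contra hcon
    push Not at hcon
    obtain ⟨d, hd1, hd0⟩ := Submodule.exists_mem_ne_zero_of_ne_bot
      (p := O.perp (Submodule.span F ({e, e'} : Set (α → F)))) fun h => by
        have h1 := O.finrank_perp (Submodule.span F ({e, e'} : Set (α → F)))
        have h3 : finrank F (Submodule.span F ({e, e'} : Set (α → F))) ≤ 2 := by
          have := finrank_span_finset_le_card (R := F) ({e, e'} : Finset (α → F))
          rw [Finset.coe_pair] at this
          exact this.trans Finset.card_le_two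
        rw [h, finrank_bot] at h1
        omega
    have hde : fo d e = 0 := hd1 e (Submodule.subset_span (by simp))
    have hde' : fo d e' = 0 := hd1 e' (Submodule.subset_span (by simp))
    obtain ⟨z, hz⟩ := (O.nondeg d hd0).2
    obtain ⟨z', hz'⟩ : ∃ z', z' = z + (-(fo z e') / fo e e') • e + (-(fo z e) / fo e e') • e' := ⟨_, rfl⟩
    have k1 : fo z' e = 0 := by
      simp only [hz', O.semi.add_left, O.semi.smul_left, he, symm_of O e e']; field_simp; ring
    have k2 : fo z' e' = 0 := by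
      simp only [hz', O.semi.add_left, O.semi.smul_left, he']; field_simp; ring
    have k3 : fo d z' = fo d z := by simp only [hz', O.semi.add_right, hmr, hde, hde']; ring
    have q1 := hcon d ⟨hde, hde'⟩
    have q2 := hcon z' ⟨k1, k2⟩
    have q3 := hcon (d + z') ⟨by rw [O.semi.add_left, hde, k1, add_zero], by rw [O.semi.add_left, hde', k2, add_zero]⟩
    rw [O.semi.add_left, O.semi.add_right, O.semi.add_right, q1, q2, symm_of O d z', k3] at q3
    exact hz ((mul_eq_zero.mp (show (2 : F) * fo d z = 0 by linear_combination q3)).resolve_left h2)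
  refine ⟨e + n + (-(fo n n) / (2 * fo e e')) • e', ?_, ?_, ?_⟩
  · simp only [O.semi.add_left, O.semi.add_right, O.semi.smul_left, hmr, he, he', hn.1, hn.2, symm_of O e e',
      symm_of O n e, symm_of O n e']
    field_simp
    ring
  · simp only [O.semi.add_right, hmr, he, symm_of O n e, hn.1, zero_add]
    exact mul_ne_zero (div_ne_zero (neg_ne_zero.mpr hnn) (mul_ne_zero h2 hee)) hee
  · simp only [O.semi.add_right, hmr, he', symm_of O e e', symm_of O n e', hn.2, mul_zero, add_zero]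
    exact hee

end Sing

variable {F : Type*} [Field F] [Fintype F] {m n₁ n₂ : ℕ}

local notation "κ" => Fin n₂ × Fin n₁
local notation:max g:max " ⬝ₘ " x:max =>
  ((g : GL (Fin n₂ × Fin n₁) F) : Matrix (Fin n₂ × Fin n₁) (Fin n₂ × Fin n₁) F) *ᵥ x

/-- The stabiliser is maximal in the symplectic group. -/
theorem isMaximalIn_sp_of (hodd : Odd (Fintype.card F)) (h3 : 3 ≤ n₂) (hex : 5 ≤ Fintype.card F ∨ 4 ≤ n₂)
    (e : (Fin m ⊕ Fin m) ≃ Fin n₁ × Fin n₂) (P : GL (Fin m ⊕ Fin m) F)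
    (f₁ : (Fin n₁ → F) → (Fin n₁ → F) → F) (f₂ : (Fin n₂ → F) → (Fin n₂ → F) → F)
    (hsh : n₁ = 2 ∧ (n₂ = 4 → Aniso f₂) ∨ 4 ≤ n₁)
    (hf₁ : IsSymplecticForm f₁) (hf₂ : IsSymmetricForm f₂)
    (hT : IsTensorFormStructure id (sympForm m F) f₁ f₂ e P) :
    IsMaximalIn (spGL m F) (tensorProductSubgroup n₁ n₂ e P ⊓ spGL m F) := by
  classical
  rw [← TNotMax.tensorProductSubgroup_swap]
  obtain ⟨e', he'⟩ : ∃ e', e' = TNotMax.swapIdx e := ⟨_, rfl⟩
  rw [← he']
  obtain ⟨c, hc, hT⟩ := TNotMax.structure_swap hT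
  rw [← he'] at hT
  have h2 : (2 : F) ≠ 0 := fun h => by
    have hchar : ringChar F = 2 := CharP.ringChar_of_prime_eq_zero Nat.prime_two (by exact_mod_cast h)
    exact (Nat.not_even_iff_odd.mpr hodd) (Nat.even_iff.mpr (FiniteField.even_card_of_char_two hchar))
  have O := reflexForm_of_symmetric hf₂
  have B : SForm f₁ := ⟨reflexForm_of_symplectic hf₁, hf₁.alternating⟩
  have D : Data (RingEquiv.refl F) 1 (-1) f₂ f₁ := ⟨O, B.refl⟩
  have S : SForm (sympForm m F) := ⟨reflexForm_of_symplectic sympForm_isSymplectic, sympForm_isSymplectic.alternating⟩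
  let T : (κ → F) →ₗ[F] (Fin m ⊕ Fin m → F) :=
    (P : Matrix (Fin m ⊕ Fin m) (Fin m ⊕ Fin m) F).mulVecLin ∘ₗ LinearMap.funLeft F F (e' : Fin m ⊕ Fin m → κ)
  have hTapp : ∀ x, T x = (P : Matrix (Fin m ⊕ Fin m) (Fin m ⊕ Fin m) F) *ᵥ (x ∘ e') := fun x => rfl
  have hTh : ∀ x y, sympForm m F (T x) (T y) = c * tf (RingEquiv.refl F) f₂ f₁ x y := fun x y => hT x y
  have hTsurj : ∀ v, ∃ x, T x = v := fun v =>
    ⟨(((P⁻¹ : GL (Fin m ⊕ Fin m) F) : Matrix (Fin m ⊕ Fin m) (Fin m ⊕ Fin m) F) *ᵥ v) ∘ e'.symm, by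
      rw [hTapp]
      simp only [Function.comp_assoc, Equiv.symm_comp_self, Function.comp_id, gl_mulVec_inv_cancel]⟩
  have hTinj : ∀ {x y}, T x = T y → x = y := fun {x y} h => by
    rw [hTapp, hTapp] at h
    exact e'.surjective.injective_comp_right (gl_mulVec_injective P h)
  let φ : GL κ F ≃* GL (Fin m ⊕ Fin m) F := (glReindex (F := F) e'.symm).trans (MulAut.conj P)
  have hφ : ∀ g x, ((φ g : GL (Fin m ⊕ Fin m) F) : Matrix (Fin m ⊕ Fin m) (Fin m ⊕ Fin m) F) *ᵥ T x =
      T (g ⬝ₘ x) := fun g x => by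
    have hre : ((glReindex (F := F) e'.symm g : GL (Fin m ⊕ Fin m) F) : Matrix (Fin m ⊕ Fin m) (Fin m ⊕ Fin m) F) =
        (g : Matrix κ κ F).submatrix e' e' := rfl
    simp only [hTapp, φ, MulEquiv.trans_apply, MulAut.conj_apply, gl_mul_mulVec, gl_inv_mulVec_cancel]
    rw [hre, Matrix.submatrix_mulVec_equiv, Function.comp_assoc, Equiv.self_comp_symm, Function.comp_id]
  have hkr : ∀ g, φ g ∈ tensorProductSubgroup n₂ n₁ e' P ↔ g ∈ Kr (Fin n₂) (Fin n₁) F := fun g => by
    constructor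
    · rintro ⟨y, ⟨x, ⟨a, b, hab⟩, rfl⟩, hy⟩
      have : φ x = φ g := hy
      rw [← φ.injective this]
      exact ⟨a, b, Units.ext hab⟩
    · rintro ⟨a, b, rfl⟩
      exact ⟨_, ⟨_, ⟨a, b, rfl⟩, rfl⟩, rfl⟩
  have hiso : ∀ g, φ g ∈ spGL m F ↔ ∀ x y,
      tf (RingEquiv.refl F) f₂ f₁ (g ⬝ₘ x) (g ⬝ₘ y) = tf (RingEquiv.refl F) f₂ f₁ x y := fun g => by
    constructor
    · intro hg x y
      have := hg (T x) (T y)
      change sympForm m F _ _ = sympForm m F _ _ at this
      rw [show glToMat _ F (φ g) *ᵥ T x = T (g ⬝ₘ x) from hφ g x,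
        show glToMat _ F (φ g) *ᵥ T y = T (g ⬝ₘ y) from hφ g y, hTh, hTh] at this
      exact mul_left_cancel₀ hc this
    · intro hg u v
      obtain ⟨x, rfl⟩ := hTsurj u
      obtain ⟨y, rfl⟩ := hTsurj v
      rw [show glToMat _ F (φ g) *ᵥ T x = T (g ⬝ₘ x) from hφ g x,
        show glToMat _ F (φ g) *ᵥ T y = T (g ⬝ₘ y) from hφ g y, hTh, hTh, hg]
  have hd : 3 ≤ Fintype.card (Fin n₂) := by rwa [Fintype.card_fin]
  have hex' : (∃ a : F, a ≠ 0 ∧ a ^ 2 ≠ 1) ∨ 4 ≤ Fintype.card (Fin n₂) := by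
    rw [Fintype.card_fin]
    rcases hex with hq | h4
    · left
      by_contra hcon
      push Not at hcon
      have hsub : (Finset.univ : Finset F) ⊆ {0, 1, -1} := fun a _ => by
        by_cases ha : a = 0
        · simp [ha]
        · rcases sq_eq_one_iff.mp (hcon a ha) with h | h <;> simp [h]
      have := (Finset.card_le_card hsub).trans Finset.card_le_three
      rw [Finset.card_univ] at this
      omega
    · exact Or.inr h4
  have hbasic : ∀ K : Subgroup (GL (Fin m ⊕ Fin m) F), tensorProductSubgroup n₂ n₁ e' P ⊓ spGL m F ≤ K →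
      K ≤ spGL m F → K ≤ tensorProductSubgroup n₂ n₁ e' P ⊓ spGL m F ∨
      ∃ (u : Fin n₂ → F) (o : Fin n₁ → F), u ≠ 0 ∧ o ≠ 0 ∧ f₂ u u = 0 ∧
        ∀ k t, SpOver.Tv t (T (tm u o)) k → t ∈ K := by
    intro K hK hKS
    obtain ⟨X, hXdef⟩ : ∃ X, X = K.comap φ.toMonoidHom := ⟨_, rfl⟩
    have hX : ∀ g, g ∈ X ↔ φ g ∈ K := fun g => by rw [hXdef]; rfl
    by_cases hno : ∀ (u : Fin n₂ → F) (o : Fin n₁ → F), u ≠ 0 → o ≠ 0 → f₂ u u = 0 →
        ¬ ∀ k : F, InC f₁ X o fun a => (k * f₂ a u) • u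
    · have C : Ctx f₂ f₁ X :=
        { o := O
          s := B
          h2 := h2
          dim := hd
          hex := hex'
          iso := fun g hg => (hiso g).mp (hKS ((hX g).mp hg))
          small := fun g hg hi => (hX g).mpr (hK ⟨(hkr g).mpr hg, (hiso g).mpr hi⟩)
          noTv := hno }
      refine Or.inl fun g hg => ⟨?_, hKS hg⟩
      obtain ⟨g', rfl⟩ := φ.surjective g
      refine (hkr g').mpr (le_kr C ?_ ((hX g').mpr hg))
      simpa [Fintype.card_fin] using hsh
    · push Not at hno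
      obtain ⟨u, o, hu, ho, huu, hk⟩ := hno
      refine Or.inr ⟨u, o, hu, ho, huu, fun k t ht => ?_⟩
      obtain ⟨g, hg, hgx⟩ := hk (k * c)
      rw [show t = φ g from gl_ext_mulVec fun x => by
        obtain ⟨y, rfl⟩ := hTsurj x
        rw [ht, hφ, hgx, hTh, map_add]
        beta_reduce
        rw [← tf_tm_right D, tm_smul_left, map_smul, mul_assoc]]
      exact (hX g).mp hg
  refine ⟨lt_of_le_of_ne inf_le_right fun hEq => ?_, fun K hK hKS => ?_⟩
  · -- a transvection at a singular pure tensor is not a Kronecker product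
    obtain ⟨b₁, hb₁⟩ : ∃ a, f₂ a a ≠ 0 := by
      by_contra hz
      push Not at hz
      have h0 : ∀ a b, f₂ a b = 0 := fun a b => by
        have := hz (a + b)
        rw [hf₂.bilinear.add_left, hf₂.bilinear.add_right, hf₂.bilinear.add_right, hz, hz, hf₂.symm b a, zero_add,
          add_zero, ← two_mul] at this
        exact (mul_eq_zero.mp this).resolve_left h2
      obtain ⟨x, hx⟩ := (O.nondeg (Pi.single ⟨0, by omega⟩ 1) (by simp)).2
      exact hx (h0 _ _)
    have C : Ctx f₂ f₁ ((tensorProductSubgroup n₂ n₁ e' P ⊓ spGL m F).comap φ.toMonoidHom) :=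
      { o := O
        s := B
        h2 := h2
        dim := hd
        hex := hex'
        iso := fun g hg => (hiso g).mp hg.2
        small := fun g hg hi => ⟨(hkr g).mpr hg, (hiso g).mpr hi⟩
        noTv := fun u o hu ho huu hall => by
          obtain ⟨g, hg, hgx⟩ := hall 1
          obtain ⟨r, s, hrs⟩ := (hkr g).mp hg.1
          obtain ⟨a₀, ha₀⟩ := (O.nondeg u hu).2
          obtain ⟨a, ha⟩ : ∃ a, f₂ a u = 1 := ⟨(f₂ u a₀)⁻¹ • a₀, by
            rw [hf₂.bilinear.smul_left, hf₂.symm a₀ u, inv_mul_cancel₀ ha₀]⟩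
          obtain ⟨o', ho'⟩ := Form.partner D ho
          have e := hgx (tm a o')
          rw [hrs, kr_tm, ctr_tm D, ho', one_smul] at e
          beta_reduce at e
          rw [one_mul, ha, one_smul] at e
          obtain ⟨p, hp⟩ : ∃ p, p = (r : Matrix (Fin n₂) (Fin n₂) F) *ᵥ a := ⟨_, rfl⟩
          obtain ⟨q, hq⟩ : ∃ q, q = (s : Matrix (Fin n₁) (Fin n₁) F) *ᵥ o' := ⟨_, rfl⟩
          rw [← hp, ← hq] at e
          have e1 := congrArg (ctr f₁ o) e
          have e2 := congrArg (ctr f₁ o') e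
          rw [ctr_add D, ctr_tm D, ctr_tm D, ctr_tm D, B.alt, zero_smul, add_zero, ho', one_smul] at e1
          rw [ctr_add D, ctr_tm D, ctr_tm D, ctr_tm D, B.alt, zero_smul, zero_add, B.swap o' o, ho', neg_smul,
            one_smul] at e2
          have hu' : u = (-f₁ q o') • p := by rw [neg_smul, e2, neg_neg]
          have hpp : f₁ q o' * f₁ q o' * f₂ p p = 0 := by
            rw [hu', hf₂.bilinear.smul_left, hf₂.bilinear.smul_right] at huu
            linear_combination huu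
          rw [← e1, hu', hf₂.bilinear.smul_left, hf₂.bilinear.smul_right] at ha
          rcases mul_eq_zero.mp hpp with h | h
          · rw [mul_self_eq_zero.mp h] at ha; simp at ha
          · rw [h] at ha; simp at ha }
    obtain ⟨b₂, hb₂, hb₂₁⟩ := C.exists_orth ![b₁] (fun i => by fin_cases i; exact hb₁)
      (fun i j hij => absurd (Subsingleton.elim i j) hij) (by omega)
    have hb12 : f₂ b₁ b₂ = 0 := by rw [hf₂.symm]; exact hb₂₁ 0
    obtain ⟨b₃, hb₃, hb31, hb32⟩ := C.exists_third hb₁ hb₂ hb12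
    obtain ⟨u, hu, huu, -⟩ := C.exists_iso3 hb₁ hb₂ hb₃ hb12 (by rw [hf₂.symm]; exact hb31)
      (by rw [hf₂.symm]; exact hb32)
    obtain ⟨o, ho⟩ : ∃ o : Fin n₁ → F, o ≠ 0 := ⟨Pi.single ⟨0, by omega⟩ 1, by simp⟩
    refine C.noTv u o hu ho huu fun k => ?_
    obtain ⟨t, hts, ht⟩ := exists_sp_transvection (T (tm u o)) (k / c)
    obtain ⟨g, rfl⟩ := φ.surjective t
    refine ⟨g, hEq.symm ▸ hts, fun x => hTinj ?_⟩
    rw [← hφ, ht, hTh, map_add]
    beta_reduce
    rw [← tf_tm_right D, tm_smul_left, map_smul]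
    congr 2
    field_simp
  rcases hbasic K hK hKS with hle | ⟨u, o, hu, ho, huu, hall⟩
  · exact Or.inl (le_antisymm hle hK)
  refine Or.inr (le_antisymm hKS ?_)
  -- all pure singular tensors are centres
  have hmove : ∀ (v : Fin m ⊕ Fin m → F) (k : GL (Fin m ⊕ Fin m) F), k ∈ K →
      (∀ d t, SpOver.Tv t v d → t ∈ K) → ∀ d t,
      SpOver.Tv t ((k : Matrix (Fin m ⊕ Fin m) (Fin m ⊕ Fin m) F) *ᵥ v) d → t ∈ K := fun v k hk hv d t ht => by
    obtain ⟨s, -, hs⟩ := exists_sp_transvection v d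
    rw [SpOver.tv_unique ht (SpOver.tv_conj (hKS hk) hs)]
    exact mul_mem (mul_mem hk (hv d s hs)) (inv_mem hk)
  have hKiso : ∀ (r : GL (Fin n₂) F) (s : GL (Fin n₁) F),
      (∀ a b, f₂ ((r : Matrix (Fin n₂) (Fin n₂) F) *ᵥ a) ((r : Matrix (Fin n₂) (Fin n₂) F) *ᵥ b) = f₂ a b) →
      (∀ a b, f₁ ((s : Matrix (Fin n₁) (Fin n₁) F) *ᵥ a) ((s : Matrix (Fin n₁) (Fin n₁) F) *ᵥ b) = f₁ a b) →
      φ (kr r s) ∈ K := fun r s hr hs => hK ⟨(hkr _).mpr ⟨r, s, rfl⟩, (hiso _).mpr fun x y => by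
        have hR : ∀ (v : κ → F) (t : Fin n₂ → κ → F), tf (RingEquiv.refl F) f₂ f₁ v (∑ i, t i) =
            ∑ i, tf (RingEquiv.refl F) f₂ f₁ v (t i) := fun v t =>
          map_sum (AddMonoidHom.mk' (fun w => tf (RingEquiv.refl F) f₂ f₁ v w) ((tf_semi D).add_right v)) t Finset.univ
        conv_rhs => rw [sum_rows x, sum_rows y]
        conv_lhs => rw [sum_rows x, sum_rows y]
        simp only [Matrix.mulVec_sum, (reflex D).sum_left, hR, kr_tm, tf_tm D, hr, hs]⟩
  have hone : ∀ a b : Fin n₁ → F, f₁ (((1 : GL (Fin n₁) F) : Matrix (Fin n₁) (Fin n₁) F) *ᵥ a)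
      (((1 : GL (Fin n₁) F) : Matrix (Fin n₁) (Fin n₁) F) *ᵥ b) = f₁ a b := fun a b => by simp
  have step : ∀ a a' : Fin n₂ → F, f₂ a a = 0 → f₂ a' a' = 0 → f₂ a a' ≠ 0 →
      (∀ d t, SpOver.Tv t (T (tm a o)) d → t ∈ K) → ∀ d t, SpOver.Tv t (T (tm a' o)) d → t ∈ K := by
    intro a a' ha ha' haa h
    obtain ⟨r, hre, hri⟩ := refl_move O h2 ha ha' haa
    have := hmove _ _ (hKiso r 1 hri hone) h
    rwa [hφ, kr_tm, hre, Units.val_one, Matrix.one_mulVec] at this
  have hsing : ∀ (a : Fin n₂ → F) (w : Fin n₁ → F), a ≠ 0 → w ≠ 0 → f₂ a a = 0 →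
      ∀ d t, SpOver.Tv t (T (tm a w)) d → t ∈ K := by
    intro a w ha hw haa
    obtain ⟨z, hz, hz1, hz2⟩ := sing_nbr O h2 hd hu ha huu haa
    have h1 := step z a hz haa (by rw [hf₂.symm]; exact hz2) (step u z huu hz hz1 hall)
    obtain ⟨s, hs, hso⟩ := tmove_one B ho hw
    have := hmove _ _ (hKiso 1 s (fun _ _ => by simp) (tgen_iso B hs).2) h1
    rwa [hφ, kr_tm, hso, Units.val_one, Matrix.one_mulVec] at this
  refine SpOver.spGL_le fun v d t ht => ?_
  refine grow S h2 (T := fun v => ∀ d t, SpOver.Tv t v d → t ∈ K)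
    (S := fun v => ∃ a w, a ≠ 0 ∧ w ≠ 0 ∧ f₂ a a = 0 ∧ v = T (tm a w)) ?_ ?_ ?_ ?_ ?_ ?_ v d t ht
  · intro d t ht
    rw [show t = 1 from gl_ext_mulVec fun x => by rw [ht, Units.val_one, Matrix.one_mulVec]; simp]
    exact one_mem K
  · intro s v hv d t ht
    exact hv _ t (SpOver.tv_smul s ht)
  · intro x y hx hy hxy k
    obtain ⟨t, -, ht⟩ := exists_sp_transvection y (k / sympForm m F x y)
    have e : (t : Matrix (Fin m ⊕ Fin m) (Fin m ⊕ Fin m) F) *ᵥ x = x + k • y := by
      rw [ht, div_mul_cancel₀ _ hxy]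
    rw [← e]
    exact hmove x t (hy _ t ht) hx
  · rintro v ⟨a, w, ha, hw, haa, rfl⟩
    exact hsing a w ha hw haa
  · intro d hdS
    obtain ⟨x, rfl⟩ := hTsurj d
    suffices x = 0 by rw [this, map_zero]
    by_contra hx
    obtain ⟨p, hp⟩ := Function.ne_iff.mp hx
    obtain ⟨w, hw⟩ := (B.refl.nondeg (row x p.1) (Function.ne_iff.mpr ⟨p.2, hp⟩)).2
    have hw0 : w ≠ 0 := fun h => hw (by rw [h, B.refl.zero_right])
    obtain ⟨y, hy⟩ : ∃ y, y = ctr f₁ w x := ⟨_, rfl⟩
    have hy0 : y ≠ 0 := hy ▸ Function.ne_iff.mpr ⟨p.1, hw⟩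
    have hperp : ∀ a, a ≠ 0 → f₂ a a = 0 → f₂ y a = 0 := fun a ha haa => by
      have := hdS _ ⟨a, w, ha, hw0, haa, rfl⟩
      rw [hTh, tf_tm_right D, ← hy] at this
      exact (mul_eq_zero.mp this).resolve_left hc
    -- singular vectors span
    obtain ⟨z₀, hz₀⟩ := (O.nondeg y hy0).2
    have hu1 := hperp u hu huu
    have hcase : ∀ z, f₂ z u ≠ 0 → f₂ y z = 0 := fun z hz => by
      have hq : f₂ (z + (-(f₂ z z) / (2 * f₂ z u)) • u) (z + (-(f₂ z z) / (2 * f₂ z u)) • u) = 0 := by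
        simp only [hf₂.bilinear.add_left, hf₂.bilinear.add_right, hf₂.bilinear.smul_left, hf₂.bilinear.smul_right,
          huu, hf₂.symm u z]
        field_simp
        ring
      have hne : z + (-(f₂ z z) / (2 * f₂ z u)) • u ≠ 0 := fun h => hz (by
        have := congrArg (fun b => f₂ b u) h
        simp only [hf₂.bilinear.add_left, hf₂.bilinear.smul_left, huu, O.zero_left, mul_zero, add_zero] at this
        exact this)
      have := hperp _ hne hq
      rwa [hf₂.bilinear.add_right, hf₂.bilinear.smul_right, hu1, mul_zero, add_zero] at this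
    by_cases hz : f₂ z₀ u = 0
    · obtain ⟨z₁, hz₁⟩ := (O.nondeg u hu).2
      rw [hf₂.symm] at hz₁
      have a1 := hcase _ hz₁
      have a2 := hcase (z₀ + z₁) (by rw [hf₂.bilinear.add_left, hz, zero_add]; exact hz₁)
      rw [hf₂.bilinear.add_right, a1, add_zero] at a2
      exact hz₀ a2
    · exact hz₀ (hcase _ hz)
  · rintro x y ⟨a, w, ha, hw, haa, rfl⟩ ⟨b, v', hb, hv', hbb, rfl⟩
    obtain ⟨z, hz, hz1, hz2⟩ := sing_nbr O h2 hd ha hb haa hbb
    obtain ⟨p, hp⟩ := (B.refl.nondeg w hw).2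
    obtain ⟨q, hq⟩ := (B.refl.nondeg v' hv').2
    obtain ⟨r, hr1, hr2⟩ : ∃ r, f₁ w r ≠ 0 ∧ f₁ v' r ≠ 0 := by
      by_cases h : f₁ v' p = 0
      · by_cases h' : f₁ w q = 0
        · refine ⟨p + q, ?_, ?_⟩
          · rw [B.refl.semi.add_right, h', add_zero]; exact hp
          · rw [B.refl.semi.add_right, h, zero_add]; exact hq
        · exact ⟨q, h', hq⟩
      · exact ⟨p, hp, h⟩
    refine ⟨_, ⟨z, r, fun h => hz1 (by rw [h, O.zero_right]), fun h => hr1 (by rw [h, B.refl.zero_right]), hz, rfl⟩,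
      ?_, ?_⟩
    · rw [hTh, tf_tm D]; exact mul_ne_zero hc (mul_ne_zero hz1 hr1)
    · rw [hTh, tf_tm D]; exact mul_ne_zero hc (mul_ne_zero hz2 hr2)

/-- The stabiliser is maximal, the symmetric factor not of dimension four beside a plane. -/
theorem isMaximalIn_sp (hodd : Odd (Fintype.card F)) (h3 : 3 ≤ n₂) (hex : 5 ≤ Fintype.card F ∨ 4 ≤ n₂)
    (hsh : n₁ = 2 ∧ n₂ ≠ 4 ∨ 4 ≤ n₁) (e : (Fin m ⊕ Fin m) ≃ Fin n₁ × Fin n₂) (P : GL (Fin m ⊕ Fin m) F)
    (f₁ : (Fin n₁ → F) → (Fin n₁ → F) → F) (f₂ : (Fin n₂ → F) → (Fin n₂ → F) → F)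
    (hf₁ : IsSymplecticForm f₁) (hf₂ : IsSymmetricForm f₂)
    (hT : IsTensorFormStructure id (sympForm m F) f₁ f₂ e P) :
    IsMaximalIn (spGL m F) (tensorProductSubgroup n₁ n₂ e P ⊓ spGL m F) :=
  isMaximalIn_sp_of hodd h3 hex e P f₁ f₂ (hsh.imp_left fun h => ⟨h.1, fun e => absurd e h.2⟩) hf₁ hf₂ hT

end Cfsg.Agent.Classical.TensorMax.SpO
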